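import Cfsg.Agent.Lib.C7F.Main
import Cfsg.Agent.Lib.Linear.AltObstruction

/-!
# The wreath stabiliser of an alternating tensor power

* `ofForm` : the structure `Fm` of a symplectic form
* `Fm.even_k`, `Fm.perm_iso`, `Fm.ovg`, `Fm.isoGrp_le_of_big`, `Fm.transvection_notMem`
* `Fm.isMaximalIn_isoGrp` : maximality in the symplectic case
* `carry`, `app_carry` : change of coordinates
-/

set_option autoImplicit false
set_option linter.unusedSectionVars false

namespace Cfsg.Agent.C7F

open Matrix Module Cfsg.Agent.Transvect Cfsg.Agent.C7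
open scoped MatrixGroups

attribute [-simp] app_apply

variable {F : Type*} [Field F] {k t : ℕ}

/-- The alternating space of a symplectic form. -/
noncomputable def ofForm (h2 : (2 : F) ≠ 0) {f : (Fin k → F) → (Fin k → F) → F}
    (hf : Cfsg.Geo.IsSymplecticForm f) : Fm F k where
  f := LinearMap.mk₂ F f hf.bilinear.add_left
    (fun c x v => by rw [hf.bilinear.smul_left, smul_eq_mul]) hf.bilinear.add_right
    (fun c v x => by rw [hf.bilinear.smul_right, smul_eq_mul])
  alt := hf.alternating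
  nd := fun u h => by
    by_contra hu
    obtain ⟨-, x, hx⟩ := hf.nondegenerate u hu
    exact hx (h x)
  two := h2

lemma ofForm_f (h2 : (2 : F) ≠ 0) {f : (Fin k → F) → (Fin k → F) → F}
    (hf : Cfsg.Geo.IsSymplecticForm f) (u v : Fin k → F) : (ofForm h2 hf).f u v = f u v := rfl

lemma B_ofForm (h2 : (2 : F) ≠ 0) {f : (Fin k → F) → (Fin k → F) → F}
    (hf : Cfsg.Geo.IsSymplecticForm f) (x y : J k t → F) :
    (ofForm h2 hf).B t x y =
      ∑ a, ∑ b, x a * (∏ i, Cfsg.Geo.gramMatrix f (a i) (b i)) * id (y b) := rfl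

namespace Fm

variable (G : Fm F k)

lemma even_k (G : Fm F k) : Even k :=
  Linear.even_finrank_of_alt_nondeg k G.f G.alt G.nd (by simp)

lemma perm_iso {σ : Equiv.Perm (Fin t)} {g : GL (J k t) F} (hg : G.IsPerm σ g) :
    g ∈ G.isoGrp t := by
  obtain ⟨g', hg', e⟩ := G.exists_perm (F := F) σ
  obtain rfl : g = g' := Units.ext (Matrix.ext fun x y => (hg x y).trans (hg' x y).symm)
  exact fun x y => LinearMap.congr_fun (LinearMap.congr_fun (ext_pr₂
    (L := ((G.B t).comp (app g).toLinearMap).compl₂ (app g).toLinearMap) (L' := G.B t) fun p q => by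
      simp only [LinearMap.compl₂_apply, LinearMap.comp_apply, LinearEquiv.coe_coe, e, B_pr,
        Function.comp_apply]
      exact Equiv.prod_comp σ⁻¹ fun l => G.f (p l) (q l)) x) y

/-- Overgroups of the stabiliser satisfy `Ovg`. -/
lemma ovg {M : Subgroup (GL (J k (t + 1)) F)} (h : Wr F k (t + 1) ⊓ G.isoGrp (t + 1) ≤ M)
    (h' : M ≤ G.isoGrp (t + 1)) : G.Ovg M where
  le := h'
  slot := fun i C hC => h ⟨kr_one_mem i C, G.kr_iso (fun a b => by simp) hC⟩
  perm := fun σ g _ hg => h ⟨Subgroup.subset_closure (Or.inr ⟨σ, hg⟩), G.perm_iso hg⟩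

variable {G}

/-- The tensor power is symplectic for odd sign. -/
lemma isSymplectic (hs : G.sgn t = -1) :
    Cfsg.Geo.IsSymplecticForm (fun x y => G.B t x y) where
  bilinear := ⟨fun x y v => by simp, fun c x v => by simp, fun v x y => by simp,
    fun c v x => by simp⟩
  skew := fun v w => by rw [G.B_comm w v, hs]; ring
  alternating := sgn_odd hs
  nondegenerate := fun v hv => by
    obtain ⟨y, hy⟩ : ∃ y, G.B t v y ≠ 0 := by by_contra! hh; exact hv (G.nd_B v hh)
    exact ⟨⟨y, fun e => hy (G.B_zero_comm e)⟩, y, hy⟩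

/-- A big group contains all isometries, odd sign. -/
lemma isoGrp_le_of_big (hs : G.sgn t = -1) {M : Subgroup (GL (J k t) F)} (h : G.Big M) :
    G.isoGrp t ≤ M := fun g hg =>
  Transvect.isometry_mem_of_centres (isSymplectic hs) M (fun v c => by
    set x := Transvect.st (isSymplectic hs) v (c / 2)
    have hx : x * x ∈ M := h x (Transvect.st_isIsom _ v (c / 2))
    rwa [show Transvect.st (isSymplectic hs) v c = x * x from gl_ext fun y => by
      rw [map_mul, LinearEquiv.mul_apply, Transvect.st_apply, Transvect.st_apply,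
        Transvect.st_apply, map_add, map_smul, LinearMap.add_apply, LinearMap.smul_apply,
        sgn_odd hs v, smul_zero, add_zero, add_assoc, ← add_smul]
      congr 2
      field_simp [G.two]
      ring]) hg

/-- A transvection with pure centre is not in the wreath group. -/
lemma transvection_notMem [Fintype F] (hk : 2 ≤ k) (ht : 1 ≤ t) :
    ∃ v : J k (t + 1) → F, ∀ g : GL (J k (t + 1)) F,
      (∀ x, app g x = x + G.B (t + 1) v x • v) → g ∉ Wr F k (t + 1) := by
  have : Nonempty (Fin k) := ⟨⟨0, by omega⟩⟩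
  obtain ⟨a, ha⟩ := exists_ne (0 : Fin k → F)
  obtain ⟨d, hd⟩ := G.exists_dual ha
  set p : J k t → F := pr fun _ => a with hp
  have hp0 : p ≠ 0 := pr_ne_zero fun _ => ha
  refine ⟨T 0 p a, fun g hg hW => ?_⟩
  have e : ∀ y u, app g (T 0 y u) = T 0 y u + (G.B t p y * G.f a u) • T 0 p a := fun y u => by
    rw [hg, B_T]
  obtain ⟨l, X, D, hf⟩ := exists_form hW 0
  have hDa : app D a ≠ 0 := fun h => ha ((app D).map_eq_zero_iff.1 h)
  have h0 : ∀ y, T 0 y a = T l (app X y) (app D a) := fun y => by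
    rw [← hf, e, G.alt, mul_zero, zero_smul, add_zero]
  obtain ⟨rfl, hsp⟩ := of_Li_le hk ha hDa (show Li (0 : Fin (t + 1)) a ≤ Li l (app D a) from by
    rintro _ ⟨y, rfl⟩; exact ⟨app X y, (h0 y).symm⟩)
  obtain ⟨c, hc⟩ := Submodule.mem_span_singleton.1 hsp
  have hX : ∀ y, app X y = c • y := fun y => T_inj_left (i := (0 : Fin (t + 1))) hDa (by
    rw [← h0 y, map_smul, LinearMap.smul_apply, ← map_smul, hc])
  have hpp : G.B t p p = 0 := by
    rw [hp, B_pr]
    exact Finset.prod_eq_zero (Finset.mem_univ ⟨0, ht⟩) (G.alt a)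
  have hDd : c • app D d = d := by
    refine T_inj_right hp0 (i := (0 : Fin (t + 1))) ?_
    rw [map_smul, ← LinearMap.smul_apply, ← map_smul, ← hX, ← hf, e, hpp, zero_mul, zero_smul,
      add_zero]
  have h1 := e (pr fun _ => d) d
  rw [hf, hX, map_smul, LinearMap.smul_apply, ← map_smul, hDd, B_pr, hd,
    Finset.prod_const_one, one_mul, one_smul] at h1
  have h2 : T 0 p a = 0 := by linear_combination (norm := module) -h1
  exact (T_eq_zero h2).elim hp0 ha

/-- The wreath stabiliser is maximal in the symplectic group. -/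
theorem isMaximalIn_isoGrp [Fintype F] (hk : k = 2 ∨ 4 ≤ k) (hq : k = 2 → Fintype.card F ≠ 3)
    (ht : 1 ≤ t) (hs : G.sgn (t + 1) = -1) :
    Cfsg.Geo.IsMaximalIn (G.isoGrp (t + 1)) (Wr F k (t + 1) ⊓ G.isoGrp (t + 1)) := by
  refine ⟨lt_of_le_of_ne inf_le_right fun h => ?_, fun M h1 h2 => ?_⟩
  · obtain ⟨v, hv⟩ := G.transvection_notMem (t := t) (by omega) ht
    have hmem := h.ge (Transvect.st_isIsom (isSymplectic hs) v (-1))
    refine hv _ (fun x => ?_) hmem.1
    rw [Transvect.st_apply, G.B_comm v x, hs]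
    simp
  · rcases G.maxl hk hq t M (G.ovg h1 h2) with h | h
    · exact .inl (le_antisymm (le_inf h h2) h1)
    · exact .inr (le_antisymm h2 (isoGrp_le_of_big hs h.1))

end Fm

/-! ### change of coordinates -/

variable {ι : Type} [Fintype ι] [DecidableEq ι]

/-- Transport along `e` and conjugation by `P`. -/
noncomputable def carry (e : ι ≃ J k t) (P : GL ι F) : GL (J k t) F ≃* GL ι F :=
  (Cfsg.Geo.glReindex e.symm).trans (MulAut.conj P)

lemma map_carry (e : ι ≃ J k t) (P : GL ι F) :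
    (Wr F k t).map (carry e P).toMonoidHom = Cfsg.Geo.tensorWreathSubgroup k t e P := by
  rw [Cfsg.Geo.tensorWreathSubgroup, Wr, Subgroup.map_map]; rfl

lemma app_carry (e : ι ≃ J k t) (P : GL ι F) (g : GL (J k t) F) (x : J k t → F) :
    app (carry e P g) ((P : Matrix ι ι F) *ᵥ (x ∘ e)) = (P : Matrix ι ι F) *ᵥ ((app g x) ∘ e) := by
  rw [app_apply, app_apply,
    show ((carry e P g : GL ι F) : Matrix ι ι F) = (P : Matrix ι ι F) *
      Matrix.reindex e.symm e.symm (g : Matrix (J k t) (J k t) F) * ((P⁻¹ : GL ι F) : Matrix ι ι F)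
      from rfl, Matrix.mulVec_mulVec, Matrix.mul_assoc, Units.inv_mul, Matrix.mul_one,
    ← Matrix.mulVec_mulVec, Matrix.reindex_apply, Equiv.symm_symm, Matrix.submatrix_mulVec_equiv]
  simp [Function.comp_assoc]

lemma exists_coord (e : ι ≃ J k t) (P : GL ι F) (v : ι → F) :
    ∃ x : J k t → F, (P : Matrix ι ι F) *ᵥ (x ∘ e) = v :=
  ⟨(((P⁻¹ : GL ι F) : Matrix ι ι F) *ᵥ v) ∘ e.symm, by
    simp [Function.comp_assoc, Matrix.mulVec_mulVec]⟩

/-- The isometry groups correspond. -/
lemma mem_isoGrp_iff_carry {G : Fm F k} {f : (ι → F) → (ι → F) → F} {c : F} (hc : c ≠ 0)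
    (e : ι ≃ J k t) (P : GL ι F) (h : ∀ x y, f ((P : Matrix ι ι F) *ᵥ (x ∘ e))
      ((P : Matrix ι ι F) *ᵥ (y ∘ e)) = c * G.B t x y) (g : GL (J k t) F) :
    Transvect.IsIsom f (carry e P g) ↔ g ∈ G.isoGrp t := by
  constructor
  · intro hg x y
    have := hg ((P : Matrix ι ι F) *ᵥ (x ∘ e)) ((P : Matrix ι ι F) *ᵥ (y ∘ e))
    rw [app_carry, app_carry, h, h] at this
    exact mul_left_cancel₀ hc this
  · intro hg u v
    obtain ⟨x, rfl⟩ := exists_coord e P u
    obtain ⟨y, rfl⟩ := exists_coord e P v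
    rw [app_carry, app_carry, h, h, hg]

end Cfsg.Agent.C7F
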