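import Cfsg.Agent.Lib.C7.Roots

/-!
# Tensor powers of an alternating space

* `Fm` : a non-degenerate alternating form on `F^k`, `2 ≠ 0`
* `Fm.B t` : its `t`-th tensor power; `pr p` : pure tensors; `dy P Q` : `x ↦ B(Q,x) P`
* `op i A D` : the operator `A ⊗ D`, `D` in position `i`
* `InM M X` : `1 + X ∈ M`
* `Fm.Ovg M` : `M` consists of isometries and contains the slot groups and the even permutations
-/

set_option autoImplicit false
set_option linter.unusedSectionVars false

namespace Cfsg.Agent.C7F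

open Matrix Module Cfsg.Agent.Transvect Cfsg.Agent.C7
open scoped MatrixGroups

attribute [-simp] app_apply

variable {F : Type*} [Field F] {k t : ℕ}

/-- A non-degenerate alternating form in odd characteristic. -/
structure Fm (F : Type*) [Field F] (k : ℕ) where
  f : (Fin k → F) →ₗ[F] (Fin k → F) →ₗ[F] F
  alt : ∀ u, f u u = 0
  nd : ∀ u, (∀ v, f u v = 0) → u = 0
  two : (2 : F) ≠ 0

/-- `1 + X` is in `M`. -/
def InM {ι : Type} [Fintype ι] [DecidableEq ι] (M : Subgroup (GL ι F))
    (X : (ι → F) →ₗ[F] (ι → F)) : Prop :=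
  ∃ g ∈ M, ∀ x, app g x = x + X x

/-! ### operators in one position -/

/-- `A ⊗ D` with `D` in position `i`. -/
noncomputable def op (i : Fin (t + 1)) (A : (J k t → F) →ₗ[F] (J k t → F))
    (D : (Fin k → F) →ₗ[F] (Fin k → F)) : (J k (t + 1) → F) →ₗ[F] (J k (t + 1) → F) :=
  ∑ c, ((T i).flip (D (Pi.single c 1))).comp (A.comp (ct i (LinearMap.proj c)))

@[simp] lemma op_T (i : Fin (t + 1)) (A : (J k t → F) →ₗ[F] (J k t → F))
    (D : (Fin k → F) →ₗ[F] (Fin k → F)) (a : J k t → F) (u : Fin k → F) :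
    op i A D (T i a u) = T i (A a) (D u) := by
  conv_rhs => rw [pi_eq_sum_univ' u]
  simp [op, map_sum]

lemma op_add_left (i : Fin (t + 1)) (A A' : (J k t → F) →ₗ[F] (J k t → F))
    (D : (Fin k → F) →ₗ[F] (Fin k → F)) : op i (A + A') D = op i A D + op i A' D :=
  lin_ext i fun a u => by simp

lemma op_add_right (i : Fin (t + 1)) (A : (J k t → F) →ₗ[F] (J k t → F))
    (D D' : (Fin k → F) →ₗ[F] (Fin k → F)) : op i A (D + D') = op i A D + op i A D' :=
  lin_ext i fun a u => by simp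

lemma op_smul_left (i : Fin (t + 1)) (c : F) (A : (J k t → F) →ₗ[F] (J k t → F))
    (D : (Fin k → F) →ₗ[F] (Fin k → F)) : op i (c • A) D = c • op i A D :=
  lin_ext i fun a u => by simp

lemma op_smul_right (i : Fin (t + 1)) (c : F) (A : (J k t → F) →ₗ[F] (J k t → F))
    (D : (Fin k → F) →ₗ[F] (Fin k → F)) : op i A (c • D) = c • op i A D :=
  lin_ext i fun a u => by simp

lemma op_comp (i : Fin (t + 1)) (A A' : (J k t → F) →ₗ[F] (J k t → F))
    (D D' : (Fin k → F) →ₗ[F] (Fin k → F)) (x : J k (t + 1) → F) :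
    op i A D (op i A' D' x) = op i (A.comp A') (D.comp D') x :=
  LinearMap.congr_fun (lin_ext i (f := (op i A D).comp (op i A' D')) fun a u => by simp) x

lemma op_one (i : Fin (t + 1)) :
    (op i LinearMap.id LinearMap.id : (J k (t + 1) → F) →ₗ[F] _) = LinearMap.id :=
  lin_ext i fun a u => by simp

lemma op_zero_left (i : Fin (t + 1)) (D : (Fin k → F) →ₗ[F] (Fin k → F)) :
    (op i 0 D : (J k (t + 1) → F) →ₗ[F] _) = 0 := lin_ext i fun a u => by simp

lemma op_zero_right (i : Fin (t + 1)) (A : (J k t → F) →ₗ[F] (J k t → F)) :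
    op i A (0 : (Fin k → F) →ₗ[F] (Fin k → F)) = 0 := lin_ext i fun a u => by simp

lemma app_kr_op (i : Fin (t + 1)) (A : GL (J k t) F) (B : GL (Fin k) F) :
    (app (kr i A B)).toLinearMap = op i (app A).toLinearMap (app B).toLinearMap :=
  lin_ext i fun a u => by simp [app_kr]

/-! ### pure tensors -/

/-- The pure tensor of a family of vectors. -/
def pr (p : Fin t → Fin k → F) : J k t → F := fun g => ∏ i, p i (g i)

lemma T_pr (i : Fin (t + 1)) (p : Fin (t + 1) → Fin k → F) :
    T i (pr fun j => p (i.succAbove j)) (p i) = pr p := by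
  funext g
  rw [T_apply, pr, pr, Fin.prod_univ_succAbove _ i, mul_comm]

lemma T_pr' (i : Fin (t + 1)) (p : Fin t → Fin k → F) (u : Fin k → F) :
    T i (pr p) u = pr (i.insertNth u p) := by
  rw [← T_pr i]; simp

lemma span_pr (t : ℕ) : Submodule.span F (Set.range (pr : (Fin t → Fin k → F) → _)) = ⊤ := by
  refine eq_top_iff.2 fun x _ => ?_
  rw [pi_eq_sum_univ' x]
  refine Submodule.sum_mem _ fun g _ => Submodule.smul_mem _ _ (Submodule.subset_span ⟨fun i =>
    Pi.single (g i) 1, funext fun h => ?_⟩)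
  by_cases e : h = g
  · subst e; simp [pr]
  · rw [Pi.single_eq_of_ne e]
    obtain ⟨i, hi⟩ := Function.ne_iff.1 e
    exact Finset.prod_eq_zero (Finset.mem_univ i) (by simp [hi])

namespace Fm

variable (G : Fm F k)

lemma skew (u v : Fin k → F) : G.f v u = -G.f u v := by
  have h := G.alt (u + v)
  simp [G.alt] at h
  linear_combination h

lemma zero_comm {u v : Fin k → F} (h : G.f u v = 0) : G.f v u = 0 := by rw [G.skew, h, neg_zero]

lemma exists_dual {u : Fin k → F} (hu : u ≠ 0) : ∃ v, G.f u v = 1 := by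
  obtain ⟨v, hv⟩ : ∃ v, G.f u v ≠ 0 := by
    by_contra! h; exact hu (G.nd u h)
  exact ⟨(G.f u v)⁻¹ • v, by simp [hv]⟩

/-- The tensor power of the form. -/
noncomputable def B (t : ℕ) : (J k t → F) →ₗ[F] (J k t → F) →ₗ[F] F :=
  LinearMap.mk₂ F
    (fun x y => ∑ a, ∑ b, x a * (∏ i, G.f (Pi.single (a i) 1) (Pi.single (b i) 1)) * y b)
    (fun x x' y => by simp [add_mul, Finset.sum_add_distrib])
    (fun c x y => by simp [Finset.mul_sum, mul_assoc])
    (fun x y y' => by simp [mul_add, Finset.sum_add_distrib])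
    (fun c x y => by simp [Finset.mul_sum]; congr! 2; ring)

lemma f_sum (u v : Fin k → F) :
    G.f u v = ∑ a, ∑ b, u a * G.f (Pi.single a 1) (Pi.single b 1) * v b := by
  conv_lhs => rw [pi_eq_sum_univ' u, pi_eq_sum_univ' v]
  simp only [map_sum, map_smul, LinearMap.sum_apply, LinearMap.smul_apply, smul_eq_mul,
    Finset.mul_sum]
  rw [Finset.sum_comm]
  congr! 2; ring

lemma B_pr (p q : Fin t → Fin k → F) : G.B t (pr p) (pr q) = ∏ i, G.f (p i) (q i) := by
  simp only [G.f_sum (p _)]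
  rw [Fintype.prod_sum]
  show ∑ a, ∑ b, _ = _
  refine Finset.sum_congr rfl fun a _ => ?_
  rw [Fintype.prod_sum]
  refine Finset.sum_congr rfl fun b _ => ?_
  rw [pr, pr, Finset.prod_mul_distrib, Finset.prod_mul_distrib]

lemma ext_pr {M : Type*} [AddCommGroup M] [Module F M] {L L' : (J k t → F) →ₗ[F] M}
    (h : ∀ p, L (pr p) = L' (pr p)) : L = L' :=
  LinearMap.ext_on (span_pr t) (by rintro _ ⟨p, rfl⟩; exact h p)

lemma ext_pr₂ {L L' : (J k t → F) →ₗ[F] (J k t → F) →ₗ[F] F}
    (h : ∀ p q, L (pr p) (pr q) = L' (pr p) (pr q)) : L = L' :=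
  ext_pr fun p => ext_pr (h p)

lemma B_T (i : Fin (t + 1)) (a a' : J k t → F) (u u' : Fin k → F) :
    G.B (t + 1) (T i a u) (T i a' u') = G.B t a a' * G.f u u' := by
  have h := LinearMap.congr_fun (LinearMap.congr_fun (ext_pr₂
    (L := ((G.B (t + 1)).comp ((T i).flip u)).compl₂ ((T i).flip u'))
    (L' := G.f u u' • G.B t) fun p q => by
      simp only [LinearMap.compl₂_apply, LinearMap.comp_apply, LinearMap.flip_apply, T_pr',
        LinearMap.smul_apply, smul_eq_mul, B_pr]
      rw [Fin.prod_univ_succAbove _ i]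
      simp) a) a'
  rw [mul_comm]
  exact h

/-- The sign of the tensor power. -/
def sgn (_ : Fm F k) (t : ℕ) : F := (-1) ^ t

lemma sgn_sq (t : ℕ) : G.sgn t * G.sgn t = 1 := by
  rw [sgn, ← mul_pow, neg_mul_neg, one_mul, one_pow]

lemma sgn_succ (t : ℕ) : G.sgn (t + 1) = -G.sgn t := by simp [sgn, pow_succ]

lemma B_comm (x y : J k t → F) : G.B t y x = G.sgn t * G.B t x y :=
  LinearMap.congr_fun (LinearMap.congr_fun (ext_pr₂ (L := (G.B t).flip)
    (L' := G.sgn t • G.B t) fun p q => by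
      simp only [LinearMap.flip_apply, LinearMap.smul_apply, smul_eq_mul, B_pr, sgn]
      rw [show (-1 : F) ^ t = ∏ _i : Fin t, (-1 : F) by simp, ← Finset.prod_mul_distrib]
      exact Finset.prod_congr rfl fun i _ => by rw [G.skew (p i)]; ring) x) y

lemma B_zero_comm {x y : J k t → F} (h : G.B t x y = 0) : G.B t y x = 0 := by
  rw [G.B_comm, h, mul_zero]

lemma nd_B : ∀ {t : ℕ} (x : J k t → F), (∀ y, G.B t x y = 0) → x = 0 := by
  intro t
  induction t with
  | zero =>
    intro x h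
    have := h (fun _ => 1)
    funext g
    simp [B] at this
    simpa [Subsingleton.elim g default] using this
  | succ t ih =>
    intro x h
    rw [← sum_T_single 0 x]
    refine Finset.sum_eq_zero fun c _ => ?_
    suffices hc : (fun g => x (ins 0 c g)) = 0 by rw [hc]; simp
    refine ih _ fun a' => ?_
    -- pair with the dual basis vector of `c`
    let φ := G.f
    have hbij : Function.Injective φ := LinearMap.ker_eq_bot.1 (LinearMap.ker_eq_bot'.2 fun u hu =>
      G.nd u fun v => by rw [show G.f u = 0 from hu]; rfl)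
    obtain ⟨u, hu⟩ : ∃ u, G.f u = LinearMap.proj c :=
      (LinearMap.linearEquivOfInjective φ hbij Subspace.dual_finrank_eq.symm).surjective _
    have e : G.B t (fun g => x (ins 0 c g)) a' = -G.B (t + 1) x (T 0 a' u) := by
      conv_rhs => rw [← sum_T_single 0 x]
      simp only [map_sum, LinearMap.sum_apply, B_T]
      rw [Finset.sum_eq_single c]
      · rw [G.skew u, hu]; simp
      · intro b _ hb
        rw [G.skew u, hu]; simp [hb]
      · simp
    rw [e, h, neg_zero]

lemma B_ext {x x' : J k t → F} (h : ∀ y, G.B t x y = G.B t x' y) : x = x' :=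
  sub_eq_zero.1 (G.nd_B _ fun y => by rw [map_sub, LinearMap.sub_apply, h, sub_self])

lemma B_ext' {x x' : J k t → F} (h : ∀ y, G.B t y x = G.B t y x') : x = x' :=
  G.B_ext fun y => by rw [G.B_comm y x, G.B_comm y x', h]

/-! ### adjoints -/

/-- `Y` is the adjoint of `X`. -/
def Adj (t : ℕ) (X Y : (J k t → F) →ₗ[F] (J k t → F)) : Prop :=
  ∀ u v, G.B t (X u) v = G.B t u (Y v)

variable {G}

lemma Adj.op {i : Fin (t + 1)} {A A' : (J k t → F) →ₗ[F] (J k t → F)}
    {D D' : (Fin k → F) →ₗ[F] (Fin k → F)} (hA : G.Adj t A A')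
    (hD : ∀ u v, G.f (D u) v = G.f u (D' v)) : G.Adj (t + 1) (op i A D) (op i A' D') := fun x y =>
  LinearMap.congr_fun (LinearMap.congr_fun (lin_ext i
    (f := (G.B (t + 1)).comp (C7F.op i A D)) (g := (G.B (t + 1)).compl₂ (C7F.op i A' D'))
    fun a u => lin_ext i fun a' u' => by simp [B_T, hA a a', hD u u']) x) y

variable (G)

/-- `x ↦ B(Q, x) P`. -/
noncomputable def dy (P Q : J k t → F) : (J k t → F) →ₗ[F] (J k t → F) := (G.B t Q).smulRight P

@[simp] lemma dy_apply (P Q x : J k t → F) : G.dy P Q x = G.B t Q x • P := rfl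

lemma adj_dy (P Q : J k t → F) : G.Adj t (G.dy P Q) (G.sgn t • G.dy Q P) := fun u v => by
  simp [G.B_comm Q u]
  linear_combination G.B t Q u * G.B t P v * (1 - G.sgn_sq t)

/-! ### one position -/

/-- `z ↦ f(a,z) x + f(x,z) a` : skew. -/
def sy (a x : Fin k → F) : (Fin k → F) →ₗ[F] (Fin k → F) :=
  (G.f a).smulRight x + (G.f x).smulRight a

/-- `z ↦ f(a,z) x - f(x,z) a` : self-adjoint. -/
def au (a x : Fin k → F) : (Fin k → F) →ₗ[F] (Fin k → F) :=
  (G.f a).smulRight x - (G.f x).smulRight a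

@[simp] lemma sy_apply (a x z : Fin k → F) : G.sy a x z = G.f a z • x + G.f x z • a := rfl
@[simp] lemma au_apply (a x z : Fin k → F) : G.au a x z = G.f a z • x - G.f x z • a := rfl

lemma sy_skew (a x u v : Fin k → F) : G.f (G.sy a x u) v = G.f u ((-G.sy a x) v) := by
  simp [G.skew a u, G.skew x u]; ring

lemma au_self (a x u v : Fin k → F) : G.f (G.au a x u) v = G.f u (G.au a x v) := by
  simp [G.skew a u, G.skew x u]; ring

lemma sy_sq {a x : Fin k → F} (h : G.f a x = 0) (z : Fin k → F) : G.sy a x (G.sy a x z) = 0 := by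
  simp [G.alt, h, G.zero_comm h]

lemma au_sq {a x : Fin k → F} (h : G.f a x = 0) (z : Fin k → F) : G.au a x (G.au a x z) = 0 := by
  simp [G.alt, h, G.zero_comm h]

lemma kr_iso {i : Fin (t + 1)} {A : GL (J k t) F} {C : GL (Fin k) F}
    (hA : ∀ a b, G.B t (app A a) (app A b) = G.B t a b)
    (hC : ∀ u v, G.f (app C u) (app C v) = G.f u v) (x y : J k (t + 1) → F) :
    G.B (t + 1) (app (kr i A C) x) (app (kr i A C) y) = G.B (t + 1) x y :=
  LinearMap.congr_fun (LinearMap.congr_fun (lin_ext i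
    (f := ((G.B (t + 1)).comp (app (kr i A C)).toLinearMap).compl₂ (app (kr i A C)).toLinearMap)
    fun a u => lin_ext i fun a' u' => by simp [app_kr, B_T, hA, hC]) x) y

/-- The isometry group of the tensor power. -/
def isoGrp (t : ℕ) : Subgroup (GL (J k t) F) where
  carrier := {g | ∀ x y, G.B t (app g x) (app g y) = G.B t x y}
  one_mem' := fun x y => by simp
  mul_mem' := fun {g h} hg hh x y => by
    simp only [map_mul, LinearEquiv.mul_apply]; rw [hg, hh]
  inv_mem' := fun {g} hg x y => by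
    rw [← hg (app g⁻¹ x) (app g⁻¹ y), app_app_inv, app_app_inv]

variable {G}

lemma mem_isoGrp {g : GL (J k t) F} :
    g ∈ G.isoGrp t ↔ ∀ x y, G.B t (app g x) (app g y) = G.B t x y := Iff.rfl

lemma iso_inv_left {g : GL (J k t) F} (hg : g ∈ G.isoGrp t) (x y : J k t → F) :
    G.B t (app g⁻¹ x) y = G.B t x (app g y) := by
  conv_rhs => rw [← app_app_inv g x]
  rw [hg]

/-- An operator `1 + X` preserving the form, `X` with totally isotropic image, is skew. -/
lemma adj_neg_of_iso {g : GL (J k t) F} (hg : g ∈ G.isoGrp t) {X : (J k t → F) →ₗ[F] (J k t → F)}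
    (hX : ∀ x, app g x = x + X x) (h0 : ∀ u v, G.B t (X u) (X v) = 0) : G.Adj t X (-X) := fun u v => by
  have e := hg u v
  rw [hX, hX, map_add, map_add, LinearMap.add_apply, LinearMap.add_apply, h0, add_zero] at e
  rw [LinearMap.neg_apply, map_neg]
  linear_combination e

variable (G)

/-- Elements permuting the positions. -/
def IsPerm (_ : Fm F k) (σ : Equiv.Perm (Fin t)) (g : GL (J k t) F) : Prop :=
  ∀ x y : J k t, (g : Matrix (J k t) (J k t) F) x y = if y = x ∘ σ then 1 else 0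

/-- An overgroup of the stabiliser. -/
structure Ovg {t : ℕ} (M : Subgroup (GL (J k (t + 1)) F)) : Prop where
  le : M ≤ G.isoGrp (t + 1)
  slot : ∀ i (C : GL (Fin k) F), (∀ u v, G.f (app C u) (app C v) = G.f u v) → kr i 1 C ∈ M
  perm : ∀ σ g, Equiv.Perm.sign σ = 1 → G.IsPerm σ g → g ∈ M

/-- `M` contains the squares of all isometries. -/
def Big (M : Subgroup (GL (J k t) F)) : Prop := ∀ g ∈ G.isoGrp t, g * g ∈ M

end Fm

/-! ### calculus of `InM` -/

section InM

variable {ι : Type} [Fintype ι] [DecidableEq ι] {M : Subgroup (GL ι F)}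
  {X Y : (ι → F) →ₗ[F] (ι → F)}

lemma InM.zero : InM M (0 : (ι → F) →ₗ[F] (ι → F)) := ⟨1, one_mem M, fun x => by simp⟩

lemma InM.add (hX : InM M X) (hY : InM M Y) (h : ∀ x, X (Y x) = 0) : InM M (X + Y) := by
  obtain ⟨g, hg, e⟩ := hX; obtain ⟨g', hg', e'⟩ := hY
  exact ⟨g * g', mul_mem hg hg', fun x => by
    rw [map_mul, LinearEquiv.mul_apply, e', e, map_add, h, LinearMap.add_apply]; abel⟩

lemma InM.neg (hX : InM M X) (h : ∀ x, X (X x) = 0) : InM M (-X) := by
  obtain ⟨g, hg, e⟩ := hX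
  refine ⟨g⁻¹, inv_mem hg, fun x => (app g).injective ?_⟩
  rw [app_app_inv, e, LinearMap.neg_apply, map_add, map_neg, h]
  abel

lemma InM.conj (hX : InM M X) {g : GL ι F} (hg : g ∈ M) :
    InM M ((app g).toLinearMap.comp (X.comp (app g⁻¹).toLinearMap)) := by
  obtain ⟨h, hh, e⟩ := hX
  refine ⟨g * h * g⁻¹, mul_mem (mul_mem hg hh) (inv_mem hg), fun x => ?_⟩
  rw [map_mul, map_mul, LinearEquiv.mul_apply, LinearEquiv.mul_apply, e, map_add, app_app_inv]
  rfl

/-- The commutator of `1 + X` and `1 + Y` when `XYX = YXY = 0`. -/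
lemma InM.comm (hX : InM M X) (hY : InM M Y) (hX2 : ∀ x, X (X x) = 0) (hY2 : ∀ x, Y (Y x) = 0)
    (h1 : ∀ x, X (Y (X x)) = 0) (h2 : ∀ x, Y (X (Y x)) = 0) :
    InM M (X.comp Y - Y.comp X) := by
  obtain ⟨g, hg, e⟩ := hX; obtain ⟨g', hg', e'⟩ := hY
  refine ⟨g * g' * g⁻¹ * g'⁻¹, mul_mem (mul_mem (mul_mem hg hg') (inv_mem hg)) (inv_mem hg'),
    fun x => ?_⟩
  have ei : ∀ z, app g⁻¹ z = z - X z := fun z => (app g).injective (by
    rw [app_app_inv, e, map_sub, hX2]; abel)
  have ei' : ∀ z, app g'⁻¹ z = z - Y z := fun z => (app g').injective (by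
    rw [app_app_inv, e', map_sub, hY2]; abel)
  simp only [map_mul, LinearEquiv.mul_apply, ei, ei', e, e', map_add, map_sub, hX2, hY2, h1, h2,
    map_zero, LinearMap.sub_apply, LinearMap.comp_apply]
  abel

end InM

end Cfsg.Agent.C7F
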