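import Cfsg.Agent.Lib.C7F.Rad
import Cfsg.Agent.Lib.QuadPair.GenDerived

/-!
# Elements carrying a line to a line

* `opp i l A B` : `T i y z ↦ T l (A y) (B z)`
* `Fm.Scl.exists_decomp` : an element of `M` carrying `Li i a` into `Li l a'` has this form
-/

set_option autoImplicit false
set_option linter.unusedSectionVars false

namespace Cfsg.Agent.C7F

open Matrix Module Cfsg.Agent.Transvect Cfsg.Agent.C7
open scoped MatrixGroups

attribute [-simp] app_apply

variable {F : Type*} [Field F] [Fintype F] {k t : ℕ}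

/-- `T i y z ↦ T l (A y) (B z)`. -/
noncomputable def opp (i l : Fin (t + 1)) (A : (J k t → F) →ₗ[F] (J k t → F))
    (B : (Fin k → F) →ₗ[F] (Fin k → F)) : (J k (t + 1) → F) →ₗ[F] (J k (t + 1) → F) :=
  ∑ c, ((T l).flip (B (Pi.single c 1))).comp (A.comp (ct i (LinearMap.proj c)))

@[simp] lemma opp_T (i l : Fin (t + 1)) (A : (J k t → F) →ₗ[F] (J k t → F))
    (B : (Fin k → F) →ₗ[F] (Fin k → F)) (y : J k t → F) (u : Fin k → F) :
    opp i l A B (T i y u) = T l (A y) (B u) := by
  conv_rhs => rw [pi_eq_sum_univ' u]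
  simp [opp, map_sum]

namespace Fm

variable {G : Fm F k}

lemma ct_proj_perp {l : Fin (t + 1)} {a d : Fin k → F} (φ : (Fin k → F) →ₗ[F] F)
    {P : J k (t + 1) → F} (hP : ct l (G.f a) P = 0) (D : (Fin k → F) →ₗ[F] (Fin k → F))
    (hd : G.f a d = 1) (hD : ∀ b, G.f a b = 0 → D b = φ b • a) :
    sl l D P = T l (ct l φ P) a := by
  set π : (Fin k → F) →ₗ[F] (Fin k → F) := LinearMap.id - (G.f a).smulRight d with hπ
  have hπP : sl l π P = P := by
    rw [sl, show π = LinearMap.id + (-1 : F) • (G.f a).smulRight d by rw [hπ]; module, op_add_right,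
      op_one, op_smul_right]
    simp only [LinearMap.add_apply, LinearMap.id_apply, LinearMap.smul_apply]
    rw [← sl, sl_smulRight, hP]
    simp
  rw [← hπP]
  refine LinearMap.congr_fun (lin_ext l (f := (sl l D).comp (sl l π))
    (g := (((T l).flip a).comp (ct l φ)).comp (sl l π)) fun y z => ?_) P
  simp only [LinearMap.comp_apply, sl_T, LinearMap.flip_apply, ct_T]
  rw [hD _ (by simp [hπ, hd]), map_smul, map_smul, LinearMap.smul_apply]

variable {M : Subgroup (GL (J k (t + 1)) F)}

/-- An element of `M` carrying a line into a line is split along them. -/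
theorem Scl.exists_decomp (S : G.Scl M) {g : GL (J k (t + 1)) F} (hg : g ∈ M) {i l : Fin (t + 1)}
    {a a' : Fin k → F} (ha : a ≠ 0) (ha' : a' ≠ 0) (hline : ∀ y, app g (T i y a) ∈ Li l a') :
    ∃ (A : GL (J k t) F) (B : GL (Fin k) F),
      ∀ y z, app g (T i y z) = T l (app A y) (app B z) := by
  have h22 := G.two
  have hk1 : 1 ≤ k := by rcases S.hk with h | h <;> omega
  have : Nonempty (Fin k) := ⟨⟨0, hk1⟩⟩
  have hiso := S.hO.le hg
  obtain ⟨d, hd⟩ := G.exists_dual ha
  have hda : G.f d a = -1 := by rw [G.skew, hd]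
  obtain ⟨d', hd'⟩ := G.exists_dual ha'
  have hd'a : G.f d' a' = -1 := by rw [G.skew, hd']
  obtain ⟨γ, hγ⟩ := C7.exists_dual ha'
  set A : (J k t → F) →ₗ[F] (J k t → F) :=
    (ct l γ).comp ((app g).toLinearMap.comp ((T i).flip a)) with hAdef
  have hA : ∀ y, app g (T i y a) = T l (A y) a' := fun y => by
    obtain ⟨b, hb⟩ := hline y
    change T l b a' = _ at hb
    simp [hAdef, ← hb, hγ]
  have hAi : Function.Injective A := fun y y' e => T_inj_left ha
    ((app g).injective (by rw [hA, hA, e]))
  have hAs : Function.Surjective A := LinearMap.surjective_of_injective hAi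
  have hperp : ∀ x, ct i (G.f a) x = 0 → ct l (G.f a') (app g x) = 0 := fun x hx => by
    refine ct_eq_zero fun y' => ?_
    obtain ⟨y, rfl⟩ := hAs y'
    rw [← hA, hiso, B_ct, hx, map_zero]
  have hperp' : ∀ x, ct l (G.f a') x = 0 → ct i (G.f a) (app g⁻¹ x) = 0 := fun x hx => by
    refine ct_eq_zero fun y => ?_
    rw [← hiso, hA, app_app_inv, B_ct, hx, map_zero]
  -- the root group
  obtain ⟨κ, hκ⟩ := S.scal' (i := l) ha' ((inM_nn S.hO i a 1).conj hg)
    (fun x hx => by
      have h := hperp' x hx
      simp only [LinearMap.comp_apply, LinearEquiv.coe_coe, LinearMap.smul_apply, one_smul]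
      rw [← sl, show G.nn a = (G.f a).smulRight a from rfl, sl_smulRight, h, map_zero,
        LinearMap.zero_apply, map_zero])
    (fun x => by
      simp only [LinearMap.comp_apply, LinearEquiv.coe_coe, LinearMap.smul_apply, one_smul]
      rw [← sl, show G.nn a = (G.f a).smulRight a from rfl, sl_smulRight, hA]
      exact T_mem_Li _ _ _)
  have hctd : ∀ y, κ • ct l (G.f a') (app g (T i y d)) = A y := fun y => by
    have h := LinearMap.congr_fun hκ (app g (T i y d))
    simp only [LinearMap.comp_apply, LinearEquiv.coe_coe, app_inv_app, LinearMap.smul_apply,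
      one_smul, op_T, LinearMap.id_apply, nn_apply, hd, hA] at h
    rw [← sl, show G.nn a' = (G.f a').smulRight a' from rfl, sl_smulRight, ← LinearMap.smul_apply,
      ← map_smul] at h
    exact (T_inj_left ha' h).symm
  obtain ⟨y₀, hy₀⟩ := exists_ne (0 : J k t → F)
  have hκ0 : κ ≠ 0 := fun e => hy₀ (hAi (by rw [← hctd, e, zero_smul, map_zero]))
  have hAB : ∀ y y', G.B t (A y') (A y) = κ * G.B t y' y := fun y y' => by
    have h := hiso (T i y' a) (T i y d)
    rw [hA, B_ct, B_T, hd, mul_one] at h
    rw [← hctd y, map_smul, smul_eq_mul, h]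
  -- the unipotent radical gives functionals
  have rad : ∀ z, G.f a z = 0 → ∃ w, G.f w a' = 0 ∧
      ∀ y x, G.f a x = 0 → ct l (G.f w) (app g (T i y x)) = G.f z x • A y := by
    intro z hz
    obtain ⟨C, hC, eC⟩ := G.exists_sr a z hz 1
    have hCa : app C a = a := by rw [eC]; simp [G.alt, G.zero_comm hz]
    set E := kr i (1 : GL (J k t) F) C with hE
    obtain ⟨C', hC', hC'a, he⟩ := S.rad_slot (i := l) (a := a')
      (mul_mem (mul_mem hg (S.hO.slot i C hC)) (inv_mem hg)) ha'
      (fun y' => by
        obtain ⟨y, rfl⟩ := hAs y'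
        rw [← hA, map_mul, map_mul, LinearEquiv.mul_apply, LinearEquiv.mul_apply, app_inv_app,
          app_kr, hCa]
        simp)
      (fun x hx => by
        set x' := app g⁻¹ x
        have hx' : ct i (G.f a) x' = 0 := hperp' x hx
        have h1 : app E x' = x' + T i (ct i (G.f z) x') a := by
          rw [hE, app_kr_one_sl, show (app C).toLinearMap = LinearMap.id + G.sy a z from
            LinearMap.ext fun u => by
              show app C u = u + G.sy a z u
              rw [eC, one_smul],
            sl_id_add, sl_sy, hx']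
          simp
        rw [map_mul, map_mul, LinearEquiv.mul_apply, LinearEquiv.mul_apply, h1, map_add, hA,
          app_app_inv, add_sub_cancel_left]
        exact T_mem_Li _ _ _)
    let μ : (Fin k → F) →ₗ[F] F := -((G.f d').comp ((app C').toLinearMap - LinearMap.id))
    obtain ⟨w, hw⟩ := G.exists_rep μ
    refine ⟨w, by simp [hw, μ, hC'a], fun y x hx => ?_⟩
    have hP : ct l (G.f a') (app g (T i y x)) = 0 := hperp _ (by simp [hx])
    have h1 : sl l ((app C').toLinearMap - LinearMap.id) (app g (T i y x)) =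
        T l (G.f z x • A y) a' := by
      have h2 : app (g * E * g⁻¹) (app g (T i y x)) = app (kr l 1 C') (app g (T i y x)) := by rw [he]
      rw [map_mul, map_mul, LinearEquiv.mul_apply, LinearEquiv.mul_apply, app_inv_app, hE, app_kr,
        map_one, LinearEquiv.coe_one, id_eq, eC, app_kr_one_sl] at h2
      simp only [sy_apply, hx, zero_smul, zero_add, one_smul, map_add, map_smul, hA] at h2
      have h3 := sl_id_add l ((app C').toLinearMap - LinearMap.id) (app g (T i y x))
      rw [add_sub_cancel, ← h2] at h3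
      rw [map_smul, LinearMap.smul_apply]
      exact (add_left_cancel h3).symm
    have hline : ∀ b, G.f a' b = 0 →
        ((app C').toLinearMap - LinearMap.id : (Fin k → F) →ₗ[F] (Fin k → F)) b = μ b • a' := fun b hb => by
      set Db := ((app C').toLinearMap - LinearMap.id : (Fin k → F) →ₗ[F] (Fin k → F)) b with hDb
      have hperp2 : G.f a' Db = 0 := by
        rw [hDb, LinearMap.sub_apply, LinearEquiv.coe_coe, LinearMap.id_apply, map_sub, hb, sub_zero]
        conv_lhs => rw [← hC'a]
        rw [hC', hb]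
      have hmemb : Db ∈ F ∙ a' := by
        obtain ⟨y', hy'⟩ := exists_ne (0 : J k t → F)
        set x := T l y' b with hxdef
        have hx : ct l (G.f a') x = 0 := by simp [hxdef, hb]
        set x' := app g⁻¹ x
        have hx' : ct i (G.f a) x' = 0 := hperp' x hx
        have h4 : app (kr l (1 : GL (J k t) F) C') x - x ∈ Li l a' := by
          rw [← he, map_mul, map_mul, LinearEquiv.mul_apply, LinearEquiv.mul_apply, app_kr_one_sl,
            show (app C).toLinearMap = LinearMap.id + G.sy a z from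
              LinearMap.ext fun u => by
                show app C u = u + G.sy a z u
                rw [eC, one_smul],
            sl_id_add, sl_sy, hx', map_zero, LinearMap.zero_apply, zero_add, map_add, hA, app_app_inv,
            add_sub_cancel_left]
          exact T_mem_Li _ _ _
        obtain ⟨b', hb'⟩ := h4
        rw [hxdef, app_kr, map_one, LinearEquiv.coe_one, id_eq, ← map_sub] at hb'
        exact mem_span_of_T_eq hy' hb'.symm
      obtain ⟨c, hc⟩ := Submodule.mem_span_singleton.1 hmemb
      show Db = (-G.f d' Db) • a'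
      rw [← hc, map_smul, hd'a, smul_eq_mul, mul_neg_one, neg_neg]
    rw [ct_proj_perp μ hP _ hd' hline, show μ = G.f w from LinearMap.ext fun v => (hw v).symm] at h1
    exact T_inj_left ha' h1
  -- the second factor
  obtain ⟨ψ, hψ⟩ := C7.exists_dual (show A y₀ ≠ 0 from fun e => hy₀ (hAi (by rw [e, map_zero])))
  set B₀ : (Fin k → F) →ₗ[F] (Fin k → F) :=
    (lc l ψ).comp ((app g).toLinearMap.comp (T i y₀)) with hB₀
  have hB₀a : B₀ a = a' := by simp [hB₀, hA, hψ]
  have hB₀p : ∀ x, G.f a x = 0 → G.f a' (B₀ x) = 0 := fun x hx => by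
    rw [hB₀, LinearMap.comp_apply, LinearMap.comp_apply, lc_ct]
    rw [show ct l (G.f a') ((app g).toLinearMap ((T i y₀) x)) = 0 from hperp _ (by simp [hx]), map_zero]
  have hwB : ∀ z w, (∀ y x, G.f a x = 0 → ct l (G.f w) (app g (T i y x)) = G.f z x • A y) →
      ∀ x, G.f a x = 0 → G.f w (B₀ x) = G.f z x := fun z w h x hx => by
    rw [hB₀, LinearMap.comp_apply, LinearMap.comp_apply, lc_ct, LinearEquiv.coe_coe, h y₀ x hx,
      map_smul, hψ, smul_eq_mul, mul_one]
  have honto : ∀ b, G.f a' b = 0 → ∃ x, G.f a x = 0 ∧ B₀ x = b := by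
    let f₀ : LinearMap.ker (G.f a) →ₗ[F] LinearMap.ker (G.f a') :=
      (B₀.comp (Submodule.subtype _)).codRestrict _ fun x => hB₀p x x.2
    have hf : Function.Injective f₀ := (injective_iff_map_eq_zero f₀).2 fun x hx => by
      have hx0 : B₀ x = 0 := congrArg Subtype.val hx
      have : (x : Fin k → F) ∈ F ∙ a := perp_perp ha fun v hv => by
        obtain ⟨w, -, hw⟩ := rad v hv
        exact G.zero_comm (by rw [← hwB v w hw x x.2, hx0, map_zero])
      obtain ⟨c, hc⟩ := Submodule.mem_span_singleton.1 this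
      rw [← hc, map_smul, hB₀a, smul_eq_zero] at hx0
      exact Subtype.ext (by rw [← hc, hx0.resolve_right ha', zero_smul]; rfl)
    have hdim : finrank F (LinearMap.ker (G.f a')) ≤ finrank F (LinearMap.ker (G.f a)) := by
      have h1 := (G.f a).finrank_range_add_finrank_ker
      have h2 := (G.f a').finrank_range_add_finrank_ker
      rw [LinearMap.range_eq_top.2 (LinearMap.surjective_of_ne_zero fun e => by simp [e] at hd)] at h1
      rw [LinearMap.range_eq_top.2 (LinearMap.surjective_of_ne_zero fun e => by simp [e] at hd')] at h2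
      omega
    have hs : Function.Surjective f₀ := by
      rw [← LinearMap.range_eq_top]
      refine Submodule.eq_top_of_finrank_eq (le_antisymm (Submodule.finrank_le _) ?_)
      rw [LinearMap.finrank_range_of_inj hf]; exact hdim
    intro b hb
    obtain ⟨x, hx⟩ := hs ⟨b, hb⟩
    exact ⟨x, x.2, congrArg Subtype.val hx⟩
  have hcong : ∀ y x, G.f a x = 0 → app g (T i y x) - T l (A y) (B₀ x) ∈ Li l a' := fun y x hx => by
    refine mem_Li_of_ct fun α hα => ?_
    obtain ⟨b, hb⟩ := G.exists_rep α
    rw [show α = G.f b from LinearMap.ext fun v => (hb v).symm, map_sub, ct_T]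
    obtain ⟨z, hz⟩ := G.exists_rep ((G.f b).comp B₀)
    have hza : G.f a z = 0 := G.zero_comm (by simp [hz, hB₀a, hb, hα])
    obtain ⟨w, -, hw⟩ := rad z hza
    have hbw : b - w ∈ F ∙ a' := perp_perp ha' fun v hv => by
      obtain ⟨x', hx', rfl⟩ := honto v hv
      rw [map_sub, LinearMap.sub_apply, hwB z w hw x' hx', hz]
      simp
    obtain ⟨c, hc⟩ := Submodule.mem_span_singleton.1 hbw
    rw [show G.f b = G.f w + c • G.f a' by rw [← map_smul, hc, map_sub, add_sub_cancel], ct_add, ct_smul,
      hw y x hx, hperp _ (show ct i (G.f a) (T i y x) = 0 by simp [hx])]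
    simp [hwB z w hw x hx, hB₀p x hx]
  obtain ⟨y₁, hy₁⟩ : ∃ y₁, G.B t y₀ y₁ ≠ 0 := by
    by_contra! hh; exact hy₀ (G.nd_B _ hh)
  have hsim : ∀ x x', G.f a x = 0 → G.f a x' = 0 → κ * G.f (B₀ x) (B₀ x') = G.f x x' := by
    intro x x' hx hx'
    obtain ⟨c, hc⟩ := hcong y₀ x hx
    obtain ⟨c', hc'⟩ := hcong y₁ x' hx'
    change T l c a' = _ at hc
    change T l c' a' = _ at hc'
    have h := hiso (T i y₀ x) (T i y₁ x')
    rw [sub_eq_iff_eq_add'.1 hc.symm, sub_eq_iff_eq_add'.1 hc'.symm, B_T] at h
    simp only [map_add, LinearMap.add_apply, B_T, hB₀p x hx, hB₀p x' hx', G.zero_comm (hB₀p x hx),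
      G.alt, mul_zero, add_zero, hAB] at h
    have := mul_left_cancel₀ hy₁ (a := G.B t y₀ y₁) (b := κ * G.f (B₀ x) (B₀ x')) (c := G.f x x')
      (by linear_combination h)
    exact this
  -- the similitude
  set π : (Fin k → F) →ₗ[F] (Fin k → F) :=
    LinearMap.id - (G.f a).smulRight d + (G.f d).smulRight a with hπ
  have hπa : ∀ z, G.f a (π z) = 0 := fun z => by simp [hπ, hd, G.alt]
  have hπd : ∀ z, G.f d (π z) = 0 := fun z => by simp [hπ, hda, G.alt]
  obtain ⟨d₀, hd₀a, hd₀⟩ : ∃ d₀, κ * G.f a' d₀ = 1 ∧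
      ∀ x, G.f a x = 0 → G.f d x = 0 → G.f d₀ (B₀ x) = 0 := by
    set d₁ := κ⁻¹ • d'
    obtain ⟨z, hz⟩ := G.exists_rep ((G.f d₁).comp B₀)
    set z₀ := z + G.f z a • d
    have hz₀ : G.f a z₀ = 0 := G.zero_comm (by simp [z₀, hda])
    obtain ⟨w, hwa, hw⟩ := rad z₀ hz₀
    refine ⟨d₁ - w, ?_, fun x hx hdx => ?_⟩
    · rw [map_sub, map_smul, hd', G.zero_comm hwa, sub_zero, smul_eq_mul, mul_one, mul_inv_cancel₀ hκ0]
    · rw [map_sub, LinearMap.sub_apply, hwB z₀ w hw x hx]
      simp [z₀, hz, hdx]
  set Bl : (Fin k → F) →ₗ[F] (Fin k → F) :=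
    (G.f a).smulRight d₀ - (G.f d).smulRight a' + B₀.comp π with hBl
  have hBsim : ∀ u v, κ * G.f (Bl u) (Bl v) = G.f u v := fun u v => by
    have e1 : G.f a' (B₀ (π v)) = 0 := hB₀p _ (hπa v)
    have e2 : G.f (B₀ (π u)) a' = 0 := G.zero_comm (hB₀p _ (hπa u))
    have e3 : G.f d₀ (B₀ (π v)) = 0 := hd₀ _ (hπa v) (hπd v)
    have e4 : G.f (B₀ (π u)) d₀ = 0 := G.zero_comm (hd₀ _ (hπa u) (hπd u))
    have e5 := hsim _ _ (hπa u) (hπa v)
    have e6 : G.f d₀ a' = -G.f a' d₀ := G.skew a' d₀
    simp only [hBl, LinearMap.add_apply, LinearMap.sub_apply, LinearMap.smulRight_apply,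
      LinearMap.comp_apply, map_add, map_sub, map_smul, LinearMap.smul_apply, smul_eq_mul, G.alt,
      e1, e2, e3, e4, e6, mul_zero, sub_zero, zero_sub, add_zero, zero_add]
    have e7 : G.f (π u) (π v) = G.f u v + G.f a v * G.f d u - G.f d v * G.f a u := by
      simp [hπ, hd, hda, G.alt, G.skew a u, G.skew d u]
      ring
    rw [e7] at e5
    linear_combination e5 + (G.f a u * G.f d v - G.f a v * G.f d u) * hd₀a
  have hBla : Bl a = a' := by simp [hBl, hπ, hd, hda, G.alt]
  have hBlx : ∀ x, G.f a x = 0 → G.f d x = 0 → Bl x = B₀ x := fun x h1 h2 => by simp [hBl, hπ, h1, h2]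
  obtain ⟨XB, hXB⟩ := C7.exists_gl Bl ((injective_iff_map_eq_zero Bl).2 fun u hu => G.nd u fun v => by
    rw [← hBsim u v, hu, map_zero, LinearMap.zero_apply, mul_zero])
  obtain ⟨XA, hXA⟩ := C7.exists_gl A hAi
  set Kl := opp i l A Bl with hKl
  have hKiso : ∀ x x', G.B (t + 1) (Kl x) (Kl x') = G.B (t + 1) x x' := fun x x' =>
    LinearMap.congr_fun (LinearMap.congr_fun (lin_ext i
      (f := ((G.B (t + 1)).comp Kl).compl₂ Kl) (g := G.B (t + 1)) fun y z => lin_ext i fun y' z' => by
        simp only [LinearMap.compl₂_apply, LinearMap.comp_apply, hKl, opp_T, B_T, hAB]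
        linear_combination G.B t y y' * hBsim z z') x) x'
  obtain ⟨K, hK⟩ := C7.exists_gl Kl ((injective_iff_map_eq_zero Kl).2 fun x hx => G.nd_B x fun y => by
    rw [← hKiso, hx, map_zero, LinearMap.zero_apply])
  have hKT : ∀ y z, app K (T i y z) = T l (app XA y) (app XB z) := fun y z => by
    rw [hK, hKl, opp_T, hXA, hXB]
  set u := K⁻¹ * g with hu
  have hKu : g = K * u := by rw [hu, mul_inv_cancel_left]
  have hKM : ∀ C : GL (Fin k) F, (∀ u v, G.f (app C u) (app C v) = G.f u v) →
      K * kr i 1 C * K⁻¹ = kr l 1 (XB * C * XB⁻¹) ∧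
      ∀ u v, G.f (app (XB * C * XB⁻¹) u) (app (XB * C * XB⁻¹) v) = G.f u v := by
    intro C hC
    refine ⟨?_, fun u v => ?_⟩
    · rw [mul_inv_eq_iff_eq_mul]
      refine gl_ext_T i fun y z => ?_
      simp [app_kr, hKT]
    · have h1 : ∀ a b, κ * G.f (app XB a) (app XB b) = G.f a b := fun a b => by rw [hXB, hXB, hBsim]
      refine mul_left_cancel₀ hκ0 ?_
      simp only [map_mul, LinearEquiv.mul_apply]
      rw [h1, hC, ← h1, app_app_inv, app_app_inv]
  have hua : ∀ y, app u (T i y a) = T i y a := fun y => by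
    apply (app K).injective
    rw [hu, map_mul, LinearEquiv.mul_apply, app_app_inv, hA, hK, hKl, opp_T, hBla]
  have hux : ∀ y x, G.f a x = 0 → G.f d x = 0 → app u (T i y x) - T i y x ∈ Li i a := by
    intro y x h1 h2
    obtain ⟨c, hc⟩ := hcong y x h1
    change T l c a' = _ at hc
    obtain ⟨c₀, hc₀⟩ := hAs c
    refine ⟨c₀, (app K).injective ?_⟩
    rw [LinearMap.flip_apply, map_sub, hu, map_mul, LinearEquiv.mul_apply, app_app_inv, hK, hK, hKl,
      opp_T, opp_T, hBla, hc₀, hBlx x h1 h2, hc]
  -- the linear part of `u`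
  obtain ⟨C3, hC3, hC3i, hC3a, hC3d, hC3x⟩ := exists_neg hd
  set h := kr i (1 : GL (J k t) F) C3 with hh
  have hy1 : K * (u * h * u⁻¹ * h⁻¹) * K⁻¹ ∈ M := by
    rw [show K * (u * h * u⁻¹ * h⁻¹) * K⁻¹ = g * h * g⁻¹ * (K * h * K⁻¹)⁻¹ by rw [hKu]; group,
      (hKM C3 hC3).1]
    exact mul_mem (mul_mem (mul_mem hg (S.hO.slot i C3 hC3)) (inv_mem hg))
      (inv_mem (S.hO.slot l _ (hKM C3 hC3).2))
  have hC3' : app C3⁻¹ = app C3 := LinearEquiv.ext fun z => (app C3).injective (by
    rw [app_app_inv, hC3i])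
  have hKiso' : K ∈ G.isoGrp (t + 1) := fun x x' => by rw [hK, hK, hKiso]
  have huiso : u ∈ G.isoGrp (t + 1) := mul_mem (inv_mem hKiso') hiso
  have hKperp : ∀ x, ct l (G.f a') x = 0 → ct i (G.f a) (app K⁻¹ x) = 0 := fun x hx => ct_eq_zero fun y => by
    rw [← hKiso', hK (T i y a), hKl, opp_T, hBla, app_app_inv, B_ct, hx, map_zero]
  have huperp : ∀ x, ct i (G.f a) x = 0 → app u x - x ∈ Li i a := fun x hx => by
    have hx' : sl i (LinearMap.id - (G.f a).smulRight d) x = x := by
      rw [sl, show LinearMap.id - (G.f a).smulRight d = LinearMap.id + (-1 : F) • (G.f a).smulRight d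
        by module, op_add_right, op_one, op_smul_right]
      simp only [LinearMap.add_apply, LinearMap.id_apply, LinearMap.smul_apply]
      rw [← sl, sl_smulRight, hx]
      simp
    rw [← hx']
    have key : ∀ w, ((app u).toLinearMap - LinearMap.id : (J k (t + 1) → F) →ₗ[F] _) (sl i (LinearMap.id - (G.f a).smulRight d) w) ∈
        Li i a := fun w => by
      rw [← sum_T_single i w, map_sum, map_sum]
      refine Submodule.sum_mem _ fun c _ => ?_
      rw [sl_T]
      set b := (LinearMap.id - (G.f a).smulRight d : (Fin k → F) →ₗ[F] (Fin k → F)) (Pi.single c 1) with hb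
      have hb1 : G.f a b = 0 := by simp [hb, hd]
      have e : b = π b + (-G.f d b) • a := by simp [hπ, hb1]
      rw [e, map_add, map_add, map_smul, map_smul, LinearMap.sub_apply, LinearMap.sub_apply,
        LinearEquiv.coe_coe, hua]
      simp only [LinearMap.id_apply, sub_self, smul_zero, add_zero]
      exact hux _ _ (hπa b) (hπd b)
    simpa using key x
  obtain ⟨C'', hC'', hC''a, he⟩ := S.rad_slot (i := l) (a := a') hy1 ha'
    (fun y' => by
      obtain ⟨y, rfl⟩ := hAs y'
      have e : T l (A y) a' = app K (T i y a) := by rw [hK, hKl, opp_T, hBla]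
      have hu' : ∀ y, app u⁻¹ (T i y a) = T i y a := fun y => (app u).injective (by rw [app_app_inv, hua])
      rw [e]
      simp only [map_mul, LinearEquiv.mul_apply, app_inv_app, hh, kr_inv, inv_one, app_kr, hC3',
        hC3a, map_neg, map_one, LinearEquiv.coe_one, id_eq, hu', hua, neg_neg])
    (fun x hx => by
      have hx0 := hKperp x hx
      set x₀ := app K⁻¹ x with hx₀
      have hu1 : ∀ z, ct i (G.f a) z = 0 → app u⁻¹ z - z ∈ Li i a := fun z hz => by
        have hz' : ct i (G.f a) (app u⁻¹ z) = 0 := ct_eq_zero fun y => by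
          rw [← huiso, hua, app_app_inv, B_ct, hz, map_zero]
        have := Submodule.neg_mem _ (huperp _ hz')
        rwa [app_app_inv, neg_sub] at this
      have hhL : ∀ z ∈ Li i a, app h z ∈ Li i a := by
        rintro _ ⟨b, rfl⟩
        exact ⟨-b, by simp [hh, app_kr, hC3a]⟩
      have hhh : ∀ z, app h (app h z) = z := fun z => by
        refine LinearMap.congr_fun (lin_ext i (f := (app h).toLinearMap.comp (app h).toLinearMap)
          (g := LinearMap.id) fun y w => ?_) z
        simp [hh, app_kr, hC3i]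
      have hhinv : app h⁻¹ = app h := LinearEquiv.ext fun z => (app h).injective (by
        rw [app_app_inv, hhh])
      have hhperp : ∀ z, ct i (G.f a) z = 0 → ct i (G.f a) (app h z) = 0 := fun z hz => by
        rw [hh, app_kr_one_sl]
        have e : (ct i (G.f a)).comp (sl i (app C3).toLinearMap) = -(ct i (G.f a)) :=
          lin_ext i fun y w => by
            have : G.f a (app C3 w) = -G.f a w := by
              rw [← hC3, hC3i, hC3a, map_neg, LinearMap.neg_apply]
            simp [this]
        have := LinearMap.congr_fun e z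
        simpa [hz] using this
      set z₁ := app h⁻¹ x₀ with hz₁
      have hz₁p : ct i (G.f a) z₁ = 0 := by rw [hz₁, hhinv]; exact hhperp _ hx0
      set l₁ := app u⁻¹ z₁ - z₁ with hl₁
      have hl₁m : l₁ ∈ Li i a := hu1 _ hz₁p
      have hl₂m : app h l₁ ∈ Li i a := hhL _ hl₁m
      have e : app (u * h * u⁻¹ * h⁻¹) x₀ = app u x₀ + app u (app h l₁) := by
        simp only [map_mul, LinearEquiv.mul_apply, ← hz₁]
        rw [show app u⁻¹ z₁ = z₁ + l₁ by rw [hl₁]; abel, map_add, map_add,
          show app h z₁ = x₀ by rw [hz₁, hhinv, hhh]]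
      obtain ⟨b, hb⟩ := huperp x₀ hx0
      obtain ⟨b', hb'⟩ := hl₂m
      change T i b a = _ at hb
      change T i b' a = _ at hb'
      rw [map_mul, map_mul, LinearEquiv.mul_apply, LinearEquiv.mul_apply, ← hx₀, e, ← hb', hua,
        sub_eq_iff_eq_add'.1 hb.symm, map_add, map_add, hK (T i b a), hK (T i b' a), hKl, opp_T, opp_T,
        hBla, show app K x₀ = x from app_app_inv K x,
        show x + T l (A b) a' + T l (A b') a' - x = T l (A b) a' + T l (A b') a' by abel]
      exact Submodule.add_mem _ (T_mem_Li _ _ _) (T_mem_Li _ _ _))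
  set C1 := XB⁻¹ * C'' * XB with hC1
  have hC1a : app C1 a = a := by
    apply (app XB).injective
    rw [hC1, map_mul, map_mul, LinearEquiv.mul_apply, LinearEquiv.mul_apply, app_app_inv, hXB, hBla,
      hC''a]
  have huh : u * h = kr i 1 C1 * h * u := by
    have e2 : K⁻¹ * kr l 1 C'' * K = kr i 1 C1 := by
      rw [mul_assoc, inv_mul_eq_iff_eq_mul]
      refine gl_ext_T i fun y z => ?_
      simp [app_kr, hKT, hC1]
    rw [← e2, ← he]; group
  have hlin : ∀ y x, G.f a x = 0 → G.f d x = 0 →
      app u (T i y x) = T i y (x + (-2⁻¹ * G.f d (app C1 x)) • a) := by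
    intro y x hax hdx
    obtain ⟨b, hb⟩ := hux y x hax hdx
    change T i b a = _ at hb
    have h1 : app (u * h) (T i y x) = app (kr i 1 C1 * h * u) (T i y x) := by rw [huh]
    simp only [map_mul, LinearEquiv.mul_apply, hh, app_kr, map_one, LinearEquiv.coe_one, id_eq,
      hC3x x hax hdx, sub_eq_iff_eq_add'.1 hb.symm, map_add, hC3a, map_neg, hC1a] at h1
    have h4 := congrArg (ct i (G.f d)) h1
    simp [hdx, hda] at h4
    have hb2 : b = (-2⁻¹ * G.f d (app C1 x)) • y := by
      rw [← inv_smul_smul₀ h22 b, show (2 : F) • b = (-G.f d (app C1 x)) • y by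
        linear_combination (norm := module) -h4, smul_smul]
      congr 1
      ring
    rw [sub_eq_iff_eq_add'.1 hb.symm, map_add, map_smul, hb2, map_smul, LinearMap.smul_apply]
  obtain ⟨z, hz⟩ := G.exists_rep ((-2⁻¹ : F) • (G.f d).comp ((app C1).toLinearMap.comp π))
  have hπ0 : π a = 0 := by simp [hπ, hda, G.alt]
  have hza : G.f a z = 0 := G.zero_comm (by simp [hz, hπ0])
  obtain ⟨E4, hE4, e4⟩ := G.exists_sr a z hza 1
  have hub : ∀ y b, G.f a b = 0 → app u (T i y b) = T i y (app E4 b) := by
    intro y b hb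
    have e : b = π b + (-G.f d b) • a := by simp [hπ, hb]
    have h1 : app u (T i y b) = T i y (π b + (G.f z b) • a + (-G.f d b) • a) := by
      conv_lhs => rw [e, map_add, map_add, map_smul, map_smul, hua, hlin y _ (hπa b) (hπd b)]
      simp [hz, map_add, map_smul]
    rw [h1, e4]
    simp only [sy_apply, hb, zero_smul, zero_add, one_smul]
    rw [show π b + G.f z b • a + (-G.f d b) • a = π b + (-G.f d b) • a + G.f z b • a by abel, ← e]
  set g₁ := g * (kr i (1 : GL (J k t) F) E4)⁻¹ with hg₁
  set u₁ := u * (kr i (1 : GL (J k t) F) E4)⁻¹ with hu₁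
  have hg₁M : g₁ ∈ M := mul_mem hg (inv_mem (S.hO.slot i E4 hE4))
  have hg₁u : g₁ = K * u₁ := by rw [hg₁, hu₁, hKu, mul_assoc]
  have hu₁iso : u₁ ∈ G.isoGrp (t + 1) := mul_mem huiso (inv_mem (G.kr_one_iso i hE4))
  have hE4a : app E4 a = a := by rw [e4]; simp [G.alt, G.zero_comm hza]
  have hu₁b : ∀ y b, G.f a b = 0 → app u₁ (T i y b) = T i y b := fun y b hb => by
    have hb' : G.f a (app E4⁻¹ b) = 0 := by rw [← hE4, hE4a, app_app_inv, hb]
    rw [hu₁, map_mul, LinearEquiv.mul_apply, kr_inv, inv_one, app_kr, map_one, LinearEquiv.coe_one,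
      id_eq, hub y _ hb', app_app_inv]
  obtain ⟨Sc, hSc⟩ := exists_op_nn (i := i) ha (X := (app u₁).toLinearMap - LinearMap.id)
    (fun x hx => by
      have hx' : sl i (LinearMap.id - (G.f a).smulRight d) x = x := by
        rw [sl, show LinearMap.id - (G.f a).smulRight d = LinearMap.id + (-1 : F) • (G.f a).smulRight d
          by module, op_add_right, op_one, op_smul_right]
        simp only [LinearMap.add_apply, LinearMap.id_apply, LinearMap.smul_apply]
        rw [← sl, sl_smulRight, hx]
        simp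
      rw [← hx']
      refine LinearMap.congr_fun (lin_ext i (f := ((app u₁).toLinearMap - LinearMap.id).comp
        (sl i (LinearMap.id - (G.f a).smulRight d))) (g := 0) fun y w => ?_) x
      rw [LinearMap.comp_apply, sl_T, LinearMap.sub_apply, LinearEquiv.coe_coe, LinearMap.id_apply,
        hu₁b _ _ (by simp [hd]), sub_self, LinearMap.zero_apply])
    (fun x => mem_Li_of_perp fun y b hb => by
      have := hu₁iso (T i y b) x
      rw [hu₁b y b hb] at this
      rw [LinearMap.sub_apply, LinearEquiv.coe_coe, LinearMap.id_apply, map_sub, this, sub_self])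
  have hu₁x : ∀ x, app u₁ x = x + op i Sc (G.nn a) x := fun x => by
    rw [← LinearMap.congr_fun hSc x]; simp
  have htrans : ∀ (W : GL (J k (t + 1)) F) (D D' : (Fin k → F) →ₗ[F] (Fin k → F))
      (S₁ : (J k t → F) →ₗ[F] (J k t → F)), K * W * K⁻¹ ∈ M → (∀ x, app W x = x + op i S₁ D x) →
      (∀ w, D' (Bl w) = Bl (D w)) →
      InM M (op l ((app XA).toLinearMap.comp (S₁.comp (app XA⁻¹).toLinearMap)) D') := by
    intro W D D' S₁ hW hWx hD
    refine ⟨_, hW, fun x => ?_⟩
    obtain ⟨x, rfl⟩ := (app K).surjective x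
    rw [map_mul, map_mul, LinearEquiv.mul_apply, LinearEquiv.mul_apply, app_inv_app, hWx, map_add]
    congr 1
    refine LinearMap.congr_fun (lin_ext i (f := (app K).toLinearMap.comp (op i S₁ D))
      (g := (op l _ D').comp (app K).toLinearMap) fun y w => ?_) x
    have := hD w
    simp [hKT, hXB, this, app_inv_app]
  have hBla' : ∀ w, G.f a' (Bl w) = κ⁻¹ * G.f a w := fun w => by
    rw [← hBla, ← hBsim a w, ← mul_assoc, inv_mul_cancel₀ hκ0, one_mul]
  have hscalar : ∃ r : F, Sc = r • LinearMap.id := by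
    suffices h : ∃ r : F, (app XA).toLinearMap.comp (Sc.comp (app XA⁻¹).toLinearMap) =
        r • LinearMap.id by
      obtain ⟨r, hr⟩ := h
      refine ⟨r, LinearMap.ext fun y => (app XA).injective ?_⟩
      have := LinearMap.congr_fun hr (app XA y)
      simpa [app_inv_app] using this
    rcases S.hk with hk2 | hk4
    · -- a torus element
      have hk3 : Nat.card F ≠ 3 := by rw [Nat.card_eq_fintype_card]; exact S.hq hk2
      have hch : ringChar F ≠ 2 := fun e => h22 (by
        have := ringChar.Nat.cast_ringChar (R := F); rw [e] at this; exact_mod_cast this)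
      obtain ⟨s, hs0, hs1⟩ := QuadPair.exists_scalar hch hk3
      have hπz : ∀ w, π w = 0 := fun w => by
        have hker : LinearMap.ker (G.f a) = F ∙ a := by
          refine (Submodule.eq_of_le_of_finrank_le
            ((Submodule.span_singleton_le_iff_mem _ _).2 (G.alt a)) ?_).symm
          have h1 := (G.f a).finrank_range_add_finrank_ker
          rw [LinearMap.range_eq_top.2 (LinearMap.surjective_of_ne_zero fun e => by simp [e] at hd)] at h1
          rw [finrank_span_singleton ha]
          simp [hk2] at h1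
          omega
        obtain ⟨c, hc⟩ := Submodule.mem_span_singleton.1 (show π w ∈ F ∙ a from hker ▸ hπa w)
        have h := hπd w
        rw [← hc, map_smul, hda, smul_eq_mul, mul_neg_one, neg_eq_zero] at h
        rw [← hc, h, zero_smul]
      set R : (Fin k → F) →ₗ[F] (Fin k → F) :=
        (s⁻¹) • (G.f a).smulRight d - s • (G.f d).smulRight a with hR
      have hdec : ∀ w, w = G.f a w • d - G.f d w • a := fun w => by
        have := hπz w
        simp [hπ] at this
        linear_combination (norm := module) this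
      have hRiso : ∀ v w, G.f (R v) (R w) = G.f v w := fun v w => by
        conv_rhs => rw [hdec v, hdec w]
        simp [hR, hd, hda, G.alt]
        field_simp
      obtain ⟨C, hC⟩ := C7.exists_gl R ((injective_iff_map_eq_zero R).2 fun w hw => G.nd w fun v => by
        rw [← hRiso, hw, map_zero, LinearMap.zero_apply])
      have hCiso : ∀ v w, G.f (app C v) (app C w) = G.f v w := fun v w => by rw [hC, hC, hRiso]
      set c := kr i (1 : GL (J k t) F) C with hc
      have hW : K * (u₁ * c * u₁⁻¹ * c⁻¹) * K⁻¹ ∈ M := by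
        rw [show K * (u₁ * c * u₁⁻¹ * c⁻¹) * K⁻¹ = g₁ * c * g₁⁻¹ * (K * c * K⁻¹)⁻¹ by rw [hg₁u]; group,
          (hKM C hCiso).1]
        exact mul_mem (mul_mem (mul_mem hg₁M (S.hO.slot i C hCiso)) (inv_mem hg₁M))
          (inv_mem (S.hO.slot l _ (hKM C hCiso).2))
      have hm := htrans _ (G.nn a) (κ • G.nn a') ((1 - s ^ 2) • Sc) hW (fun x => by
          obtain ⟨x, rfl⟩ := (app c).surjective x
          obtain ⟨x, rfl⟩ := (app u₁).surjective x
          simp only [map_mul, LinearEquiv.mul_apply, app_inv_app]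
          rw [hu₁x (app c x), hu₁x x]
          have h1 := LinearMap.congr_fun (lin_ext i
            (f := (app c).toLinearMap + (op i Sc (G.nn a)).comp (app c).toLinearMap)
            (g := ((LinearMap.id + op i ((1 - s ^ 2) • Sc) (G.nn a)).comp (app c).toLinearMap).comp
              (LinearMap.id + op i Sc (G.nn a))) fun y w => by
              have hRa : R a = s • a := by simp [hR, hd, hda, G.alt]
              have hfa : G.f a (R w) = s⁻¹ * G.f a w := by simp [hR, hd, G.alt]
              simp [hc, app_kr, hC, hRa, hfa, G.alt]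
              match_scalars <;> field_simp <;> ring) x
          simpa using h1)
        (fun w => by simp [hBla', hBla, hκ0, smul_smul])
      obtain ⟨r, hr⟩ := S.scal ha' (i := l)
        (K := κ • ((app XA).toLinearMap.comp (((1 - s ^ 2) • Sc).comp (app XA⁻¹).toLinearMap))) (by
          rwa [op_smul_left, ← op_smul_right])
      refine ⟨r / (κ * (1 - s ^ 2)), LinearMap.ext fun y => ?_⟩
      have hne : κ * (1 - s ^ 2) ≠ 0 := mul_ne_zero hκ0 fun e => hs1 (by linear_combination -e)
      have := LinearMap.congr_fun hr y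
      simp only [LinearMap.smul_apply, LinearMap.comp_apply, LinearMap.id_apply, LinearEquiv.coe_coe,
        map_smul, smul_smul] at this
      simp only [LinearMap.smul_apply, LinearMap.comp_apply, LinearMap.id_apply, LinearEquiv.coe_coe]
      rw [div_eq_inv_mul, ← smul_smul _ r, ← this, inv_smul_smul₀ hne]
    · -- a vector orthogonal to `a`, `d`
      obtain ⟨w, hw0, haw, hdw⟩ : ∃ w, w ≠ 0 ∧ G.f a w = 0 ∧ G.f d w = 0 := by
        by_contra! hh
        have hle : LinearMap.ker ((G.f a).prod (G.f d)) = ⊥ := LinearMap.ker_eq_bot'.2 fun w hw => by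
          by_contra hw0; exact hh w hw0 (congrArg Prod.fst hw) (congrArg Prod.snd hw)
        have h1 := ((G.f a).prod (G.f d)).finrank_range_add_finrank_ker
        have h2 := Submodule.finrank_le (LinearMap.range ((G.f a).prod (G.f d)))
        rw [hle, finrank_bot] at h1
        simp at h1 h2
        omega
      have hwa : G.f w a = 0 := G.zero_comm haw
      have hwd : G.f w d = 0 := G.zero_comm hdw
      obtain ⟨C, hC, eC⟩ := G.exists_sr d w hdw 1
      have eC' : ∀ v, app C⁻¹ v = v - G.sy d w v := fun v => (app C).injective (by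
        rw [app_app_inv, eC, one_smul, map_sub, G.sy_sq hdw]
        abel)
      have eC'' : ∀ v, (app C).symm v = v - G.sy d w v := fun v => by
        rw [LinearEquiv.symm_apply_eq, ← eC' v, app_app_inv]
      set c := kr i (1 : GL (J k t) F) C with hc
      have hW : K * (c⁻¹ * u₁ * c * u₁⁻¹) * K⁻¹ ∈ M := by
        rw [show K * (c⁻¹ * u₁ * c * u₁⁻¹) * K⁻¹ = (K * c * K⁻¹)⁻¹ * (g₁ * c * g₁⁻¹) by rw [hg₁u]; group,
          (hKM C hC).1]
        exact mul_mem (inv_mem (S.hO.slot l _ (hKM C hC).2))
          (mul_mem (mul_mem hg₁M (S.hO.slot i C hC)) (inv_mem hg₁M))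
      set w' := Bl w with hw'
      have hw'a : G.f a' w' = 0 := by rw [hw', hBla', haw, mul_zero]
      have hw'0 : w' ≠ 0 := fun e => hw0 (G.nd w fun v => by
        rw [← hBsim, ← hw', e, map_zero, LinearMap.zero_apply, mul_zero])
      have hm := htrans _ (G.sy a w + G.nn w) (κ • (G.sy a' w' + G.nn w')) Sc hW (fun x => by
          obtain ⟨x, rfl⟩ := (app u₁).surjective x
          simp only [map_mul, LinearEquiv.mul_apply, app_inv_app]
          rw [hu₁x (app c x), hu₁x x]
          have h1 := LinearMap.congr_fun (lin_ext i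
            (f := (app c⁻¹).toLinearMap.comp ((app c).toLinearMap +
              (op i Sc (G.nn a)).comp (app c).toLinearMap))
            (g := (LinearMap.id + op i Sc (G.sy a w + G.nn w)).comp
              (LinearMap.id + op i Sc (G.nn a))) fun y v => by
              simp [hc, kr_inv, app_kr, eC, eC'', G.alt, hd, hda, haw, hwa, hdw, hwd]
              module) x
          simpa using h1)
        (fun v => by simp [hw', hBla', ← hBsim w v, hBla, smul_smul, hκ0])
      set S'' := κ • ((app XA).toLinearMap.comp (Sc.comp (app XA⁻¹).toLinearMap)) with hS''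
      have hm1 : InM M (op l S'' (G.sy a' w' + G.nn w')) := by
        rw [hS'', op_smul_left, ← op_smul_right]; exact hm
      have hd₀' : G.f a' (κ • d₀) = 1 := by rw [map_smul, smul_eq_mul, hd₀a]
      obtain ⟨Cn, hCn, hCni, hCna, -, hCnx⟩ := exists_neg hd₀'
      have hCnw : app Cn w' = w' := hCnx w' hw'a (by
        rw [hw', hBlx w haw hdw, map_smul, LinearMap.smul_apply, hd₀ w haw hdw, smul_zero])
      have hCn' : app Cn⁻¹ = app Cn := LinearEquiv.ext fun v => (app Cn).injective (by
        rw [app_app_inv, hCni])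
      have hm2 : InM M (op l S'' (-G.sy a' w' + G.nn w')) := by
        have := hm1.conj (S.hO.slot l Cn hCn)
        convert this using 1
        refine lin_ext l fun y v => ?_
        have hCnv : ∀ b, G.f b (app Cn v) = G.f (app Cn b) v := fun b => by
          rw [← hCn b (app Cn v), hCni]
        simp [kr_inv, app_kr, hCn', hCnv, hCna, hCnw]
        abel
      have hw'a' : G.f w' a' = 0 := G.zero_comm hw'a
      have h2 := hm1.add hm2 fun x => LinearMap.congr_fun (lin_ext l
        (f := (op l S'' (G.sy a' w' + G.nn w')).comp (op l S'' (-G.sy a' w' + G.nn w'))) (g := 0)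
        fun y v => by simp [G.alt, hw'a, hw'a']) x
      obtain ⟨r, hr⟩ := S.scal hw'0 (i := l) (K := (2 : F) • S'') (by
        convert h2 using 1
        refine lin_ext l fun y v => ?_
        simp
        module)
      refine ⟨r / (2 * κ), LinearMap.ext fun y => ?_⟩
      have := LinearMap.congr_fun hr y
      simp only [hS'', LinearMap.smul_apply, LinearMap.comp_apply, LinearMap.id_apply,
        LinearEquiv.coe_coe, smul_smul] at this
      simp only [LinearMap.smul_apply, LinearMap.comp_apply, LinearMap.id_apply, LinearEquiv.coe_coe]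
      rw [div_eq_inv_mul, ← smul_smul _ r, ← this, inv_smul_smul₀ (mul_ne_zero h22 hκ0)]
  obtain ⟨r, rfl⟩ := hscalar
  obtain ⟨D, -, eD⟩ := G.exists_sr a a (G.alt a) (r / 2)
  refine ⟨XA, XB * D * E4, fun y w => ?_⟩
  have e : g = g₁ * kr i 1 E4 := by rw [hg₁, inv_mul_cancel_right]
  rw [e, hg₁u, map_mul, map_mul, LinearEquiv.mul_apply, LinearEquiv.mul_apply, app_kr, map_one,
    LinearEquiv.coe_one, id_eq, hu₁x, show T i y (app E4 w) + op i (r • LinearMap.id) (G.nn a)
      (T i y (app E4 w)) = T i y (app D (app E4 w)) by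
      rw [eD, sy_self, op_T]
      simp
      match_scalars <;> field_simp, hKT]
  simp

end Fm

end Cfsg.Agent.C7F
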