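import Cfsg.Agent.Lib.C7F.NonScal

/-!
# The extraction theorem

* `Fm.big_of_mixed` : all factors non-trivial, one self-adjoint
* `Fm.big_of_pattern` : a pure root operator with two non-trivial factors
* `Fm.big_of_nonscalar` : `1 + K ⊗ nn a ∈ M`, `K` not scalar
-/

set_option autoImplicit false
set_option linter.unusedSectionVars false

namespace Cfsg.Agent.C7F

open Matrix Module Cfsg.Agent.Transvect Cfsg.Agent.C7
open scoped MatrixGroups

attribute [-simp] app_apply

variable {F : Type*} [Field F] [Fintype F] {k t : ℕ}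

namespace Fm

variable {G : Fm F k} {M : Subgroup (GL (J k (t + 1)) F)}

/-- Conjugating a pure operator by a factor-wise element. -/
lemma exists_slots (hO : G.Ovg M) (C : Fin (t + 1) → GL (Fin k) F)
    (hC : ∀ l, ∀ u v, G.f (app (C l) u) (app (C l) v) = G.f u v) :
    ∃ g ∈ M, ∀ p, app g (pr p) = pr fun l => app (C l) (p l) := by
  suffices h : ∀ s : Finset (Fin (t + 1)), ∃ g ∈ M, ∀ p, app g (pr p) =
      pr (s.piecewise (fun l => app (C l) (p l)) p) by
    obtain ⟨g, hg, e⟩ := h Finset.univ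
    exact ⟨g, hg, fun p => by simpa using e p⟩
  intro s
  induction s using Finset.induction_on with
  | empty => exact ⟨1, one_mem M, fun p => by simp⟩
  | @insert i s his ih =>
    obtain ⟨g, hg, e⟩ := ih
    refine ⟨kr i 1 (C i) * g, mul_mem (hO.slot i _ (hC i)) hg, fun p => ?_⟩
    rw [map_mul, LinearEquiv.mul_apply, e, app_kr_one_pr, Finset.piecewise_eq_of_notMem _ _ _ his,
      ← Finset.piecewise_insert]

lemma InM.conj_pt {E E' : Fin (t + 1) → (Fin k → F) →ₗ[F] (Fin k → F)} {c : F}
    (h : InM M (c • pt E)) {g : GL (J k (t + 1)) F} (hg : g ∈ M)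
    (he : ∀ p, app g (pt E (pr p)) = pt E' (app g (pr p))) : InM M (c • pt E') := by
  have := h.conj hg
  rwa [LinearMap.smul_comp, LinearMap.comp_smul, show
    (app g).toLinearMap.comp ((pt E).comp (app g⁻¹).toLinearMap) = pt E' from ?_] at this
  have h1 : (app g).toLinearMap.comp (pt E) = (pt E').comp (app g).toLinearMap := ext_pr he
  refine LinearMap.ext fun x => ?_
  have := LinearMap.congr_fun h1 (app g⁻¹ x)
  simpa [app_app_inv] using this

lemma exists_sep {a x : Fin k → F} (hx : x ∉ F ∙ a) : ∃ w, G.f a w = 0 ∧ G.f x w ≠ 0 := by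
  obtain ⟨w, hw, hw'⟩ := G.exists_perp_one hx
  exact ⟨w, hw, by rw [G.skew, hw']; exact neg_ne_zero.2 one_ne_zero⟩

/-- An isometry taking `x` to `a` and `a` to a vector not orthogonal to `x`. -/
lemma exists_pairing {a x : Fin k → F} (ha : a ≠ 0) (hx : x ∉ F ∙ a) (hax : G.f a x = 0) :
    ∃ C : GL (Fin k) F, (∀ u v, G.f (app C u) (app C v) = G.f u v) ∧ app C x = a ∧
      G.f x (app C a) ≠ 0 := by
  have hx0 : x ≠ 0 := fun e => hx (e ▸ Submodule.zero_mem _)
  obtain ⟨C, hC, e⟩ := G.exists_move hx0 ha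
  by_cases h : G.f x (app C a) = 0
  swap
  · exact ⟨C, hC, e, h⟩
  set y := app C a with hy
  have hy' : y ∉ F ∙ a := fun hh => by
    obtain ⟨c, hc⟩ := Submodule.mem_span_singleton.1 hh
    refine hx (Submodule.mem_span_singleton.2 ⟨c⁻¹, ?_⟩)
    have hc0 : c ≠ 0 := fun e0 => ha (by
      rw [e0, zero_smul] at hc; exact (app C).map_eq_zero_iff.1 (hy ▸ hc.symm))
    apply (app C).injective
    rw [map_smul, e, ← hy, ← hc, inv_smul_smul₀ hc0]
  obtain ⟨w, hw, hwx, hwy⟩ : ∃ w, G.f a w = 0 ∧ G.f x w ≠ 0 ∧ G.f y w ≠ 0 := by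
    obtain ⟨w₁, h11, h12⟩ := G.exists_sep hx
    obtain ⟨w₂, h21, h22⟩ := G.exists_sep hy'
    by_cases h1 : G.f y w₁ = 0
    · by_cases h2 : G.f x w₂ = 0
      · exact ⟨w₁ + w₂, by simp [h11, h21], by simp [h12, h2], by simp [h1, h22]⟩
      · exact ⟨w₂, h21, h2, h22⟩
    · exact ⟨w₁, h11, h12, h1⟩
  obtain ⟨D, hD, eD⟩ := G.exists_sr w w (G.alt w) 1
  refine ⟨D * C, fun u v => by simp only [map_mul, LinearEquiv.mul_apply, hD, hC], ?_, ?_⟩
  · rw [map_mul, LinearEquiv.mul_apply, e, eD]; simp [G.zero_comm hw]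
  · have hwy' : G.f w y ≠ 0 := fun e0 => hwy (G.zero_comm e0)
    have h22 := G.two
    rw [map_mul, LinearEquiv.mul_apply, ← hy, eD]
    simp [h]
    rw [← two_mul, ← mul_assoc]
    exact mul_ne_zero (mul_ne_zero h22 hwy') hwx

/-- Data of one factor. -/
lemma Shape.data {E : (Fin k → F) →ₗ[F] (Fin k → F)} (h : G.Shape E) (hne : E ≠ LinearMap.id) :
    ∃ (a q : Fin k → F) (c : F) (C : GL (Fin k) F), a ≠ 0 ∧ q ≠ 0 ∧ c ≠ 0 ∧
      (∀ u v, G.f (app C u) (app C v) = G.f u v) ∧ ∃ E' : (Fin k → F) →ₗ[F] (Fin k → F),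
      (∀ z, app C (E z) = E' (app C z)) ∧
      E.comp E' = c • (G.f q).smulRight a ∧ E'.comp E = (-c) • (G.f a).smulRight q ∧
      ((E = G.nn a ∧ G.f a q = c) ∨
        (q = a ∧ (∀ z, E (E' (E z)) = 0) ∧ (∀ z, E' (E (E' z)) = 0) ∧ 3 ≤ k ∧
          ∀ u v, G.f (E u) v = G.f u (E v))) := by
  rcases h with rfl | ⟨a, ha, rfl⟩ | ⟨a, x, ha, hx, hax, rfl⟩
  · exact absurd rfl hne
  · obtain ⟨d, hd⟩ := G.exists_dual ha
    have hd0 : d ≠ 0 := fun e => by simp [e] at hd
    obtain ⟨C, hC, e⟩ := G.exists_move ha hd0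
    refine ⟨a, d, 1, C, ha, hd0, one_ne_zero, hC, G.nn d, fun z => ?_, ?_, ?_, .inl ⟨rfl, hd⟩⟩
    · rw [nn_apply, nn_apply, map_smul, e, ← e, hC]
    · exact LinearMap.ext fun z => by simp [hd]
    · exact LinearMap.ext fun z => by simp [G.skew a d, hd]
  · obtain ⟨C, hC, e, hne'⟩ := G.exists_pairing ha hx hax
    set y := app C a with hy
    have hay : G.f y a = 0 := by have := hC a x; rwa [e, hax, ← hy] at this
    refine ⟨a, a, G.f x y, C, ha, ha, hne', hC, G.au y a, fun z => ?_, ?_, ?_, .inr ⟨rfl, ?_, ?_, ?_, G.au_self a x⟩⟩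
    · have h1 := hC a z
      have h2 := hC x z
      rw [← hy] at h1
      rw [e] at h2
      rw [au_apply, au_apply, map_sub, map_smul, map_smul, e, ← hy, h1, h2]
    · exact LinearMap.ext fun z => by
        simp [G.alt, hax, G.zero_comm hax, G.zero_comm hay, G.skew x y]
        module
    · exact LinearMap.ext fun z => by
        simp [G.alt, hax, G.zero_comm hax, hay, G.skew x y]
        module
    · intro z; simp [G.alt, hax, G.zero_comm hax, hay, G.zero_comm hay]
    · intro z; simp [G.alt, hax, G.zero_comm hax, hay, G.zero_comm hay]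
    · by_contra hk
      refine hx ?_
      have hker : finrank F (LinearMap.ker (G.f a)) ≤ 1 := by
        have h2 := (G.f a).finrank_range_add_finrank_ker
        obtain ⟨d, hd⟩ := G.exists_dual ha
        have h3 : 1 ≤ finrank F (LinearMap.range (G.f a)) := by
          rw [LinearMap.range_eq_top.2 fun c => ⟨c • d, by simp [hd]⟩, finrank_top,
            Module.finrank_self]
        simp at h2
        omega
      rw [show F ∙ a = LinearMap.ker (G.f a) from Submodule.eq_of_le_of_finrank_le
        ((Submodule.span_singleton_le_iff_mem _ _).2 (G.alt a))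
        (hker.trans (by rw [finrank_span_singleton ha]))]
      exact hax

/-- All factors non-trivial. -/
lemma big_of_full (hk : k = 2 ∨ 4 ≤ k) (hO : G.Ovg M)
    {E : Fin (t + 1) → (Fin k → F) →ₗ[F] (Fin k → F)} (hE : ∀ l, G.Shape (E l))
    (hne : ∀ l, E l ≠ LinearMap.id) {s : Fin (t + 1)} {a : Fin k → F} (ha : a ≠ 0)
    (hs : E s = G.nn a) (ht : 1 ≤ t) {c : F} (hc : c ≠ 0) (h : InM M (c • pt E)) :
    G.Big M ∧ ¬ (k = 2 ∧ t = 1) := by
  classical
  have h22 := G.two
  choose av q κ C hav hq hκ hC E' hconj hEE' hE'E hcase using fun l => (hE l).data (hne l)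
  by_cases hall : ∀ l, E l = G.nn (av l)
  · -- a transvection
    have hE1 : pt E = G.dy (pr av) (pr av) := by
      rw [show E = fun l => (1 : F) • (G.f (av l)).smulRight (av l) from funext fun l => by
        rw [hall l, one_smul]; rfl, pt_rank_one, Finset.prod_const_one, one_smul]
    rw [hE1] at h
    have hP : G.B _ (pr av) (pr av) = 0 := B_pr_zero 0 (G.alt _)
    obtain ⟨g, hg, e⟩ := h
    have hadj := adj_neg_of_iso (hO.le hg) e fun u v => by simp [hP]
    have hsg : G.sgn (t + 1) = -1 := by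
      by_contra hne1
      have hs1 : G.sgn (t + 1) = 1 := by
        rcases neg_one_pow_eq_or F (t + 1) with h' | h'
        · exact h'
        · exact absurd h' hne1
      obtain ⟨y, hy⟩ : ∃ y, G.B (t + 1) (pr av) y ≠ 0 := by
        by_contra! hh; exact pr_ne_zero hav (G.nd_B _ hh)
      have h1 := hadj y y
      simp [G.B_comm (pr av) y, hs1] at h1
      exact mul_ne_zero (mul_ne_zero h22 hc) (mul_ne_zero hy hy) (by linear_combination h1)
    refine ⟨big_of_transvection hO hsg hav hc ⟨g, hg, e⟩, fun hh => ?_⟩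
    rw [hh.2, sgn_succ, sgn_succ, sgn, pow_zero, neg_neg] at hsg
    exact h22 (by linear_combination hsg)
  push Not at hall
  obtain ⟨l₁, hl₁⟩ := hall
  obtain ⟨hql, hEEE, hEEE', hk3, hself⟩ := (hcase l₁).resolve_left fun h => hl₁ h.1
  have hk4 : 4 ≤ k := by omega
  refine ⟨?_, fun hh => by omega⟩
  -- the commutator with a conjugate
  obtain ⟨g, hg, eg⟩ := G.exists_slots hO C hC
  have h' : InM M (c • pt E') := InM.conj_pt h hg fun p => by
    rw [pt_pr, eg, eg, pt_pr]
    exact congrArg pr (funext fun l => hconj l (p l))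
  have hsq : ∀ (E₀ : Fin (t + 1) → (Fin k → F) →ₗ[F] (Fin k → F)), (∀ z, E₀ l₁ (E₀ l₁ z) = 0) →
      ∀ x, (c • pt E₀) ((c • pt E₀) x) = 0 := fun E₀ h0 x => by
    rw [LinearMap.smul_apply, LinearMap.smul_apply, map_smul,
      show pt E₀ (pt E₀ x) = (pt E₀).comp (pt E₀) x from rfl, pt_comp,
      pt_eq_zero l₁ (LinearMap.ext h0)]
    simp
  have htri : ∀ (E₀ E₁ : Fin (t + 1) → (Fin k → F) →ₗ[F] (Fin k → F)),
      (∀ z, E₀ l₁ (E₁ l₁ (E₀ l₁ z)) = 0) → ∀ x, (c • pt E₀) ((c • pt E₁) ((c • pt E₀) x)) = 0 := by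
    intro E₀ E₁ h0 x
    simp only [LinearMap.smul_apply, map_smul]
    rw [show pt E₀ (pt E₁ (pt E₀ x)) = ((pt E₀).comp ((pt E₁).comp (pt E₀))) x from rfl, pt_comp,
      pt_comp, pt_eq_zero l₁ (LinearMap.ext h0)]
    simp
  have hE'sq : ∀ z, E' l₁ (E' l₁ z) = 0 := fun z => by
    obtain ⟨z', rfl⟩ := (app (C l₁)).surjective z
    rw [← hconj, ← hconj, (hE l₁).sq (hne l₁), map_zero]
  have hcomm := h.comm h' (hsq E ((hE l₁).sq (hne l₁))) (hsq E' hE'sq) (htri E E' hEEE)
    (htri E' E hEEE')
  set π := c * c * ∏ l, κ l with hπ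
  have hπ0 : π ≠ 0 := mul_ne_zero (mul_ne_zero hc hc) (Finset.prod_ne_zero_iff.2 fun l _ => hκ l)
  have hcomm' : InM M (π • (G.dy (pr av) (pr q) - G.sgn (t + 1) • G.dy (pr q) (pr av))) := by
    convert hcomm using 1
    rw [LinearMap.smul_comp, LinearMap.comp_smul, LinearMap.smul_comp, LinearMap.comp_smul,
      pt_comp, pt_comp, show (fun l => (E l).comp (E' l)) = fun l => κ l • (G.f (q l)).smulRight (av l)
        from funext hEE', show (fun l => (E' l).comp (E l)) = fun l => (-κ l) • (G.f (av l)).smulRight (q l)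
        from funext hE'E, pt_rank_one, pt_rank_one]
    have : ∏ l, -κ l = G.sgn (t + 1) * ∏ l, κ l := by
      rw [sgn, show (fun l => -κ l) = fun l => (-1 : F) * κ l from funext fun l => by ring,
        Finset.prod_mul_distrib]
      simp
    rw [this, hπ]
    module
  have hskew : ∀ l, E l = G.nn a → (E l = G.nn (av l) ∧ G.f (av l) (q l) = κ l) := fun l hl => by
    refine (hcase l).resolve_right fun hr => ?_
    obtain ⟨d, hd⟩ := G.exists_dual ha
    have h2 := hr.2.2.2.2 d d
    rw [hl, nn_apply, hd, one_smul, hd, G.skew a d, hd] at h2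
    exact h22 (by linear_combination h2)
  have hls : s ≠ l₁ := fun e => hl₁ (e ▸ (hskew s hs).1)
  rcases neg_one_pow_eq_or F (t + 1) with hsg | hsg
  · -- a root
    change G.sgn (t + 1) = 1 at hsg
    rw [hsg, one_smul] at hcomm'
    set p' := Function.update av l₁ (π • av l₁) with hp'
    have hpr : pr p' = π • pr av := pr_update_smul av l₁ π
    have hfin : InM M (G.dy (pr p') (pr q) - G.dy (pr q) (pr p')) := by
      convert hcomm' using 1
      rw [hpr]
      exact LinearMap.ext fun x => by simp [smul_sub, smul_smul, mul_comm]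
    have hB : G.B _ (pr q) (pr p') = 0 :=
      B_pr_zero l₁ (by rw [hp', Function.update_self, hql, map_smul, G.alt, smul_zero])
    refine big_of_root (p := q) (q := p') (j := s) hsg ht (.inr hk4) hO hq (fun l => ?_) ?_ hB
      (re_of_inM hsg hB hfin)
    · by_cases hl : l = l₁
      · subst hl; rw [hp', Function.update_self]; exact smul_ne_zero hπ0 (hav _)
      · rw [hp', Function.update_of_ne hl]; exact hav l
    · rw [hp', Function.update_of_ne hls]
      exact fun e0 => hκ s (by rw [← (hskew s hs).2, G.zero_comm e0])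
  · -- a transvection, processing the positions
    change G.sgn (t + 1) = -1 at hsg
    rw [hsg, show G.dy (pr av) (pr q) - (-1 : F) • G.dy (pr q) (pr av) =
      G.dy (pr av) (pr q) + G.dy (pr q) (pr av) by module] at hcomm'
    obtain ⟨t', rfl⟩ : ∃ t', t = t' + 1 := ⟨t - 1, by omega⟩
    set a₁ := av l₁ with ha₁
    have hnn : G.nn a₁ = (G.f a₁).smulRight a₁ := rfl
    have main : ∀ S : Finset (Fin (t' + 1)), ∃ (P Q : Fin (t' + 1) → Fin k → F) (μ : F),
        μ ≠ 0 ∧ (∀ j, P j ≠ 0) ∧ (∀ j, Q j ≠ 0) ∧ (∀ j ∈ S, P j = Q j) ∧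
        InM M (op l₁ (μ • (G.dy (pr P) (pr Q) + G.dy (pr Q) (pr P))) (G.nn a₁)) := by
      intro S
      induction S using Finset.induction_on with
      | empty =>
        refine ⟨fun j => av (l₁.succAbove j), fun j => q (l₁.succAbove j), π, hπ0, fun j => hav _,
          fun j => hq _, by simp, ?_⟩
        convert hcomm' using 1
        rw [op_smul_left, op_add_left, hnn, op_dy, op_dy, ha₁, T_pr, ← ha₁, ← hql, T_pr]
      | @insert j S hj ih =>
        obtain ⟨P, Q, μ, hμ, hP, hQ, hPQ, hin⟩ := ih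
        by_cases hjeq : P j = Q j
        · exact ⟨P, Q, μ, hμ, hP, hQ, fun i hi => by
            rcases Finset.mem_insert.1 hi with rfl | hi
            · exact hjeq
            · exact hPQ i hi, hin⟩
        obtain ⟨z, hz, hz'⟩ := G.exists_both (hP j) (hQ j)
        have hz0 : z ≠ 0 := fun e => hz (by simp [e])
        have hmem := (cls_VS hO l₁ (G.nn_sq a₁)).mem G hin j (G.alt z)
        set D := sl j (G.sy z z) with hD
        have hDs : ∀ x y, G.B _ x (D y) = -G.B _ (D x) y := fun x y => by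
          have h1 := Adj.op (G := G) (i := j) (A := LinearMap.id) (A' := LinearMap.id)
            (fun u v => rfl) (G.sy_skew z z) x y
          rw [show op j LinearMap.id (-G.sy z z) = -D from lin_ext j fun u v => by simp [hD]] at h1
          simp only [LinearMap.neg_apply, map_neg] at h1
          rw [hD, sl] at h1 ⊢
          linear_combination h1
        have hDp : ∀ R : Fin (t' + 1) → Fin k → F,
            D (pr R) = (2 * G.f z (R j)) • pr (Function.update R j z) := fun R => by
          rw [hD, sl_pr, ← pr_update_smul']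
          congr 2
          simp [two_smul]
          module
        refine ⟨Function.update P j z, Function.update Q j z,
          (-2) * μ * -((2 * G.f z (P j)) * (2 * G.f z (Q j))), ?_, fun i => ?_, fun i => ?_,
          fun i hi => ?_, ?_⟩
        · refine mul_ne_zero (mul_ne_zero (neg_ne_zero.2 h22) hμ) (neg_ne_zero.2 ?_)
          exact mul_ne_zero (mul_ne_zero h22 fun e => hz (G.zero_comm e))
            (mul_ne_zero h22 fun e => hz' (G.zero_comm e))
        · by_cases hi : i = j
          · subst hi; simpa using hz0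
          · rw [Function.update_of_ne hi]; exact hP i
        · by_cases hi : i = j
          · subst hi; simpa using hz0
          · rw [Function.update_of_ne hi]; exact hQ i
        · by_cases hij : i = j
          · subst hij; simp
          · rw [Function.update_of_ne hij, Function.update_of_ne hij]
            exact hPQ i ((Finset.mem_insert.1 hi).resolve_left hij)
        · change InM M _ at hmem
          convert hmem using 2
          refine LinearMap.ext fun x => ?_
          simp only [LinearMap.smul_apply, LinearMap.add_apply, LinearMap.comp_apply, dy_apply,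
            map_smul, map_add, hDs, hDp]
          module
    obtain ⟨P, Q, μ, hμ, hP, -, hPQ, hin⟩ := main Finset.univ
    rw [show Q = P from funext fun j => (hPQ j (Finset.mem_univ j)).symm,
      show μ • (G.dy (pr P) (pr P) + G.dy (pr P) (pr P)) = (2 * μ) • G.dy (pr P) (pr P) by module,
      op_smul_left, hnn, op_dy, T_pr'] at hin
    refine big_of_transvection hO hsg (fun l => ?_) (mul_ne_zero h22 hμ) hin
    obtain rfl | ⟨m, rfl⟩ := l₁.eq_self_or_eq_succAbove l
    · simpa using hav l
    · rw [Fin.insertNth_apply_succAbove]; exact hP m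

/-- A pure root operator with two non-trivial factors. -/
theorem big_of_pattern (hk : k = 2 ∨ 4 ≤ k) (hO : G.Ovg M) (IH : ∀ r, t = r + 1 → G.Maxl r)
    {E : Fin (t + 1) → (Fin k → F) →ₗ[F] (Fin k → F)} (hE : ∀ l, G.Shape (E l))
    {s l : Fin (t + 1)} (hsl : l ≠ s) {a : Fin k → F} (ha : a ≠ 0) (hs : E s = G.nn a)
    (hl : E l ≠ LinearMap.id) {c : F} (hc : c ≠ 0) (h : InM M (c • pt E)) :
    G.Big M ∧ ¬ (k = 2 ∧ t = 1) := by
  classical
  have ht : 1 ≤ t := by
    by_contra ht
    obtain rfl : t = 0 := by omega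
    exact hsl (Subsingleton.elim (α := Fin 1) l s)
  by_cases hid : ∀ i, E i ≠ LinearMap.id
  · exact big_of_full hk hO hE hid ha hs ht hc h
  push Not at hid
  obtain ⟨i, hi⟩ := hid
  have his : i ≠ s := fun e => G.nn_ne_id ha (by rw [← hs, ← e, hi])
  have hil : i ≠ l := fun e => hl (e ▸ hi)
  obtain ⟨r, rfl⟩ : ∃ r, t = r + 1 := ⟨t - 1, by omega⟩
  have h3 : 3 ≤ r + 1 + 1 := by
    have h1 := Finset.card_le_univ ({i, s, l} : Finset (Fin (r + 1 + 1)))
    rw [Finset.card_insert_of_notMem (by simp [his, hil]), Finset.card_pair hsl.symm,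
      Fintype.card_fin] at h1
    exact h1
  have hk2 : 2 ≤ k := by omega
  have hbig : ∀ i', G.Big (res i' M) ∧ ¬ (k = 2 ∧ r = 1) := by
    intro i'
    obtain ⟨σ, hσ, hσi⟩ := exists_even h3 i i'
    obtain ⟨g, hg, eg⟩ := G.exists_perm σ
    have hgM := hO.perm σ g hσ hg
    have h' : InM M (c • pt (E ∘ ⇑σ⁻¹)) := InM.conj_pt h hgM fun p => by
      rw [pt_pr, eg, eg, pt_pr]; rfl
    set E' := E ∘ ⇑σ⁻¹ with hE'
    have hE'i : E' i' = LinearMap.id := by
      show E (σ⁻¹ i') = _
      rw [← hσi, Equiv.Perm.coe_inv, Equiv.symm_apply_apply, hi]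
    obtain ⟨j, hj⟩ : ∃ j, i'.succAbove j = σ s := Fin.exists_succAbove_eq fun e =>
      his (σ.injective (hσi.trans e.symm))
    obtain ⟨j', hj'⟩ : ∃ j, i'.succAbove j = σ l := Fin.exists_succAbove_eq fun e =>
      hil (σ.injective (hσi.trans e.symm))
    set Er : Fin (r + 1) → _ := fun m => E' (i'.succAbove m) with hEr
    have hErs : Er j = G.nn a := by simp [hEr, hj, hE', hs]
    obtain ⟨m, hm⟩ : ∃ m, j.succAbove m = j' := Fin.exists_succAbove_eq fun e =>
      hsl (σ.injective (by rw [← hj', ← hj, e]))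
    set Er' : Fin r → _ := fun m => Er (j.succAbove m) with hEr'
    have hX : c • pt E' = op i' (c • pt Er) LinearMap.id := by
      rw [op_smul_left, op_pt, hEr, ← hE'i]
      congr 2
      funext x
      obtain rfl | ⟨y, rfl⟩ := i'.eq_self_or_eq_succAbove x <;> simp
    have hX' : c • pt Er = op j (c • pt Er') (G.nn a) := by
      rw [op_smul_left, op_pt, hEr', ← hErs]
      congr 2
      funext x
      obtain rfl | ⟨y, rfl⟩ := j.eq_self_or_eq_succAbove x <;> simp
    have hsq : ∀ x, (c • pt Er) ((c • pt Er) x) = 0 := fun x => by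
      rw [hX', op_comp, show (G.nn a).comp (G.nn a) = 0 from LinearMap.ext (G.nn_sq a),
        op_zero_right]
      rfl
    have hA : C4.unip (c • pt Er) ∈ res i' M := by
      obtain ⟨h0, hh0, e0⟩ := h'
      rw [hX] at e0
      rw [mem_res_iff, show kr i' (C4.unip (c • pt Er)) (1 : GL (Fin k) F) = h0 from
        gl_ext fun x => ?_]
      · exact hh0
      · rw [e0, show app (kr i' (C4.unip (c • pt Er)) (1 : GL (Fin k) F)) x =
          op i' (app (C4.unip (c • pt Er))).toLinearMap LinearMap.id x from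
          LinearMap.congr_fun (app_kr_one i' _) x,
          show (app (C4.unip (c • pt Er))).toLinearMap = LinearMap.id + c • pt Er from
            LinearMap.ext fun y => C4.unip_apply hsq y, op_add_left, op_one]
        rfl
    refine ((IH r rfl) _ (hO.res (by omega) i')).resolve_left fun hle => ?_
    refine G.not_mem_Wr (i := j) hk2 (P := c • pt Er') (smul_ne_zero hc (pt_ne_zero (by omega) fun m => hE _))
      (fun x => ?_) ha (fun x => ?_) (hle hA)
    · simp only [LinearMap.smul_apply, map_smul]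
      rw [show pt Er' (pt Er' x) = ((pt Er').comp (pt Er')) x from rfl, pt_comp,
        pt_eq_zero m (LinearMap.ext fun z => ?_)]
      · simp
      · have hne : Er' m = E l := by simp [hEr', hEr, hE', hm, hj']
        rw [LinearMap.comp_apply, hne, (hE l).sq hl]; rfl
    · rw [C4.unip_apply hsq, ← hX']
  have hnot := (hbig 0).2
  refine ⟨big_of_res hO (by omega) hk2 (fun hr => ?_) fun i' X hX h2 =>
    InM.lift ((hbig i').1.inM hX h2), fun hh => by omega⟩
  rcases hk with hk | hk
  · exact absurd ⟨hk, hr⟩ hnot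
  · exact hk

/-- A root operator with a non-scalar coefficient. -/
theorem big_of_nonscalar (hk : k = 2 ∨ 4 ≤ k) (hO : G.Ovg M) (IH : ∀ r, t = r + 1 → G.Maxl r)
    {s : Fin (t + 1)} {a : Fin k → F} (ha : a ≠ 0) {K : (J k t → F) →ₗ[F] (J k t → F)}
    (h : InM M (op s K (G.nn a))) (hK : ∀ d : F, K ≠ d • LinearMap.id) :
    G.Big M ∧ ¬ (k = 2 ∧ t = 1) := by
  obtain ⟨E, c, hE, hc, hcV, hne⟩ := G.exists_pattern _ (cls_VS hO s (G.nn_sq a)) K h
    (fun e => hK 0 (by rw [e, zero_smul]))
  obtain ⟨l, hl⟩ := hne hK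
  change InM M _ at hcV
  rw [op_smul_left, op_pt] at hcV
  refine big_of_pattern hk hO IH (fun i => ?_) (Fin.succAbove_ne s l) ha
    (by rw [Fin.insertNth_apply_same]) (by rwa [Fin.insertNth_apply_succAbove]) hc hcV
  obtain rfl | ⟨m, rfl⟩ := s.eq_self_or_eq_succAbove i
  · rw [Fin.insertNth_apply_same]; exact .inr (.inl ⟨a, ha, rfl⟩)
  · rw [Fin.insertNth_apply_succAbove]; exact hE m

end Fm

end Cfsg.Agent.C7F
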