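import Cfsg.Agent.Lib.C7F.GenSymp
import Cfsg.Agent.Lib.C4.SympGen
import Cfsg.Agent.Lib.Orth.Geo

/-!
# The squares of all isometries from one root element with pure ends, even powers

* `Fm.qB` : the quadratic form, `Fm.RE M u w` : `eich u w ∈ M`
* `Fm.big_of_root`
-/

set_option autoImplicit false
set_option linter.unusedSectionVars false

namespace Cfsg.Agent.C7F

open Matrix Module Cfsg.Agent.Transvect Cfsg.Agent.C7
open scoped MatrixGroups
open QuadraticMap (polar)
open Cfsg.Agent.Orth (IsoGrp eich ap)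

attribute [-simp] app_apply

variable {F : Type*} [Field F] [Fintype F] {k t : ℕ}

namespace Fm

variable (G : Fm F k)

/-- `B(x,x)/2`. -/
noncomputable def qB (t : ℕ) : QuadraticForm F (J k t → F) :=
  LinearMap.BilinMap.toQuadraticMap ((2 : F)⁻¹ • G.B t)

lemma qB_apply (x : J k t → F) : G.qB t x = 2⁻¹ * G.B t x x := rfl

variable {G} {M : Subgroup (GL (J k (t + 1)) F)}

lemma polar_qB (hs : G.sgn t = 1) (x y : J k t → F) : polar ⇑(G.qB t) x y = G.B t x y := by
  rw [qB, LinearMap.BilinMap.polar_toQuadraticMap]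
  simp only [LinearMap.smul_apply, smul_eq_mul, G.B_comm x y, hs, one_mul]
  have := G.two
  field_simp
  ring

lemma B_pr_self (p : Fin (t + 1) → Fin k → F) : G.B (t + 1) (pr p) (pr p) = 0 := by
  rw [B_pr]; exact Finset.prod_eq_zero (Finset.mem_univ 0) (G.alt _)

lemma qB_pr (p : Fin (t + 1) → Fin k → F) : G.qB (t + 1) (pr p) = 0 := by
  rw [qB_apply, B_pr_self, mul_zero]

lemma B_pr_zero {p q : Fin t → Fin k → F} (i : Fin t) (h : G.f (p i) (q i) = 0) :
    G.B t (pr p) (pr q) = 0 := by
  rw [B_pr]; exact Finset.prod_eq_zero (Finset.mem_univ i) h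

variable (G M) in
/-- The root element `eich u w` is in `M`. -/
def RE (u w : J k (t + 1) → F) : Prop :=
  ((eich (G.qB (t + 1)) u w : IsoGrp (G.qB (t + 1))) : GL (J k (t + 1)) F) ∈ M

lemma RE.add (hs : G.sgn (t + 1) = 1) {p : Fin (t + 1) → Fin k → F} {w w' : J k (t + 1) → F}
    (hw : G.B _ (pr p) w = 0) (hw' : G.B _ (pr p) w' = 0) (h : G.RE M (pr p) w)
    (h' : G.RE M (pr p) w') : G.RE M (pr p) (w + w') := by
  rw [RE, ← Orth.eich_add (qB_pr p) (by rw [polar_qB hs, hw]) (by rw [polar_qB hs, hw'])]
  exact mul_mem h h'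

lemma RE.neg {u w : J k (t + 1) → F} (h : G.RE M u w) : G.RE M u (-w) := by
  rw [RE, ← Orth.eich_inv]; exact inv_mem h

lemma RE.sub (hs : G.sgn (t + 1) = 1) {p : Fin (t + 1) → Fin k → F} {w w' : J k (t + 1) → F}
    (hw : G.B _ (pr p) w = 0) (hw' : G.B _ (pr p) w' = 0) (h : G.RE M (pr p) w)
    (h' : G.RE M (pr p) w') : G.RE M (pr p) (w - w') := by
  rw [sub_eq_add_neg]; exact h.add hs hw (by rw [map_neg, hw', neg_zero]) h'.neg

lemma re_zero (u : J k (t + 1) → F) : G.RE M u 0 := by
  rw [RE, Orth.eich_zero]; exact one_mem M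

lemma re_zero_left (w : J k (t + 1) → F) : G.RE M 0 w := by
  rw [RE, C4.eich_zero_left]; exact one_mem M

lemma mem_qB_iso {g : GL (J k t) F} (hg : g ∈ G.isoGrp t) :
    g ∈ Cfsg.isometryGroup F ⇑(G.qB t) := fun x _ => by
  show G.qB t (app g x) = G.qB t x
  rw [qB_apply, qB_apply, hg]

lemma RE.conj (hiso : M ≤ G.isoGrp (t + 1)) {u w : J k (t + 1) → F} (h : G.RE M u w)
    {g : GL (J k (t + 1)) F} (hg : g ∈ M) : G.RE M (app g u) (app g w) := by
  let g' : IsoGrp (G.qB (t + 1)) := ⟨g, mem_qB_iso (hiso hg)⟩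
  have e := Orth.conj_eich g' u w
  show ((eich (G.qB (t + 1)) (ap g' u) (ap g' w) : IsoGrp _) : GL _ F) ∈ M
  rw [← e]
  exact mul_mem (mul_mem hg h) (inv_mem hg)

lemma RE.image (hs : G.sgn (t + 1) = 1) (hiso : M ≤ G.isoGrp (t + 1)) {p a b : Fin (t + 1) → Fin k → F}
    {w : J k (t + 1) → F} (hab : G.B _ (pr a) (pr b) = 0) (hpa : G.B _ (pr p) (pr a) = 0)
    (hpb : G.B _ (pr p) (pr b) = 0) (hw : G.B _ (pr p) w = 0) (h : G.RE M (pr p) w)
    (h' : G.RE M (pr a) (pr b)) :
    G.RE M (pr p) (G.B _ (pr a) w • pr b - G.B _ (pr b) w • pr a) := by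
  set g : IsoGrp (G.qB (t + 1)) := eich (G.qB (t + 1)) (pr a) (pr b)
  have e : ∀ x, app (g : GL (J k (t + 1)) F) x =
      x + G.B _ (pr a) x • pr b - G.B _ (pr b) x • pr a := fun x => by
    show ap g x = _
    rw [Orth.eich_ap (qB_pr a) (by rw [polar_qB hs, hab]), polar_qB hs, polar_qB hs, qB_pr b,
      zero_mul, add_zero]
  have h1 := h.conj hiso h'
  rw [e, e, G.B_zero_comm hpa, G.B_zero_comm hpb, zero_smul, zero_smul, add_zero, sub_zero] at h1
  have h2 := h1.sub hs (by simp [hw, hpa, hpb]) hw h
  rwa [show w + G.B _ (pr a) w • pr b - G.B _ (pr b) w • pr a - w =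
    G.B _ (pr a) w • pr b - G.B _ (pr b) w • pr a by abel] at h2

lemma RE.smul_of_sq (hs : G.sgn (t + 1) = 1) {p : Fin (t + 1) → Fin k → F} {w : J k (t + 1) → F}
    (hw : G.B _ (pr p) w = 0) (h : ∀ r : F, r ≠ 0 → G.RE M (pr p) ((r * r) • w)) (c : F) :
    G.RE M (pr p) (c • w) := by
  have key : ∀ r : F, G.RE M (pr p) ((r * r) • w) := fun r => by
    rcases eq_or_ne r 0 with rfl | hr
    · rw [mul_zero, zero_smul]; exact re_zero _
    · exact h r hr
  have := (key ((c + 1) / 2)).sub hs (by simp [hw]) (by simp [hw]) (key ((c - 1) / 2))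
  convert this using 2
  have h22 := G.two
  match_scalars
  field_simp
  ring

variable (G M) in
/-- All root elements whose ends differ in position `l`. -/
def TT (l : Fin (t + 1)) : Prop :=
  ∀ p u, G.RE M (pr p) (pr (Function.update p l u))

lemma B_update (p : Fin (t + 1) → Fin k → F) (l : Fin (t + 1)) (u : Fin k → F) (ht : 1 ≤ t) :
    G.B _ (pr p) (pr (Function.update p l u)) = 0 := by
  obtain ⟨i, hi⟩ : ∃ i, i ≠ l := by
    have : Nontrivial (Fin (t + 1)) := Fin.nontrivial_iff_two_le.2 (by omega)
    exact exists_ne l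
  exact B_pr_zero i (by rw [Function.update_of_ne hi, G.alt])

lemma exists_perp_one {p q : Fin k → F} (G : Fm F k) (hq : q ∉ F ∙ p) :
    ∃ x, G.f p x = 0 ∧ G.f x q = 1 := by
  obtain ⟨φ, hφ, hφq⟩ := Transvect.exists_dual_eq_one hq
  have hbij : Function.Injective G.f := LinearMap.ker_eq_bot.1 (LinearMap.ker_eq_bot'.2 fun u hu =>
    G.nd u fun v => by rw [hu]; rfl)
  obtain ⟨x, hx⟩ : ∃ x, G.f x = φ :=
    (LinearMap.linearEquivOfInjective G.f hbij Subspace.dual_finrank_eq.symm).surjective φ
  exact ⟨x, G.zero_comm (by rw [hx]; exact hφ p (Submodule.mem_span_singleton_self p)), by rw [hx, hφq]⟩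

/-- One position can be lowered to that of `p`. -/
lemma RE.lower (hs : G.sgn (t + 1) = 1) (hO : G.Ovg M) {p q : Fin (t + 1) → Fin k → F}
    (h : G.RE M (pr p) (pr q)) (hpq : G.B _ (pr p) (pr q) = 0) {l : Fin (t + 1)}
    (hq : q l ∉ F ∙ p l) : G.RE M (pr p) (pr (Function.update q l (p l))) := by
  obtain ⟨C, hC, hp, hqC⟩ : ∃ C : GL (Fin k) F, (∀ u v, G.f (app C u) (app C v) = G.f u v) ∧
      app C (p l) = p l ∧ app C (q l) = q l + p l := by
    by_cases hn : G.f (p l) (q l) = 0
    · obtain ⟨x, hx, hx1⟩ := exists_perp_one G hq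
      obtain ⟨C, hC, e⟩ := G.exists_sr (p l) x hx 1
      exact ⟨C, hC, by simp [e, G.alt, G.zero_comm hx], by simp [e, hn, hx1]⟩
    · obtain ⟨C, hC, e⟩ := G.exists_sr (p l) (p l) (G.alt _) (2 * G.f (p l) (q l))⁻¹
      refine ⟨C, hC, by simp [e, G.alt], ?_⟩
      have h22 := G.two
      rw [e, sy_apply, ← add_smul, smul_smul]
      match_scalars <;> field_simp <;> ring
  have h1 := h.conj hO.le (hO.slot l C hC)
  rw [app_kr_one_pr, app_kr_one_pr, hp, Function.update_eq_self, hqC, pr_update_add,
    Function.update_eq_self] at h1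
  have h0 : G.B _ (pr p) (pr (Function.update q l (p l))) = 0 :=
    B_pr_zero l (by rw [Function.update_self, G.alt])
  simpa using h1.sub hs (by rw [map_add, hpq, h0, add_zero]) hpq h

/-- Lower all positions but `j`. -/
lemma exists_single (hs : G.sgn (t + 1) = 1) (hO : G.Ovg M) {p : Fin (t + 1) → Fin k → F}
    (hp : ∀ l, p l ≠ 0) {j : Fin (t + 1)} (s : Finset (Fin (t + 1))) :
    ∀ q : Fin (t + 1) → Fin k → F, j ∉ s → (∀ l, l ∉ s → l ≠ j → q l = p l) → (∀ l, q l ≠ 0) →
      G.f (p j) (q j) ≠ 0 → G.B _ (pr p) (pr q) = 0 → G.RE M (pr p) (pr q) →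
      ∃ u, G.f (p j) u ≠ 0 ∧ G.RE M (pr p) (pr (Function.update p j u)) := by
  induction s using Finset.induction_on with
  | empty =>
    intro q _ hq _ hj _ h
    refine ⟨q j, hj, ?_⟩
    convert h using 2
    funext l
    by_cases hl : l = j
    · subst hl; simp
    · rw [Function.update_of_ne hl, hq l (Finset.notMem_empty l) hl]
  | @insert l s hls ih =>
    intro q hjs hq hq0 hj hpq h
    simp only [Finset.mem_insert, not_or] at hjs
    by_cases hmem : q l ∈ F ∙ p l
    · obtain ⟨c, hc⟩ := Submodule.mem_span_singleton.1 hmem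
      have hc0 : c ≠ 0 := fun e => hq0 l (by rw [← hc, e, zero_smul])
      set q' := Function.update (Function.update q l (p l)) j (c • q j)
      have e : pr q' = pr q := by
        have hj' : Function.update q l (p l) j = q j := Function.update_of_ne hjs.1 _ _
        have h1 := pr_update_smul (Function.update q l (p l)) j c
        have h2 := pr_update_smul (Function.update q l (p l)) l c
        rw [hj'] at h1
        rw [Function.update_self, Function.update_idem, hc, Function.update_eq_self] at h2
        show pr (Function.update (Function.update q l (p l)) j (c • q j)) = pr q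
        rw [h1, h2]
      refine ih q' hjs.2 (fun i hi hij => ?_) (fun i => ?_) ?_ (by rw [e, hpq]) (by rw [e]; exact h) <;>
        simp only [q']
      · rw [Function.update_of_ne hij]
        by_cases hil : i = l
        · subst hil; simp
        · rw [Function.update_of_ne hil]; exact hq i (by simp [hi, hil]) hij
      · by_cases hij : i = j
        · subst hij; rw [Function.update_self]; exact smul_ne_zero hc0 (hq0 _)
        · rw [Function.update_of_ne hij]
          by_cases hil : i = l
          · subst hil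
            rw [Function.update_self]; exact hp i
          · rw [Function.update_of_ne hil]; exact hq0 i
      · simp [hj, hc0]
    · refine ih (Function.update q l (p l)) hjs.2 (fun i hi hij => ?_) (fun i => ?_) ?_
        (B_pr_zero l (by rw [Function.update_self, G.alt])) (h.lower hs hO hpq hmem)
      · by_cases hil : i = l
        · subst hil; simp
        · rw [Function.update_of_ne hil]; exact hq i (by simp [hi, hil]) hij
      · by_cases hil : i = l
        · subst hil
          rw [Function.update_self]; exact hp i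
        · rw [Function.update_of_ne hil]; exact hq0 i
      · rw [Function.update_of_ne hjs.1]; exact hj

lemma pr_update_sub (p : Fin t → Fin k → F) (j : Fin t) (u v : Fin k → F) :
    pr (Function.update p j (u - v)) =
      pr (Function.update p j u) - pr (Function.update p j v) := by
  rw [eq_sub_iff_add_eq, ← pr_update_add, sub_add_cancel]

lemma pr_update_smul' (p : Fin t → Fin k → F) (j : Fin t) (c : F) (u : Fin k → F) :
    pr (Function.update p j (c • u)) = c • pr (Function.update p j u) := by
  have h := pr_update_smul (Function.update p j u) j c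
  rwa [Function.update_self, Function.update_idem] at h

/-- One root element gives all those differing in the same position from the same pure tensor. -/
lemma exists_all (hs : G.sgn (t + 1) = 1) (ht : 1 ≤ t) (hO : G.Ovg M)
    {p : Fin (t + 1) → Fin k → F} (hp : ∀ l, p l ≠ 0) {j : Fin (t + 1)} {q : Fin k → F}
    (hq : G.f (p j) q ≠ 0) (h : G.RE M (pr p) (pr (Function.update p j q))) (u : Fin k → F) :
    G.RE M (pr p) (pr (Function.update p j u)) := by
  set W : (Fin k → F) → Prop := fun u => G.RE M (pr p) (pr (Function.update p j u)) with hW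
  have hB := fun u => B_update (G := G) p j u ht
  have wsub : ∀ u v : Fin k → F, W u → W v → W (u - v) := fun u v hu hv => by
    simpa only [hW, pr_update_sub] using hu.sub hs (hB u) (hB v) hv
  have wadd : ∀ u v : Fin k → F, W u → W v → W (u + v) := fun u v hu hv => by
    simpa only [hW, pr_update_add] using hu.add hs (hB u) (hB v) hv
  have shift : ∀ x, G.f (p j) x = 0 → ∀ c : F, W (c • (G.f (p j) q • x + G.f x q • p j)) := by
    intro x hx c
    obtain ⟨C, hC, e⟩ := G.exists_sr (p j) x hx c
    have hCp : app C (p j) = p j := by simp [e, G.alt, G.zero_comm hx]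
    have h1 := h.conj hO.le (hO.slot j C hC)
    rw [app_kr_one_pr, app_kr_one_pr, hCp, Function.update_eq_self, Function.update_self,
      Function.update_idem] at h1
    have := wsub _ _ h1 h
    rwa [e, add_sub_cancel_left, sy_apply] at this
  have hline : ∀ r : F, W (r • p j) := fun r => by
    have := shift (p j) (G.alt _) (r / (2 * G.f (p j) q))
    convert this using 1
    have h22 := G.two
    match_scalars
    field_simp
    ring
  have hperp : ∀ x, G.f (p j) x = 0 → W x := fun x hx => by
    have := wsub _ _ (shift x hx (G.f (p j) q)⁻¹) (hline ((G.f (p j) q)⁻¹ * G.f x q))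
    convert this using 1
    match_scalars <;> field_simp <;> ring
  obtain ⟨l, hlj⟩ : ∃ l, l ≠ j := by
    have : Nontrivial (Fin (t + 1)) := Fin.nontrivial_iff_two_le.2 (by omega)
    exact exists_ne j
  have hscale : ∀ c : F, W (c • q) := fun c => by
    show G.RE M _ _
    rw [pr_update_smul']
    refine RE.smul_of_sq hs (hB q) (fun r hr => ?_) c
    obtain ⟨C, hC, e⟩ := G.exists_move (hp l) (smul_ne_zero hr (hp l))
    have h1 := h.conj hO.le (hO.slot l C hC)
    have e2 : pr (Function.update (Function.update p j q) l (r • p l)) =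
        r • pr (Function.update p j q) := by
      have h2 := pr_update_smul (Function.update p j q) l r
      rwa [Function.update_of_ne hlj] at h2
    rwa [app_kr_one_pr, app_kr_one_pr, e, Function.update_of_ne hlj, e, pr_update_smul, e2, RE,
      Orth.eich_smul_left, smul_smul] at h1
  have := wadd _ _ (hscale (G.f (p j) u / G.f (p j) q))
    (hperp (u - (G.f (p j) u / G.f (p j) q) • q) (by simp [hq]))
  rwa [add_sub_cancel] at this

/-- The same for every pure tensor. -/
lemma tt_of_one (hs : G.sgn (t + 1) = 1) (ht : 1 ≤ t) (hO : G.Ovg M)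
    {p : Fin (t + 1) → Fin k → F} (hp : ∀ l, p l ≠ 0) {j : Fin (t + 1)} {q : Fin k → F}
    (hq : G.f (p j) q ≠ 0) (h : G.RE M (pr p) (pr (Function.update p j q))) : G.TT M j := by
  intro p' u
  by_cases hp' : ∃ i, p' i = 0
  · obtain ⟨i, hi⟩ := hp'
    rw [show pr p' = 0 by rw [← T_pr i p', hi, map_zero]]
    exact re_zero_left _
  push Not at hp'
  suffices hh : ∀ s : Finset (Fin (t + 1)), ∀ u,
      G.RE M (pr (s.piecewise p' p)) (pr (Function.update (s.piecewise p' p) j u)) by
    simpa using hh Finset.univ u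
  intro s
  induction s using Finset.induction_on with
  | empty => simpa using exists_all hs ht hO hp hq h
  | @insert i s his ih =>
    intro u
    obtain ⟨C, hC, e⟩ := G.exists_move (hp i) (hp' i)
    rw [Finset.piecewise_insert]
    by_cases hij : i = j
    · subst hij
      have h1 := (ih (app C⁻¹ u)).conj hO.le (hO.slot i C hC)
      rw [app_kr_one_pr, app_kr_one_pr, Finset.piecewise_eq_of_notMem _ _ _ his, e,
        Function.update_self, app_app_inv, Function.update_idem] at h1
      rwa [Function.update_idem]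
    · have h1 := (ih u).conj hO.le (hO.slot i C hC)
      rw [app_kr_one_pr, app_kr_one_pr, Function.update_of_ne hij,
        Finset.piecewise_eq_of_notMem _ _ _ his, e] at h1
      rwa [Function.update_comm hij]

lemma TT.perm (hO : G.Ovg M) {j : Fin (t + 1)} (h : G.TT M j) {σ : Equiv.Perm (Fin (t + 1))}
    (hσ : Equiv.Perm.sign σ = 1) : G.TT M (σ j) := by
  intro p u
  obtain ⟨g, hg, hgp⟩ := G.exists_perm σ
  have h1 := (h (p ∘ σ) u).conj hO.le (hO.perm σ g hσ hg)
  rw [hgp, hgp] at h1
  convert h1 using 2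
  · funext i; simp
  · funext i
    by_cases hi : i = σ j
    · subst hi; simp
    · have : σ.symm i ≠ j := fun e => hi (by rw [← e]; simp)
      simp [Function.update_of_ne hi, Function.update_of_ne this]

/-- A root element moved by one differing in position `l`. -/
lemma gain (hs : G.sgn (t + 1) = 1) (ht : 1 ≤ t) (hO : G.Ovg M)
    {p w r : Fin (t + 1) → Fin k → F} {l : Fin (t + 1)} (hT : G.TT M l)
    (hw : G.B _ (pr p) (pr w) = 0) (h : G.RE M (pr p) (pr w)) (a b : Fin k → F)
    (ha : G.B _ (pr p) (pr (Function.update r l a)) = 0)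
    (hb : G.B _ (pr p) (pr (Function.update r l b)) = 0) :
    G.RE M (pr p) (pr (Function.update r l ((∏ i ∈ Finset.univ.erase l, G.f (r i) (w i)) •
      (G.f a (w l) • b - G.f b (w l) • a)))) := by
  have hab := B_update (G := G) (Function.update r l a) l b ht
  rw [Function.update_idem] at hab
  have h' := hT (Function.update r l a) b
  rw [Function.update_idem] at h'
  have h1 := RE.image hs hO.le hab ha hb hw h h'
  have hB : ∀ c, G.B _ (pr (Function.update r l c)) (pr w) =
      G.f c (w l) * ∏ i ∈ Finset.univ.erase l, G.f (r i) (w i) := fun c => by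
    rw [B_pr, ← Finset.mul_prod_erase _ _ (Finset.mem_univ l), Function.update_self]
    refine congrArg _ (Finset.prod_congr rfl fun i hi => ?_)
    rw [Function.update_of_ne (Finset.ne_of_mem_erase hi)]
  rw [hB, hB] at h1
  convert h1 using 2
  rw [pr_update_smul', pr_update_sub, pr_update_smul', pr_update_smul', smul_sub, smul_smul,
    smul_smul, mul_comm (G.f a _), mul_comm (G.f b _)]

/-- The positions outside `A` may be taken non-orthogonal. -/
lemma extend (hs : G.sgn (t + 1) = 1) {p : Fin (t + 1) → Fin k → F} (hp : ∀ l, p l ≠ 0)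
    {A : Finset (Fin (t + 1))} {i : Fin (t + 1)} (hi : i ∈ A) :
    ∀ q : Fin (t + 1) → Fin k → F, G.f (p i) (q i) = 0 →
      (∀ q' : Fin (t + 1) → Fin k → F, (∀ l ∈ A, q' l = q l) →
        (∀ l ∉ A, G.f (p l) (q' l) ≠ 0) → G.RE M (pr p) (pr q')) → G.RE M (pr p) (pr q) := by
  suffices hh : ∀ (s : Finset (Fin (t + 1))) (q : Fin (t + 1) → Fin k → F),
      G.f (p i) (q i) = 0 → (∀ l ∈ s, l ∉ A) → (∀ l ∉ A, l ∉ s → G.f (p l) (q l) ≠ 0) →
      (∀ q' : Fin (t + 1) → Fin k → F, (∀ l ∈ A, q' l = q l) →
        (∀ l ∉ A, G.f (p l) (q' l) ≠ 0) → G.RE M (pr p) (pr q')) → G.RE M (pr p) (pr q) from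
    fun q hq h => hh Aᶜ q hq (fun l hl => Finset.mem_compl.1 hl)
      (fun l hl hl' => absurd (Finset.mem_compl.2 hl) hl') h
  intro s
  induction s using Finset.induction_on with
  | empty => exact fun q _ _ hn h => h q (fun l _ => rfl) fun l hl => hn l hl (Finset.notMem_empty l)
  | @insert l s hls ih =>
    intro q hq hsA hn h
    have hlA : l ∉ A := hsA l (Finset.mem_insert_self l s)
    have hli : i ≠ l := fun e => hlA (e ▸ hi)
    have go : ∀ v, G.f (p l) v ≠ 0 → G.RE M (pr p) (pr (Function.update q l v)) := fun v hv =>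
      ih _ (by rwa [Function.update_of_ne hli]) (fun x hx => hsA x (Finset.mem_insert_of_mem hx))
        (fun x hx hxs => by
          by_cases hxl : x = l
          · subst hxl; rwa [Function.update_self]
          · rw [Function.update_of_ne hxl]; exact hn x hx (by simp [hxl, hxs]))
        fun q' hq' => h q' fun x hx => by
          rw [hq' x hx, Function.update_of_ne fun e : x = l => hlA (e ▸ hx)]
    by_cases hv : G.f (p l) (q l) ≠ 0
    · simpa using go _ hv
    push Not at hv
    obtain ⟨z, hz⟩ := G.exists_dual (hp l)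
    have h1 := (go (q l + z) (by rw [map_add, hv, hz, zero_add]; exact one_ne_zero)).sub hs
      (B_pr_zero i (by rw [Function.update_of_ne hli]; exact hq))
      (B_pr_zero i (by rw [Function.update_of_ne hli]; exact hq))
      (go z (by rw [hz]; exact one_ne_zero))
    rwa [pr_update_add, add_sub_cancel_right, Function.update_eq_self] at h1

lemma prod_ne {ι : Type*} {s : Finset ι} {g : ι → F} (h : ∀ i ∈ s, g i ≠ 0) : ∏ i ∈ s, g i ≠ 0 :=
  Finset.prod_ne_zero_iff.2 h

/-- Two positions equal to those of `p`. -/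
lemma re_double (hs : G.sgn (t + 1) = 1) (ht : 1 ≤ t) (hO : G.Ovg M) (hT : ∀ l, G.TT M l)
    {p : Fin (t + 1) → Fin k → F} (hp : ∀ l, p l ≠ 0) {m m' : Fin (t + 1)} (hmm : m ≠ m')
    (q : Fin (t + 1) → Fin k → F) (hm : q m = p m) (hm' : q m' = p m') :
    G.RE M (pr p) (pr q) := by
  refine extend hs hp (A := {m, m'}) (Finset.mem_insert_self m _) q (by rw [hm, G.alt])
    fun r hr hn => ?_
  have hrm : r m = p m := by rw [hr m (by simp), hm]
  have hrm' : r m' = p m' := by rw [hr m' (by simp), hm']
  obtain ⟨y, hy⟩ := G.exists_dual (hp m)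
  set π := ∏ i ∈ Finset.univ.erase m', G.f (r i) (Function.update p m y i)
  have hπ : π ≠ 0 := prod_ne fun i hi => by
    by_cases him : i = m
    · subst him; rw [Function.update_self, hrm, hy]; exact one_ne_zero
    · rw [Function.update_of_ne him]
      exact fun e => hn i (by simp [him, Finset.ne_of_mem_erase hi]) (G.zero_comm e)
  obtain ⟨a, ha⟩ := G.exists_dual (hp m')
  have ho : ∀ c, G.B _ (pr p) (pr (Function.update r m' c)) = 0 := fun c =>
    B_pr_zero m (by rw [Function.update_of_ne hmm, hrm, G.alt])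
  have h1 := gain hs ht hO (hT m') (B_update p m y ht) (hT m p y) ((-π⁻¹) • a) (p m') (ho _) (ho _)
  convert h1 using 2
  funext i
  by_cases him : i = m'
  · subst him
    rw [Function.update_self, Function.update_of_ne (Ne.symm hmm), G.alt, zero_smul, sub_zero,
      map_smul, LinearMap.smul_apply,
      show G.f a (p i) = -1 by rw [G.skew, ha], smul_smul]
    rw [hrm']
    convert (one_smul F (p i)).symm using 2
    rw [smul_eq_mul, neg_mul_neg, mul_one]
    exact mul_inv_cancel₀ hπ
  · rw [Function.update_of_ne him]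

/-- One position orthogonal, at least four positions. -/
lemma re_orth_four (hs : G.sgn (t + 1) = 1) (ht : 3 ≤ t) (hO : G.Ovg M) (hT : ∀ l, G.TT M l)
    {p : Fin (t + 1) → Fin k → F} (hp : ∀ l, p l ≠ 0) (q : Fin (t + 1) → Fin k → F)
    {i : Fin (t + 1)} (hi : G.f (p i) (q i) = 0) : G.RE M (pr p) (pr q) := by
  refine extend hs hp (A := {i}) (Finset.mem_singleton_self i) q hi fun r hr hn => ?_
  have hri : r i = q i := hr i (Finset.mem_singleton_self i)
  by_cases hv : r i = 0
  · rw [show pr r = 0 by rw [← T_pr i r, hv, map_zero]]; exact re_zero _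
  obtain ⟨l, hli⟩ : ∃ l, l ≠ i := by
    have : Nontrivial (Fin (t + 1)) := Fin.nontrivial_iff_two_le.2 (by omega)
    exact exists_ne i
  obtain ⟨m, hm, m', hm', hmm⟩ : ∃ m ∈ ({i, l}ᶜ : Finset (Fin (t + 1))),
      ∃ m' ∈ ({i, l}ᶜ : Finset (Fin (t + 1))), m ≠ m' := Finset.one_lt_card.1 (by
    rw [Finset.card_compl, Finset.card_pair hli.symm, Fintype.card_fin]; omega)
  simp at hm hm'
  obtain ⟨y, hy⟩ := G.exists_dual hv
  have hl : G.f (p l) (r l) ≠ 0 := hn l (by simpa using hli)
  set w := Function.update (Function.update p i y) l (r l) with hw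
  have hwm : ∀ x, x ≠ i → x ≠ l → w x = p x := fun x h1 h2 => by
    rw [hw, Function.update_of_ne h2, Function.update_of_ne h1]
  have hwR := re_double hs (by omega) hO hT hp hmm w (hwm m hm.1 hm.2) (hwm m' hm'.1 hm'.2)
  set π := ∏ x ∈ Finset.univ.erase l, G.f (r x) (w x)
  have hπ : π ≠ 0 := prod_ne fun x hx => by
    by_cases hxi : x = i
    · subst hxi
      rw [hw, Function.update_of_ne (Finset.ne_of_mem_erase hx), Function.update_self, hy]
      exact one_ne_zero
    · rw [hwm x hxi (Finset.ne_of_mem_erase hx)]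
      exact fun e => hn x (by simpa using hxi) (G.zero_comm e)
  obtain ⟨a, ha⟩ := G.exists_dual (show r l ≠ 0 from fun e => hl (by simp [e]))
  have ho : ∀ c, G.B _ (pr p) (pr (Function.update r l c)) = 0 := fun c =>
    B_pr_zero i (by rw [Function.update_of_ne (Ne.symm hli), hri, hi])
  have h1 := gain hs (by omega) hO (hT l) (B_pr_zero m (by rw [hwm m hm.1 hm.2, G.alt])) hwR
    ((-π⁻¹) • a) (r l) (ho _) (ho _)
  convert h1 using 2
  funext x
  by_cases hxl : x = l
  · subst hxl
    rw [Function.update_self, hw, Function.update_self, G.alt, zero_smul, sub_zero, map_smul,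
      LinearMap.smul_apply, show G.f a (r x) = -1 by rw [G.skew, ha], smul_smul]
    convert (one_smul F (r x)).symm using 2
    rw [smul_eq_mul, neg_mul_neg, mul_one]
    exact mul_inv_cancel₀ hπ
  · rw [Function.update_of_ne hxl]

/-- One position orthogonal, two positions and `4 ≤ k`. -/
lemma re_orth_two (hs : G.sgn (t + 1) = 1) (ht : 1 ≤ t) (hk : 4 ≤ k) (hO : G.Ovg M)
    {j : Fin (t + 1)} (hT : G.TT M j) {p : Fin (t + 1) → Fin k → F} (hp : ∀ l, p l ≠ 0)
    (q : Fin (t + 1) → Fin k → F) (hj : G.f (p j) (q j) = 0) : G.RE M (pr p) (pr q) := by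
  have key : ∀ q : Fin (t + 1) → Fin k → F, G.f (p j) (q j) = 0 → q j ∉ F ∙ p j →
      G.RE M (pr p) (pr q) := by
    intro q hq hqn
    refine extend hs hp (A := {j}) (Finset.mem_singleton_self j) q hq fun r hr hn => ?_
    have hrj : r j = q j := hr j (Finset.mem_singleton_self j)
    -- `y` orthogonal to `q j`, not to `p j`
    obtain ⟨y, hy, hy'⟩ : ∃ y, G.f (q j) y = 0 ∧ G.f (p j) y = 1 := by
      obtain ⟨x, hx, hx'⟩ := exists_perp_one G (p := q j) (q := p j) fun h => hqn (by
        obtain ⟨c, hc⟩ := Submodule.mem_span_singleton.1 h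
        have hc0 : c ≠ 0 := fun e => hp j (by rw [← hc, e, zero_smul])
        exact Submodule.mem_span_singleton.2 ⟨c⁻¹, by rw [← hc, inv_smul_smul₀ hc0]⟩)
      exact ⟨-x, by rw [map_neg, hx, neg_zero], by rw [map_neg, G.skew x, hx', neg_neg]⟩
    set π := ∏ i ∈ Finset.univ.erase j, G.f (r i) (Function.update p j y i)
    have hπ : π ≠ 0 := prod_ne fun i hi => by
      rw [Function.update_of_ne (Finset.ne_of_mem_erase hi)]
      exact fun e => hn i (by simpa using Finset.ne_of_mem_erase hi) (G.zero_comm e)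
    have h1 := gain (r := r) hs ht hO hT (B_update p j y ht) (hT p y) (π⁻¹ • p j) (q j)
      (B_pr_zero j (by rw [Function.update_self, map_smul, G.alt, smul_zero]))
      (B_pr_zero j (by rw [Function.update_self, hq]))
    convert h1 using 2
    funext i
    by_cases hij : i = j
    · subst hij
      rw [Function.update_self, Function.update_self, hy, zero_smul, sub_zero, map_smul,
        LinearMap.smul_apply, hy', smul_smul, smul_eq_mul, mul_one, mul_inv_cancel₀ hπ, one_smul, hrj]
    · rw [Function.update_of_ne hij]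
  by_cases hqn : q j ∈ F ∙ p j
  swap
  · exact key q hj hqn
  obtain ⟨x, hx, hx'⟩ := C4.SS.exists_ker_not_mem ![G.f (p j)] (F ∙ p j)
    (by rw [finrank_span_singleton (hp j)]; omega)
  have hx0 : G.f (p j) x = 0 := hx 0
  have o1 : G.f (p j) (q j + x) = 0 := by rw [map_add, hj, hx0, add_zero]
  have h1 := (key (Function.update q j (q j + x)) (by rwa [Function.update_self]) (by
      rw [Function.update_self]; exact fun h => hx' (by simpa using Submodule.sub_mem _ h hqn))).sub hs
    (B_pr_zero j (by rwa [Function.update_self])) (B_pr_zero j (by rwa [Function.update_self]))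
    (key (Function.update q j x) (by rwa [Function.update_self]) (by rwa [Function.update_self]))
  rwa [pr_update_add, add_sub_cancel_right, Function.update_eq_self] at h1

/-- All root elements along a pure tensor. -/
lemma re_pure (hs : G.sgn (t + 1) = 1) (ht : 1 ≤ t) (hk : 3 ≤ t ∨ 4 ≤ k) (hO : G.Ovg M)
    {j : Fin (t + 1)} (hT : G.TT M j) {p : Fin (t + 1) → Fin k → F} (hp : ∀ l, p l ≠ 0)
    (q : Fin (t + 1) → Fin k → F) {i : Fin (t + 1)} (hi : G.f (p i) (q i) = 0) :
    G.RE M (pr p) (pr q) := by
  by_cases h3 : 2 ≤ t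
  · have hall : ∀ l, G.TT M l := fun l => by
      obtain ⟨σ, hσ, e⟩ := exists_even (n := t + 1) (by omega) j l
      exact e ▸ hT.perm hO hσ
    by_cases h4 : 3 ≤ t
    · exact re_orth_four hs h4 hO hall hp q hi
    · exact re_orth_two hs ht (hk.resolve_left h4) hO (hall i) hp q hi
  have hk4 : 4 ≤ k := hk.resolve_left (by omega)
  refine re_orth_two hs ht hk4 hO (j := i) ?_ hp q hi
  rcases eq_or_ne i j with rfl | hij
  · exact hT
  intro p' u
  by_cases hp' : ∃ x, p' x = 0
  · obtain ⟨x, hx⟩ := hp'
    rw [show pr p' = 0 by rw [← T_pr x p', hx, map_zero]]; exact re_zero_left _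
  push Not at hp'
  exact re_orth_two hs ht hk4 hO hT hp' _ (by rw [Function.update_of_ne hij.symm, G.alt])

/-- All root elements along a pure tensor. -/
lemma re_perp (hs : G.sgn (t + 1) = 1) (ht : 1 ≤ t) (hk : 3 ≤ t ∨ 4 ≤ k) (hO : G.Ovg M)
    {j : Fin (t + 1)} (hT : G.TT M j) {p : Fin (t + 1) → Fin k → F} (hp : ∀ l, p l ≠ 0)
    {w : J k (t + 1) → F} (hw : G.B _ (pr p) w = 0) : G.RE M (pr p) w := by
  set P : Set (J k (t + 1) → F) := {x | ∃ q i, G.f (p i) (q i) = 0 ∧ pr q = x}
  have hin : ∀ x ∈ Submodule.span F P, G.B _ (pr p) x = 0 ∧ ∀ c : F, G.RE M (pr p) (c • x) := by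
    intro x hx
    induction hx using Submodule.span_induction with
    | mem y hy =>
      obtain ⟨q, i, hi, rfl⟩ := hy
      refine ⟨B_pr_zero i hi, fun c => ?_⟩
      rw [← pr_update_smul q i c]
      exact re_pure hs ht hk hO hT hp _ (i := i) (by rw [Function.update_self, map_smul, hi, smul_zero])
    | zero => exact ⟨map_zero _, fun c => by rw [smul_zero]; exact re_zero _⟩
    | add y z _ _ hy hz =>
      exact ⟨by rw [map_add, hy.1, hz.1, add_zero], fun c => by
        rw [smul_add]; exact (hy.2 c).add hs (by simp [hy.1]) (by simp [hz.1]) (hz.2 c)⟩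
    | smul a y _ hy =>
      exact ⟨by rw [map_smul, hy.1, smul_zero], fun c => by rw [smul_smul]; exact hy.2 _⟩
  choose d hd using fun i => G.exists_dual (hp i)
  have hB : ∀ q, pr q - G.B _ (pr p) (pr q) • pr d ∈ Submodule.span F P := by
    intro q
    suffices hh : ∀ s : Finset (Fin (t + 1)), pr q -
        (∏ i ∈ s, G.f (p i) (q i)) • pr (s.piecewise d q) ∈ Submodule.span F P by
      simpa [B_pr] using hh Finset.univ
    intro s
    induction s using Finset.induction_on with
    | empty => simp
    | @insert i s his ih =>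
      set c := G.f (p i) (q i)
      set r := s.piecewise d q
      have hri : r i = q i := Finset.piecewise_eq_of_notMem _ _ _ his
      have h1 : pr r - c • pr (Function.update r i (d i)) ∈ Submodule.span F P := by
        refine Submodule.subset_span ⟨Function.update r i (q i - c • d i), i, ?_, ?_⟩
        · rw [Function.update_self, map_sub, map_smul, hd, smul_eq_mul, mul_one, sub_self]
        · rw [pr_update_sub, pr_update_smul', ← hri, Function.update_eq_self]
      rw [Finset.prod_insert his, Finset.piecewise_insert]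
      have := Submodule.add_mem _ ih (Submodule.smul_mem _ (∏ x ∈ s, G.f (p x) (q x)) h1)
      convert this using 1
      match_scalars <;> ring
  have hS : w - G.B _ (pr p) w • pr d ∈ Submodule.span F P := by
    have : ∀ x, x - G.B _ (pr p) x • pr d ∈ Submodule.span F P := fun x => by
      induction (span_pr (F := F) (k := k) (t + 1)).ge (Submodule.mem_top (x := x))
        using Submodule.span_induction with
      | mem y hy => obtain ⟨q, rfl⟩ := hy; exact hB q
      | zero => simp
      | add y z _ _ hy hz =>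
        convert Submodule.add_mem _ hy hz using 1
        rw [map_add, add_smul]; abel
      | smul a y _ hy =>
        convert Submodule.smul_mem _ a hy using 1
        rw [map_smul, smul_sub, smul_smul, smul_eq_mul]
    exact this w
  rw [hw, zero_smul, sub_zero] at hS
  simpa using (hin w hS).2 1

/-- The squares of all isometries from one root element with pure ends. -/
theorem big_of_root (hs : G.sgn (t + 1) = 1) (ht : 1 ≤ t) (hk : 3 ≤ t ∨ 4 ≤ k) (hO : G.Ovg M)
    {p q : Fin (t + 1) → Fin k → F} (hp : ∀ l, p l ≠ 0) (hq : ∀ l, q l ≠ 0)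
    {j : Fin (t + 1)} (hj : G.f (p j) (q j) ≠ 0) (hpq : G.B _ (pr p) (pr q) = 0)
    (h : G.RE M (pr p) (pr q)) : G.Big M := by
  classical
  obtain ⟨u, hu, hu'⟩ := exists_single hs hO hp (Finset.univ.erase j) q (by simp)
    (fun l hl hlj => absurd (Finset.mem_erase.2 ⟨hlj, Finset.mem_univ l⟩) hl) hq hj hpq h
  have hT := tt_of_one hs ht hO hp hu hu'
  choose d hd using fun i => G.exists_dual (hp i)
  have hd0 : ∀ i, d i ≠ 0 := fun i e => by simpa [e] using hd i
  have hpair : Orth.HPair (G.qB (t + 1)) (pr p) (pr d) :=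
    ⟨qB_pr p, qB_pr d, by rw [polar_qB hs, B_pr]; simp [hd]⟩
  have hnd : (G.qB (t + 1)).polarBilin.Nondegenerate :=
    ⟨fun x hx => G.nd_B x fun y => by
        rw [← polar_qB hs]; exact hx y,
      fun y hy => G.nd_B y fun x => by rw [← polar_qB hs, QuadraticMap.polar_comm]; exact hy x⟩
  have hG : Orth.Good (G.qB (t + 1)) := Orth.Good.of_two_ne_zero hnd G.two
  have h2k : 2 ≤ k := by
    by_contra hk2
    refine hj ?_
    rcases Nat.lt_or_ge k 1 with h0 | h0
    · rw [show p j = 0 from funext fun x => absurd x.2 (by omega)]; simp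
    · have : Subsingleton (Fin k) := Fin.subsingleton_iff_le_one.2 (by omega)
      obtain ⟨c, hc⟩ : ∃ c : F, q j = c • p j := by
        obtain ⟨x, hx⟩ := Function.ne_iff.1 (hp j)
        exact ⟨q j x / p j x, funext fun y => by
          rw [Subsingleton.elim y x]; simp [div_mul_cancel₀ _ hx]⟩
      rw [hc, map_smul, G.alt, smul_zero]
  have hcard : 4 ≤ Fintype.card (J k (t + 1)) := by
    rw [Fintype.card_fun, Fintype.card_fin, Fintype.card_fin]
    calc 4 = 2 ^ 2 := rfl
      _ ≤ k ^ 2 := Nat.pow_le_pow_left h2k 2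
      _ ≤ k ^ (t + 1) := Nat.pow_le_pow_right (by omega) (by omega)
  have hΩ : ∀ g ∈ Cfsg.Omega F ⇑(G.qB (t + 1)), (g : GL (J k (t + 1)) F) ∈ M := by
    intro g hg
    rw [Orth.omega_eq_eichPair hG hcard (.inl (Orth.exists_scalar_of_two_ne_zero G.two)) hpair] at hg
    refine (Subgroup.closure_le (M.comap (Cfsg.isometryGroup F ⇑(G.qB (t + 1))).subtype)).2 ?_ hg
    rintro _ ⟨w, hw, rfl | rfl⟩
    · exact re_perp hs ht hk hO hT hp (by rw [← polar_qB hs]; exact (Orth.mem_perp.1 hw).1)
    · exact re_perp hs ht hk hO hT hd0 (by rw [← polar_qB hs]; exact (Orth.mem_perp.1 hw).2)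
  intro g hg
  let g' : IsoGrp (G.qB (t + 1)) := ⟨g, mem_qB_iso hg⟩
  refine hΩ (g' * g') ?_
  rw [Orth.mem_omega_iff hG, Orth.dick_mul hG, Orth.spin_mul hG]
  refine ⟨?_, ?_⟩
  · rcases Orth.dick_eq_or g' with h | h <;> rw [h] <;> norm_num
  · rcases Orth.spin_eq_or hG g' with h | h <;> rw [h] <;> norm_num

end Fm

end Cfsg.Agent.C7F
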