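import Cfsg.Agent.Lib.C7F.Moves
import Cfsg.Agent.Lib.Transvect.Symp

/-!
# All isometries from one transvection with pure centre

* `pr_cover` : three subspaces covering the pure tensors are not all proper
* `Fm.big_of_transvection`
-/

set_option autoImplicit false
set_option linter.unusedSectionVars false

namespace Cfsg.Agent.C7F

open Matrix Module Cfsg.Agent.Transvect Cfsg.Agent.C7
open scoped MatrixGroups

attribute [-simp] app_apply

variable {F : Type*} [Field F] {k t : ℕ}

/-- A space is not the union of three proper subspaces, `2 ≠ 0`. -/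
lemma cover₃ {V : Type*} [AddCommGroup V] [Module F V] (h2 : (2 : F) ≠ 0) (U W Z : Submodule F V)
    (h : ∀ x, x ∈ U ∨ x ∈ W ∨ x ∈ Z) : U = ⊤ ∨ W = ⊤ ∨ Z = ⊤ := by
  by_contra! hne
  obtain ⟨hU, hW, hZ⟩ := hne
  obtain ⟨b, hb⟩ : ∃ b, b ∉ Z := by
    by_contra! hh; exact hZ (eq_top_iff.2 fun x _ => hh x)
  obtain ⟨a, haU, haW⟩ : ∃ a, a ∉ U ∧ a ∉ W := by
    obtain ⟨u, hu⟩ : ∃ u, u ∉ U := by by_contra! hh; exact hU (eq_top_iff.2 fun x _ => hh x)
    obtain ⟨w, hw⟩ : ∃ w, w ∉ W := by by_contra! hh; exact hW (eq_top_iff.2 fun x _ => hh x)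
    by_cases huW : u ∈ W
    · by_cases hwU : w ∈ U
      · exact ⟨u + w, fun h => hu (by simpa using U.sub_mem h hwU),
          fun h => hw (by simpa using W.sub_mem h huW)⟩
      · exact ⟨w, hwU, hw⟩
    · exact ⟨u, hu, huW⟩
  have haZ : a ∈ Z := ((h a).resolve_left haU).resolve_left haW
  have hline : ∀ c : F, b + c • a ∈ U ∨ b + c • a ∈ W := fun c => by
    rcases h (b + c • a) with h' | h' | h'
    · exact .inl h'
    · exact .inr h'
    · exact absurd (by simpa using Z.sub_mem h' (Z.smul_mem c haZ)) hb
  have uniq : ∀ (S : Submodule F V), a ∉ S → ∀ c d : F, b + c • a ∈ S → b + d • a ∈ S → c = d :=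
    fun S ha c d hc hd => by
      by_contra hcd
      have := S.smul_mem (c - d)⁻¹ (S.sub_mem hc hd)
      rw [add_sub_add_left_eq_sub, ← sub_smul, inv_smul_smul₀ (sub_ne_zero.2 hcd)] at this
      exact ha this
  have h01 : (0 : F) ≠ 1 := zero_ne_one
  have h0n : (0 : F) ≠ -1 := fun e => one_ne_zero (neg_eq_zero.1 e.symm)
  have h1n : (1 : F) ≠ -1 := fun e => h2 (by linear_combination e)
  rcases hline 0 with e0 | e0 <;> rcases hline 1 with e1 | e1 <;> rcases hline (-1) with en | en
  all_goals first
    | exact h01 (uniq U haU _ _ e0 e1) | exact h01 (uniq W haW _ _ e0 e1)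
    | exact h0n (uniq U haU _ _ e0 en) | exact h0n (uniq W haW _ _ e0 en)
    | exact h1n (uniq U haU _ _ e1 en) | exact h1n (uniq W haW _ _ e1 en)

/-- The pure tensors are not in three proper subspaces. -/
lemma pr_cover (h2 : (2 : F) ≠ 0) : ∀ {t : ℕ} (U W Z : Submodule F (J k t → F)),
    (∀ p, pr p ∈ U ∨ pr p ∈ W ∨ pr p ∈ Z) → U = ⊤ ∨ W = ⊤ ∨ Z = ⊤ := by
  intro t
  induction t with
  | zero =>
    intro U W Z h
    have hs := span_pr (F := F) (k := k) 0
    have : Set.range (pr : (Fin 0 → Fin k → F) → _) = {pr (fun i => i.elim0)} := by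
      ext x; simp only [Set.mem_range, Set.mem_singleton_iff]
      exact ⟨fun ⟨p, hp⟩ => hp ▸ congrArg pr (funext fun i => i.elim0), fun e => ⟨_, e.symm⟩⟩
    rw [this] at hs
    have key : ∀ S : Submodule F (J k 0 → F), pr (fun i => i.elim0) ∈ S → S = ⊤ := fun S hS =>
      eq_top_iff.2 (hs ▸ (Submodule.span_singleton_le_iff_mem _ _).2 hS)
    rcases h _ with h' | h' | h'
    · exact .inl (key _ h')
    · exact .inr (.inl (key _ h'))
    · exact .inr (.inr (key _ h'))
  | succ t ih =>
    intro U W Z h
    let pull : Submodule F (J k (t + 1) → F) → Submodule F (J k t → F) := fun S =>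
      ⨅ u, S.comap ((T 0).flip u)
    have hpull : ∀ S a, a ∈ pull S ↔ ∀ u, T 0 a u ∈ S := fun S a => by
      simp [pull, Submodule.mem_iInf]
    have key : ∀ S, pull S = ⊤ → S = ⊤ := fun S hS => eq_top_iff.2 fun x _ => by
      rw [← sum_T_single 0 x]
      exact Submodule.sum_mem _ fun c _ => (hpull S _).1 (hS ▸ Submodule.mem_top) _
    have h' : ∀ p, pr p ∈ pull U ∨ pr p ∈ pull W ∨ pr p ∈ pull Z := fun p => by
      simp only [hpull]
      have := cover₃ h2 (U.comap (T 0 (pr p))) (W.comap (T 0 (pr p))) (Z.comap (T 0 (pr p)))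
        fun u => by simpa only [Submodule.mem_comap, T_pr'] using h _
      rcases this with e | e | e
      · exact .inl fun u => by simpa using e.ge (Submodule.mem_top (x := u))
      · exact .inr (.inl fun u => by simpa using e.ge (Submodule.mem_top (x := u)))
      · exact .inr (.inr fun u => by simpa using e.ge (Submodule.mem_top (x := u)))
    rcases ih _ _ _ h' with e | e | e
    · exact .inl (key _ e)
    · exact .inr (.inl (key _ e))
    · exact .inr (.inr (key _ e))

namespace Fm

variable {G : Fm F k} {M : Subgroup (GL (J k (t + 1)) F)}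

lemma dy_conj {g : GL (J k t) F} (hg : g ∈ G.isoGrp t) (P Q : J k t → F) :
    (app g).toLinearMap.comp ((G.dy P Q).comp (app g⁻¹).toLinearMap) =
      G.dy (app g P) (app g Q) := LinearMap.ext fun x => by
  simp only [LinearMap.comp_apply, LinearEquiv.coe_coe, dy_apply, map_smul]
  rw [← hg Q, app_app_inv]

lemma dy_smul_smul (a b : F) (P Q : J k t → F) : G.dy (a • P) (b • Q) = (a * b) • G.dy P Q :=
  LinearMap.ext fun x => by simp [smul_smul]; congr 1; ring

variable (G M) in
/-- All transvections with centre `v` are in `M`. -/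
def Cen (v : J k (t + 1) → F) : Prop := ∀ c : F, InM M (c • G.dy v v)

lemma Cen.map (hiso : M ≤ G.isoGrp (t + 1)) {v : J k (t + 1) → F} (h : G.Cen M v)
    {g : GL (J k (t + 1)) F} (hg : g ∈ M) : G.Cen M (app g v) := fun c => by
  have := (h c).conj hg
  rwa [LinearMap.smul_comp, LinearMap.comp_smul, dy_conj (hiso hg)] at this

lemma Cen.smul {v : J k (t + 1) → F} (h : G.Cen M v) (r : F) : G.Cen M (r • v) := fun c => by
  rw [dy_smul_smul, smul_smul]; exact h _

lemma Cen.step (hiso : M ≤ G.isoGrp (t + 1)) {u v : J k (t + 1) → F} (hu : G.Cen M u)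
    (hv : G.Cen M v) (h : G.B (t + 1) u v ≠ 0) (a : F) : G.Cen M (v + a • u) := by
  obtain ⟨g, hg, e⟩ := hu (a / G.B (t + 1) u v)
  have hv' := hv.map hiso hg
  rwa [e, LinearMap.smul_apply, dy_apply, smul_smul, div_mul_cancel₀ _ h] at hv'

lemma pr_update_smul (p : Fin t → Fin k → F) (j : Fin t) (c : F) :
    pr (Function.update p j (c • p j)) = c • pr p := by
  funext g
  show ∏ i, _ = c * ∏ i, _
  rw [← Finset.mul_prod_erase _ _ (Finset.mem_univ j), ← Finset.mul_prod_erase _ _ (Finset.mem_univ j),
    Function.update_self, Pi.smul_apply, smul_eq_mul, mul_assoc]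
  refine congrArg _ (congrArg _ (Finset.prod_congr rfl fun i hi => ?_))
  rw [Function.update_of_ne (Finset.ne_of_mem_erase hi)]

lemma pr_update_add (p : Fin t → Fin k → F) (j : Fin t) (u v : Fin k → F) :
    pr (Function.update p j (u + v)) =
      pr (Function.update p j u) + pr (Function.update p j v) := by
  funext g
  simp only [pr, Pi.add_apply]
  simp only [← Finset.mul_prod_erase _ _ (Finset.mem_univ j), Function.update_self, Pi.add_apply,
    add_mul]
  congr 1 <;>
    refine congrArg _ (Finset.prod_congr rfl fun i hi => ?_) <;>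
    rw [Function.update_of_ne (Finset.ne_of_mem_erase hi), Function.update_of_ne (Finset.ne_of_mem_erase hi)]

lemma sgn_odd (hs : G.sgn t = -1) (x : J k t → F) : G.B t x x = 0 := by
  have := G.B_comm x x
  rw [hs] at this
  exact (mul_eq_zero.1 (show (2 : F) * G.B t x x = 0 by linear_combination this)).resolve_left G.two

/-- All isometries from one transvection with a pure centre. -/
theorem big_of_transvection (hO : G.Ovg M) (hs : G.sgn (t + 1) = -1) {p : Fin (t + 1) → Fin k → F}
    (hp : ∀ i, p i ≠ 0) {κ : F} (hκ : κ ≠ 0) (h : InM M (κ • G.dy (pr p) (pr p))) : G.Big M := by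
  have h22 := G.two
  have hB := sgn_odd (G := G) hs
  -- move the factors
  have move : ∀ q : Fin (t + 1) → Fin k → F, (∀ i, q i ≠ 0) →
      ∀ s : Finset (Fin (t + 1)), InM M (κ • G.dy (pr (s.piecewise q p)) (pr (s.piecewise q p))) := by
    intro q hq s
    induction s using Finset.induction_on with
    | empty => simpa using h
    | @insert i s his ih =>
      obtain ⟨C, hC, e⟩ := G.exists_move (hp i) (hq i)
      have := ih.conj (hO.slot i C hC)
      rwa [LinearMap.smul_comp, LinearMap.comp_smul, dy_conj (hO.le (hO.slot i C hC)),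
        app_kr_one_pr, Finset.piecewise_eq_of_notMem _ _ _ his, e, ← Finset.piecewise_insert] at this
  have hall : ∀ q : Fin (t + 1) → Fin k → F, (∀ i, q i ≠ 0) → InM M (κ • G.dy (pr q) (pr q)) :=
    fun q hq => by simpa using move q hq Finset.univ
  have cen : ∀ q, G.Cen M (pr q) := by
    intro q c
    by_cases hq : ∃ i, q i = 0
    · obtain ⟨i, hi⟩ := hq
      have : pr q = 0 := by rw [← T_pr i q, hi, map_zero]
      rw [this, show G.dy (0 : J k (t + 1) → F) 0 = 0 from LinearMap.ext fun x => by simp, smul_zero]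
      exact InM.zero
    push Not at hq
    have key : ∀ r : F, InM M ((κ * (r * r)) • G.dy (pr q) (pr q)) := fun r => by
      by_cases hr : r = 0
      · rw [hr, mul_zero, mul_zero, zero_smul]; exact InM.zero
      have := hall (Function.update q 0 (r • q 0)) fun i => by
        by_cases hi : i = 0
        · subst hi; rw [Function.update_self]; exact smul_ne_zero hr (hq 0)
        · rw [Function.update_of_ne hi]; exact hq i
      rwa [pr_update_smul, dy_smul_smul, smul_smul] at this
    have hz : ∀ (a b : F) (x : J k (t + 1) → F),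
        (a • G.dy (pr q) (pr q)) ((b • G.dy (pr q) (pr q)) x) = 0 := fun a b x => by simp [hB]
    have := (key ((c / κ + 1) / 2)).add ((key ((c / κ - 1) / 2)).neg (hz _ _)) fun x => by
      rw [LinearMap.neg_apply, map_neg, hz, neg_zero]
    convert this using 1
    match_scalars
    field_simp
    ring
  have sum : ∀ x, G.Cen M x → ∀ q, G.Cen M (x + pr q) := by
    intro x hx q
    set w := pr q
    by_cases hw : w = 0
    · rwa [hw, add_zero]
    by_cases hx0 : x = 0
    · rw [hx0, zero_add]; exact cen q
    by_cases hxw : x + w = 0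
    · rw [hxw]; intro c
      rw [show G.dy (0 : J k (t + 1) → F) 0 = 0 from LinearMap.ext fun x => by simp, smul_zero]
      exact InM.zero
    by_cases hb : G.B (t + 1) w x ≠ 0
    · simpa using Cen.step hO.le (cen q) hx hb 1
    push Not at hb
    obtain ⟨z, hz1, hz2, hz3⟩ : ∃ z, G.B (t + 1) x (pr z) ≠ 0 ∧ G.B (t + 1) w (pr z) ≠ 0 ∧
        G.B (t + 1) (x + w) (pr z) ≠ 0 := by
      by_contra! hh
      have hne : ∀ y : J k (t + 1) → F, LinearMap.ker (G.B (t + 1) y) = ⊤ → y = 0 := fun y hy =>
        G.nd_B y fun v => LinearMap.mem_ker.1 (hy ▸ Submodule.mem_top)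
      rcases pr_cover h22 (LinearMap.ker (G.B (t + 1) x)) (LinearMap.ker (G.B (t + 1) w))
        (LinearMap.ker (G.B (t + 1) (x + w))) fun z => by
          simp only [LinearMap.mem_ker]
          by_cases h1 : G.B (t + 1) x (pr z) = 0
          · exact .inl h1
          by_cases h2 : G.B (t + 1) w (pr z) = 0
          · exact .inr (.inl h2)
          · exact .inr (.inr (hh z h1 h2)) with e | e | e
      exacts [hx0 (hne _ e), hw (hne _ e), hxw (hne _ e)]
    -- x + z, then w, then remove z
    have h1 : G.Cen M (x + (1 : F) • pr z) :=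
      Cen.step hO.le (cen z) hx (fun e => hz1 (G.B_zero_comm e)) 1
    rw [one_smul] at h1
    have h2 : G.Cen M (x + pr z + (1 : F) • w) := Cen.step hO.le (cen q) h1 (by
      rw [map_add, hb, zero_add]; exact hz2) 1
    have h3 := Cen.step hO.le (cen z) h2 (fun e => hz3 (G.B_zero_comm (by
      rw [one_smul, map_add, map_add, hB, add_zero] at e
      rw [map_add]; exact e))) (-1)
    rwa [one_smul, neg_smul, one_smul, show x + pr z + w + -pr z = x + w by abel] at h3
  have all : ∀ v, G.Cen M v := by
    intro v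
    suffices hh : ∀ x, G.Cen M x → G.Cen M (x + v) by
      have := hh 0 fun c => by
        rw [show G.dy (0 : J k (t + 1) → F) 0 = 0 from LinearMap.ext fun x => by simp, smul_zero]
        exact InM.zero
      rwa [zero_add] at this
    induction (span_pr (F := F) (k := k) (t + 1)).ge (Submodule.mem_top (x := v))
      using Submodule.span_induction with
    | mem y hy => obtain ⟨q, rfl⟩ := hy; exact fun x hx => sum x hx q
    | zero => intro x hx; rwa [add_zero]
    | add y y' _ _ hy hy' => intro x hx; rw [← add_assoc]; exact hy' _ (hy x hx)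
    | smul a y _ hy =>
      intro x hx
      rcases eq_or_ne a 0 with rfl | ha
      · rwa [zero_smul, add_zero]
      rw [show x + a • y = a • (a⁻¹ • x + y) by rw [smul_add, smul_inv_smul₀ ha]]
      exact (hy _ (hx.smul _)).smul a
  -- transvections generate
  intro g hg
  have hf : Cfsg.Geo.IsSymplecticForm (fun x y => G.B (t + 1) x y) :=
    { bilinear := ⟨fun x y v => by simp, fun c x v => by simp, fun v x y => by simp,
        fun c v x => by simp⟩
      skew := fun v w => by rw [G.B_comm w v, hs]; ring
      alternating := hB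
      nondegenerate := fun v hv => by
        obtain ⟨y, hy⟩ : ∃ y, G.B (t + 1) v y ≠ 0 := by by_contra! hh; exact hv (G.nd_B v hh)
        exact ⟨⟨y, fun e => hy (G.B_zero_comm e)⟩, y, hy⟩ }
  have hgM : g ∈ M := Transvect.isometry_mem_of_centres hf M (fun v c => by
    obtain ⟨m, hm, e⟩ := all v (-c)
    rwa [show Transvect.st hf v c = m from gl_ext fun x => by
      rw [Transvect.st_apply, e, LinearMap.smul_apply, dy_apply, smul_smul, G.B_comm x v, hs]
      congr 2; ring]) hg
  exact mul_mem hgM hgM

end Fm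

end Cfsg.Agent.C7F
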