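import Cfsg.Agent.Lib.C7.Roots
import Cfsg.Agent.Lib.C4.SympScalar

/-!
# Lines in two or more dimensions

* `mem_Wr_of_lines` : `C7.mem_Wr_of_lines` with `2 ≤ m`
* `exists_line_of_sq` : a wreath element `y` with `(y - 1)² = 0` of rank `m^(t-1)` has a line as residual space
-/

set_option autoImplicit false
set_option linter.unusedSectionVars false

namespace Cfsg.Agent.C7F

open Matrix Module Cfsg.Agent.Transvect Cfsg.Agent.C7
open scoped MatrixGroups

variable {F : Type*} [Field F] [Fintype F] {m t s : ℕ}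

/-- An element mapping lines to lines is in the wreath group. -/
theorem mem_Wr_of_lines (hm : 2 ≤ m) : ∀ {t : ℕ} (g : GL (J m (t + 1)) F),
    (∀ (i : Fin (t + 1)) (u : Fin m → F), u ≠ 0 →
      ∃ (l : Fin (t + 1)) (v : Fin m → F), ∀ a, app g (T i a u) ∈ Li l v) →
    g ∈ Wr F m (t + 1) := by
  intro t
  induction t with
  | zero => exact fun g _ => mem_Wr_one g
  | succ s ih =>
    intro g h
    have : Nonempty (Fin m) := ⟨⟨0, by omega⟩⟩
    obtain ⟨c₀, hc₀⟩ := exists_ne (0 : J m s → F)
    set i : Fin (s + 2) := 0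
    choose l v hlv using h i
    have hv : ∀ u hu, v u hu ≠ 0 := fun u hu e => by
      obtain ⟨a, ha⟩ := exists_ne (0 : J m (s + 1) → F)
      obtain ⟨b, hb⟩ := hlv u hu a
      rw [e] at hb
      simp only [map_zero] at hb
      exact (T_eq_zero ((app g).map_eq_zero_iff.1 hb.symm)).elim ha hu
    have himg : ∀ u hu, (Li i u).map (app g).toLinearMap = Li (l u hu) (v u hu) := fun u hu => by
      refine Submodule.eq_of_le_of_finrank_eq ?_
        (by rw [LinearEquiv.finrank_map_eq, finrank_Li i hu, finrank_Li _ (hv u hu)])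
      rintro _ ⟨_, ⟨a, rfl⟩, rfl⟩
      exact hlv u hu a
    have hinf : ∀ u hu u' hu', u' ∉ F ∙ u → Li (l u hu) (v u hu) ⊓ Li (l u' hu') (v u' hu') = ⊥ := by
      intro u hu u' hu' hn
      rw [← himg, ← himg, ← Submodule.map_inf _ (app g).injective, Submodule.map_eq_bot_iff,
        eq_bot_iff]
      rintro x ⟨⟨a, rfl⟩, ⟨b, hb⟩⟩
      simp only [LinearMap.flip_apply] at hb
      rw [Submodule.mem_bot]
      by_cases hb0 : b = 0
      · simp [← hb, hb0]
      · exact absurd (mem_span_of_T_eq hb0 hb) hn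
    have hl : ∀ u hu u' hu', l u hu = l u' hu' := by
      have key : ∀ u hu u' hu', u' ∉ F ∙ u → l u hu = l u' hu' := fun u hu u' hu' hn => by
        by_contra hne
        exact inf_Li_ne_bot (Ne.symm hne) (hv u hu) (hv u' hu') (hinf u hu u' hu' hn)
      intro u hu u' hu'
      by_cases hn : u' ∈ F ∙ u
      swap
      · exact key u hu u' hu' hn
      obtain ⟨w, hw⟩ : ∃ w, w ∉ F ∙ u := by
        by_contra! hall
        have h1 := Submodule.finrank_mono (show (⊤ : Submodule F (Fin m → F)) ≤ F ∙ u from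
          fun x _ => hall x)
        rw [finrank_top, finrank_span_singleton hu] at h1
        simp at h1
        omega
      have hw0 : w ≠ 0 := fun e => hw (e ▸ Submodule.zero_mem _)
      rw [key u hu w hw0 hw, key u' hu' w hw0 fun h => hw
        ((Submodule.span_singleton_le_iff_mem _ _).2 hn h)]
    obtain ⟨u₀, hu₀⟩ := exists_ne (0 : Fin m → F)
    set l₀ := l u₀ hu₀
    set v₀ := v u₀ hu₀
    have hv₀ : v₀ ≠ 0 := hv u₀ hu₀
    obtain ⟨γ₀, hγ₀⟩ := exists_dual hv₀
    let A : (J m (s + 1) → F) →ₗ[F] (J m (s + 1) → F) :=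
      ct l₀ γ₀ ∘ₗ (app g).toLinearMap ∘ₗ (T i).flip u₀
    have hA : ∀ a, app g (T i a u₀) = T l₀ (A a) v₀ := fun a => by
      obtain ⟨b, hb⟩ := hlv u₀ hu₀ a
      have h1 : A a = ct l₀ γ₀ (T l₀ b v₀) := congrArg (ct l₀ γ₀) hb.symm
      rw [h1, ct_T, hγ₀, one_smul]
      exact hb.symm
    have hAi : Function.Injective A := fun a b e => T_inj_left hu₀ ((app g).injective (by
      rw [hA, hA, e]))
    have hAu : ∀ u, ∃ w, ∀ a, app g (T i a u) = T l₀ (A a) w := by
      intro u
      by_cases hn : u ∈ F ∙ u₀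
      · obtain ⟨c, rfl⟩ := Submodule.mem_span_singleton.1 hn
        exact ⟨c • v₀, fun a => by rw [map_smul, map_smul, hA, map_smul]⟩
      have hu : u ≠ 0 := fun e => hn (e ▸ Submodule.zero_mem _)
      have hs : u + u₀ ≠ 0 := fun e => hn (Submodule.mem_span_singleton.2 ⟨-1, by
        rw [neg_smul, one_smul, neg_eq_iff_add_eq_zero, add_comm]; exact e⟩)
      have hn' : v u hu ∉ F ∙ v₀ := fun h => by
        have h0 := hinf u₀ hu₀ u hu hn
        obtain ⟨a, ha⟩ := exists_ne (0 : J m (s + 1) → F)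
        have : T l₀ a (v u hu) ∈ Li l₀ v₀ ⊓ Li (l u hu) (v u hu) := by
          refine ⟨?_, by rw [hl u hu u₀ hu₀]; exact T_mem_Li _ _ _⟩
          obtain ⟨c, hc⟩ := Submodule.mem_span_singleton.1 h
          rw [← hc, map_smul]
          exact Submodule.smul_mem _ _ (T_mem_Li _ _ _)
        rw [h0, Submodule.mem_bot] at this
        exact (T_eq_zero this).elim ha (hv u hu)
      obtain ⟨f, hf1, hf2⟩ := Submodule.exists_le_ker_of_notMem hn'
      obtain ⟨f', hf'1, hf'2⟩ := Submodule.exists_le_ker_of_notMem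
        (show v₀ ∉ F ∙ v u hu from fun h => by
          obtain ⟨c, hc⟩ := Submodule.mem_span_singleton.1 h
          have hc0 : c ≠ 0 := fun e => hv₀ (by rw [← hc, e, zero_smul])
          exact hn' (Submodule.mem_span_singleton.2 ⟨c⁻¹, by rw [← hc, inv_smul_smul₀ hc0]⟩))
      have hfv : f v₀ = 0 := hf2 (Submodule.mem_span_singleton_self _)
      have hf'v : f' (v u hu) = 0 := hf'2 (Submodule.mem_span_singleton_self _)
      refine ⟨((f (v u hu))⁻¹ * f (v (u + u₀) hs) * ((f' (v (u + u₀) hs))⁻¹ * f' v₀)) • v u hu,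
        fun a => ?_⟩
      obtain ⟨b, hb⟩ := hlv u hu a
      obtain ⟨b', hb'⟩ := hlv (u + u₀) hs a
      simp only [LinearMap.flip_apply, hl u hu u₀ hu₀, hl (u + u₀) hs u₀ hu₀] at hb hb'
      change T l₀ b (v u hu) = _ at hb
      change T l₀ b' (v (u + u₀) hs) = _ at hb'
      have key : T l₀ b' (v (u + u₀) hs) = T l₀ b (v u hu) + T l₀ (A a) v₀ := by
        rw [hb', map_add, map_add, ← hb, hA]
      have e1 : f (v (u + u₀) hs) • b' = f (v u hu) • b := by
        simpa [hfv] using congrArg (ct l₀ f) key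
      have e2 : f' (v (u + u₀) hs) • b' = f' v₀ • A a := by
        simpa [hf'v] using congrArg (ct l₀ f') key
      by_cases hAa : A a = 0
      · rw [hAi (hAa.trans (map_zero A).symm)]
        simp
      have hne : f' (v (u + u₀) hs) ≠ 0 := fun e => by
        rw [e, zero_smul] at e2
        exact (smul_eq_zero.1 e2.symm).elim hf'1 hAa
      have hbA : b = ((f (v u hu))⁻¹ * f (v (u + u₀) hs) *
          ((f' (v (u + u₀) hs))⁻¹ * f' v₀)) • A a := by
        rw [← smul_smul, ← smul_smul ((f' (v (u + u₀) hs))⁻¹), ← e2, inv_smul_smul₀ hne,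
          ← smul_smul, e1, inv_smul_smul₀ hf1]
      rw [← hb, hbA, map_smul, LinearMap.smul_apply, map_smul]
    obtain ⟨a₀, ha₀⟩ := exists_ne (0 : J m (s + 1) → F)
    have hAa₀ : A a₀ ≠ 0 := fun e => ha₀ (hAi (e.trans (map_zero A).symm))
    obtain ⟨ψ, hψ⟩ := exists_dual hAa₀
    let B : (Fin m → F) →ₗ[F] (Fin m → F) := lc l₀ ψ ∘ₗ (app g).toLinearMap ∘ₗ T i a₀
    have hB : ∀ a u, app g (T i a u) = T l₀ (A a) (B u) := fun a u => by
      obtain ⟨w, hw⟩ := hAu u
      have : B u = w := by
        show lc l₀ ψ (app g (T i a₀ u)) = w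
        rw [hw, lc_T, hψ, one_smul]
      rw [hw, this]
    have hBi : Function.Injective B := fun u u' e =>
      T_inj_right ha₀ ((app g).injective (by rw [hB, hB, e]))
    obtain ⟨XA, hXA⟩ := exists_gl A hAi
    obtain ⟨XB, hXB⟩ := exists_gl B hBi
    obtain ⟨p, hp, hpT⟩ := exists_perm (F := F) (m := m) i l₀
    have hgp : g = p * kr i XA XB := gl_ext_T i fun a u => by
      rw [map_mul, LinearEquiv.mul_apply, app_kr, hpT, hB, hXA, hXB]
    rw [hgp]
    refine mul_mem hp (kr_mem i (ih XA fun j u hu => ?_) XB)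
    obtain ⟨lj, vj, hlj⟩ := h (i.succAbove j) u hu
    have hx : ∀ c q, T l₀ (app XA (T j c u)) (app XB q) ∈ Li lj vj := fun c q => by
      obtain ⟨z, hz⟩ := nested_mem i j c u q
      rw [hXA, hXB, ← hB, ← hz]
      exact hlj z
    have hne : lj ≠ l₀ := by
      rintro rfl
      have hAc : app XA (T j c₀ u) ≠ 0 := fun e =>
        (T_eq_zero ((app XA).map_eq_zero_iff.1 e)).elim hc₀ hu
      have hall : ∀ q, app XB q ∈ F ∙ vj := fun q => by
        obtain ⟨b, hb⟩ := hx c₀ q
        exact mem_span_of_T_eq hAc hb.symm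
      have h1 : (⊤ : Submodule F (Fin m → F)) ≤ F ∙ vj := fun q _ => by
        simpa using hall (app XB⁻¹ q)
      have h2 := Submodule.finrank_mono h1
      rw [finrank_top, Module.finrank_fintype_fun_eq_card, Fintype.card_fin] at h2
      have h3 := finrank_span_le_card (R := F) ({vj} : Set (Fin m → F))
      simp at h3
      omega
    obtain ⟨j', rfl⟩ := Fin.exists_succAbove_eq hne
    obtain ⟨γ, hγ⟩ := exists_dual (show app XB u₀ ≠ 0 from fun e => hu₀
      ((app XB).map_eq_zero_iff.1 e))
    refine ⟨j', vj, fun c => ?_⟩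
    have := ct_mem_Li l₀ j' γ (hx c u₀)
    rwa [ct_T, hγ, one_smul] at this

lemma not_Li_le_sup' (hm : 2 ≤ m) {i l n : Fin (t + 1)} {q v r : Fin m → F} (hr : r ≠ 0) (hv : v ≠ 0)
    (hli : l ≠ i) (hni : n ≠ i) (hnl : n ≠ l) : ¬ Li n r ≤ Li i q ⊔ Li l v := by
  cases t with
  | zero => exact absurd (Subsingleton.elim (α := Fin 1) l i) hli
  | succ s =>
    intro hle
    obtain ⟨n', rfl⟩ := Fin.exists_succAbove_eq hni
    obtain ⟨l', rfl⟩ := Fin.exists_succAbove_eq hli
    obtain ⟨w, hw⟩ : ∃ w, w ∉ F ∙ q := by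
      by_contra! hall
      have h1 := Submodule.finrank_mono (show (⊤ : Submodule F (Fin m → F)) ≤ F ∙ q from
        fun x _ => hall x)
      have h3 := finrank_span_le_card (R := F) ({q} : Set (Fin m → F))
      rw [finrank_top] at h1
      simp at h1 h3
      omega
    obtain ⟨α, h1, h2⟩ := Submodule.exists_le_ker_of_notMem hw
    have hαq : α q = 0 := h2 (Submodule.mem_span_singleton_self q)
    have hle' : Li n' r ≤ Li l' v := by
      rintro _ ⟨c, rfl⟩
      obtain ⟨y, hy, z, hz, e⟩ := Submodule.mem_sup.1 (hle (nested_mem i n' c r w))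
      have h3 := congrArg (ct i α) e
      rw [map_add, ct_Li hαq hy, zero_add, ct_T] at h3
      have h4 := ct_mem_Li i l' α hz
      rw [h3] at h4
      simpa [smul_smul, inv_mul_cancel₀ h1] using Submodule.smul_mem _ (α w)⁻¹ h4
    exact hnl (by rw [(of_Li_le hm hr hv hle').1])

/-- The residual space of a quadratic wreath element of small rank is a line. -/
theorem exists_line_of_sq (hm : 2 ≤ m) (h2 : (2 : F) ≠ 0) {y : GL (J m (t + 1)) F}
    (hy : y ∈ Wr F m (t + 1)) (hsq : ∀ x, app y (app y x - x) = app y x - x)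
    (hrk : finrank F (C4.res y) = m ^ t) :
    ∃ (i : Fin (t + 1)) (c : Fin m → F), c ≠ 0 ∧ C4.res y = Li i c := by
  classical
  have : Nonempty (Fin m) := ⟨⟨0, by omega⟩⟩
  choose π X B hπ using exists_form hy
  have himg : ∀ i u, u ≠ 0 → (Li i u).map (app y).toLinearMap = Li (π i) (app (B i) u) := fun i u _ => by
    refine le_antisymm ?_ ?_
    · rintro _ ⟨_, ⟨a, rfl⟩, rfl⟩; exact ⟨app (X i) a, (hπ i a u).symm⟩
    · rintro _ ⟨a, rfl⟩
      exact ⟨T i (app (X i)⁻¹ a) u, ⟨_, rfl⟩, (hπ i _ u).trans (by rw [app_app_inv]; rfl)⟩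
  have hπi : Function.Injective π := fun i j e => by
    obtain ⟨u, hu⟩ := exists_ne (0 : Fin m → F)
    set u' := app (B i)⁻¹ (app (B j) u) with hu'
    have hu'0 : u' ≠ 0 := fun e0 => hu ((app (B j)).map_eq_zero_iff.1
      ((app (B i)⁻¹).map_eq_zero_iff.1 e0))
    have h1 : (Li i u').map (app y).toLinearMap = (Li j u).map (app y).toLinearMap := by
      rw [himg i u' hu'0, himg j u hu, hu', app_app_inv, e]
    exact (of_Li_le hm hu'0 hu (Submodule.map_injective_of_injective (app y).injective h1).le).1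
  -- every position is fixed
  have hfix : ∀ i, π i = i := by
    intro i
    by_contra hl
    obtain ⟨q, hq⟩ := exists_ne (0 : Fin m → F)
    set v := app (B i) q
    have hv : v ≠ 0 := fun e => hq ((app (B i)).map_eq_zero_iff.1 e)
    set r := app (B (π i)) v
    have hr : r ≠ 0 := fun e => hv ((app (B (π i))).map_eq_zero_iff.1 e)
    have hyy : ∀ x, app y (app y x) = (2 : F) • app y x - x := fun x => by
      linear_combination (norm := module) (map_sub (app y) (app y x) x).symm.trans (hsq x)
    have hle : Li (π (π i)) r ≤ Li i q ⊔ Li (π i) v := by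
      rw [← himg _ v hv, ← himg _ q hq, himg i q hq]
      rintro _ ⟨z, hz, rfl⟩
      rw [← himg i q hq] at hz
      obtain ⟨x, hx, rfl⟩ := hz
      show app y (app y x) ∈ _
      rw [hyy]
      exact Submodule.sub_mem _ (Submodule.smul_mem _ _ (Submodule.mem_sup_right
        (himg i q hq ▸ ⟨x, hx, rfl⟩))) (Submodule.mem_sup_left hx)
    have hne : π (π i) ≠ π i := fun e => hl (hπi e)
    by_cases hni : π (π i) = i
    swap
    · exact not_Li_le_sup' hm hr hv hl hni hne hle
    rw [hni] at hle
    by_cases hrq : r ∈ F ∙ q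
    · obtain ⟨c, hc⟩ := Submodule.mem_span_singleton.1 hrq
      refine hl (of_Li_le hm hv hq ?_).1
      rw [← himg i q hq]
      rintro _ ⟨x, hx, rfl⟩
      have h3 : (2 : F) • app y x ∈ Li i q := by
        have e : (2 : F) • app y x = app y (app y x) + x := by rw [hyy, sub_add_cancel]
        have h4 : app y (app y x) ∈ Li (π (π i)) r := by
          rw [← himg _ v hv]; exact ⟨_, himg i q hq ▸ ⟨x, hx, rfl⟩, rfl⟩
        obtain ⟨b, hb⟩ := h4
        rw [e, ← hb, hni, LinearMap.flip_apply, ← hc, map_smul, ← LinearMap.smul_apply, ← map_smul]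
        exact Submodule.add_mem _ ⟨_, rfl⟩ hx
      have h5 := Submodule.smul_mem _ (2 : F)⁻¹ h3
      rwa [inv_smul_smul₀ h2] at h5
    · obtain ⟨α, h1, h3⟩ := Submodule.exists_le_ker_of_notMem hrq
      have hαq : α q = 0 := h3 (Submodule.mem_span_singleton_self q)
      obtain ⟨l', hl'⟩ := Fin.exists_succAbove_eq (show π i ≠ i from hl)
      cases t with
      | zero => exact l'.elim0
      | succ s =>
      have htop : (⊤ : Submodule F (J m (s + 1) → F)) ≤ Li l' v := by
        intro a _
        obtain ⟨y₁, hy₁, z, hz, e⟩ := Submodule.mem_sup.1 (hle (T_mem_Li i a r))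
        have h4 := congrArg (ct i α) e
        rw [map_add, ct_Li hαq hy₁, zero_add, ct_T] at h4
        have h5 := ct_mem_Li i l' α (hl'.symm ▸ hz)
        rw [h4] at h5
        simpa [smul_smul, inv_mul_cancel₀ h1] using Submodule.smul_mem _ (α r)⁻¹ h5
      have h6 := Submodule.finrank_mono htop
      rw [finrank_top, finrank_Li l' hv] at h6
      simp [pow_succ] at h6
      have : 0 < m ^ s := pow_pos (by omega) s
      nlinarith
  have hform : ∀ i a q, app y (T i a q) = T i (app (X i) a) (app (B i) q) := fun i a q => by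
    rw [hπ, hfix]
  by_cases hall : ∀ i, ∀ q, app (B i) q ∈ F ∙ q
  · -- a scalar
    exfalso
    choose c hc using fun i => C4.scalar_of_lines (app (B i)).toLinearMap (hall i)
    have hB : ∀ i q, app (B i) q = c i • q := fun i q => LinearMap.congr_fun (hc i) q
    set d : J m (t + 1) → F := fun g => app y (Pi.single g 1) g with hd
    have hsingle : ∀ (i : Fin (t + 1)) (g : J m (t + 1)),
        (Pi.single g 1 : J m (t + 1) → F) =
          T i (Pi.single (fun j => g (i.succAbove j)) 1) (Pi.single (g i) 1) := fun i g => funext fun h => by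
      rw [T_apply]
      by_cases e : h = g
      · subst e; simp
      · rw [Pi.single_eq_of_ne e]
        by_cases e1 : h i = g i
        · rw [Pi.single_apply, if_neg (fun e2 => e (funext fun j => ?_)), zero_mul]
          obtain rfl | ⟨j', rfl⟩ := i.eq_self_or_eq_succAbove j
          · exact e1
          · exact congrFun e2 j'
        · rw [Pi.single_eq_of_ne e1, mul_zero]
    have hdiag : ∀ g, app y (Pi.single g 1) = d g • Pi.single g 1 := fun g => funext fun h => by
      by_cases e : h = g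
      · subst e; simp [hd]
      · rw [Pi.smul_apply, Pi.single_eq_of_ne e, smul_zero]
        obtain ⟨i, hi⟩ := Function.ne_iff.1 e
        rw [hsingle i, hform, hB, T_apply, Pi.smul_apply, Pi.single_eq_of_ne hi, smul_zero, mul_zero]
    have hupd : ∀ g i a, d (Function.update g i a) = d g := fun g i a => by
      have e : ∀ g : J m (t + 1), d g =
          app (X i) (Pi.single (fun j => g (i.succAbove j)) 1) (fun j => g (i.succAbove j)) * c i :=
        fun g => by
          show app y (Pi.single g 1) g = _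
          rw [hsingle i g, hform, hB, T_apply, Pi.smul_apply, Pi.single_eq_same, smul_eq_mul, mul_one]
      rw [e, e g, show (fun j => Function.update g i a (i.succAbove j)) = fun j => g (i.succAbove j) from
        funext fun j => Function.update_of_ne (Fin.succAbove_ne i j) _ _]
    have hconst : ∀ g g', d g = d g' := fun g g' => by
      suffices h : ∀ S : Finset (Fin (t + 1)), d (S.piecewise g' g) = d g by
        simpa using (h Finset.univ).symm
      intro S
      induction S using Finset.induction_on with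
      | empty => simp
      | insert i S _ ih => rw [Finset.piecewise_insert, hupd, ih]
    set g₀ : J m (t + 1) := fun _ => ⟨0, by omega⟩
    have hy' : ∀ x, app y x = d g₀ • x := fun x => by
      conv_lhs => rw [pi_eq_sum_univ' x]
      conv_rhs => rw [pi_eq_sum_univ' x]
      simp only [map_sum, map_smul, Finset.smul_sum]
      exact Finset.sum_congr rfl fun g _ => by rw [hdiag, hconst g g₀, smul_comm]
    obtain ⟨u, hu⟩ := exists_ne (0 : J m (t + 1) → F)
    have h3 := hsq u
    rw [hy', hy'] at h3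
    have h4 : ((d g₀ - 1) * (d g₀ - 1)) • u = 0 := by linear_combination (norm := module) h3
    have h5 : d g₀ = 1 := sub_eq_zero.1 (mul_self_eq_zero.1 ((smul_eq_zero.1 h4).resolve_right hu))
    have : C4.res y = ⊥ := le_bot_iff.1 (C4.res_le fun x => by simp [hy', h5])
    rw [this, finrank_bot] at hrk
    exact (pow_pos (show 0 < m by omega) t).ne hrk
  push Not at hall
  obtain ⟨i, q, hq⟩ := hall
  set q' := app (B i) q
  have hq0 : q ≠ 0 := fun e => hq (by simp [q', e])
  have hq'0 : q' ≠ 0 := fun e => hq (e ▸ Submodule.zero_mem _)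
  obtain ⟨α, hα1, hα2⟩ := Submodule.exists_le_ker_of_notMem hq
  obtain ⟨β, hβ1, hβ2⟩ := Submodule.exists_le_ker_of_notMem
    (show q ∉ F ∙ q' from fun h => by
      obtain ⟨c, hc⟩ := Submodule.mem_span_singleton.1 h
      have hc0 : c ≠ 0 := fun e => hq0 (by rw [← hc, e, zero_smul])
      exact hq (Submodule.mem_span_singleton.2 ⟨c⁻¹, by rw [← hc, inv_smul_smul₀ hc0]⟩))
  have hαq : α q = 0 := hα2 (Submodule.mem_span_singleton_self q)
  have hβq : β q' = 0 := hβ2 (Submodule.mem_span_singleton_self q')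
  have hX : ∃ γ : F, ∀ a, app (X i) a = γ • a := by
    set Xi := app (X i)
    set q'' := app (B i) q'
    have e : ∀ a, T i (Xi (Xi a)) q'' + T i a q = (2 : F) • T i (Xi a) q' := fun a => by
      have h3 := hsq (T i a q)
      rw [map_sub, hform, hform] at h3
      linear_combination (norm := module) h3
    have e1 : ∀ a, α q'' • Xi (Xi a) = (2 * α q') • Xi a := fun a => by
      have h3 := congrArg (ct i α) (e a)
      rw [map_add, map_smul, ct_T, ct_T, ct_T, hαq, zero_smul, add_zero, smul_smul] at h3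
      exact h3
    have e2 : ∀ a, β q'' • Xi (Xi a) = -β q • a := fun a => by
      have h3 := congrArg (ct i β) (e a)
      rw [map_add, map_smul, ct_T, ct_T, ct_T, hβq, zero_smul, smul_zero] at h3
      linear_combination (norm := module) h3
    have hb : β q'' ≠ 0 := fun e0 => by
      obtain ⟨a, ha⟩ := exists_ne (0 : J m t → F)
      have := e2 a
      rw [e0, zero_smul] at this
      exact (smul_eq_zero.1 this.symm).elim (neg_ne_zero.2 hβ1) ha
    refine ⟨(2 * α q')⁻¹ * α q'' * ((β q'')⁻¹ * -β q), fun a => ?_⟩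
    rw [← smul_smul, ← smul_smul (2 * α q')⁻¹, ← smul_smul, ← e2, inv_smul_smul₀ hb, e1,
      inv_smul_smul₀ (mul_ne_zero h2 hα1)]
  obtain ⟨γ, hγ⟩ := hX
  have hB' : ∀ a z, app y (T i a z) - T i a z = T i a (γ • app (B i) z - z) := fun a z => by
    rw [hform, hγ, map_smul, LinearMap.smul_apply, map_sub, map_smul]
  have hr0 : γ • app (B i) q - q ≠ 0 := fun e0 => hq (by
    rcases eq_or_ne γ 0 with hγ0 | hγ0
    · rw [hγ0, zero_smul, zero_sub, neg_eq_zero] at e0; exact absurd e0 hq0
    · exact Submodule.mem_span_singleton.2 ⟨γ⁻¹, by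
        rw [sub_eq_zero] at e0; rw [← e0, inv_smul_smul₀ hγ0]⟩)
  refine ⟨i, _, hr0, (Submodule.eq_of_le_of_finrank_eq ?_ ?_).symm⟩
  · rintro _ ⟨a, rfl⟩
    rw [LinearMap.flip_apply, ← hB']
    exact C4.mem_res _
  · rw [finrank_Li i hr0, hrk]

end Cfsg.Agent.C7F
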