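import Cfsg.Agent.Lib.C7F.Base
import Cfsg.Agent.Lib.C4.TenInvol
import Cfsg.Agent.Lib.QuadPair.GenDerived

/-!
# Two square-zero operators

`A² = C² = 0`, `Θ = AC + CA`, all `1 + cA`, `1 + cC` in `M`.

* `pgroup_of_nilpotent` : `Θ` nilpotent gives a `p`-group
* `exists_kappa` : if the `q A` in `InM M` are multiples of `A`, then `ACA = κ A`, `κ ≠ 0`
* `exists_invol` : otherwise an involution of `M` commutes with `A`, `C` and is `1` modulo their images
-/

set_option autoImplicit false
set_option linter.unusedSectionVars false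

namespace Cfsg.Agent.C7F

open Matrix Module Cfsg.Agent.Transvect
open scoped MatrixGroups
open Polynomial (aeval)

attribute [-simp] app_apply

variable {F : Type*} [Field F] [Fintype F] {ι : Type} [Fintype ι] [DecidableEq ι]

/-- The action as endomorphisms. -/
def toE : GL ι F →* Module.End F (ι → F) where
  toFun g := (app g).toLinearMap
  map_one' := by ext; simp
  map_mul' g h := by ext; simp

lemma toE_apply (g : GL ι F) (x : ι → F) : toE g x = app g x := rfl

lemma toE_inj {g h : GL ι F} (e : toE g = toE h) : g = h :=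
  gl_ext fun x => LinearMap.congr_fun e x

section Pair

variable {A C : Module.End F (ι → F)}

/-- `AC + CA`. -/
abbrev th (A C : Module.End F (ι → F)) : Module.End F (ι → F) := A * C + C * A

lemma sq_smul (h : A * A = 0) (c : F) : ∀ x, (c • A) ((c • A) x) = 0 := fun x => by
  have := LinearMap.congr_fun h x
  simp only [Module.End.mul_apply, LinearMap.zero_apply] at this
  simp [this]

lemma toE_unip (h : A * A = 0) (c : F) : toE (C4.unip (c • A)) = 1 + c • A :=
  LinearMap.ext fun x => by rw [toE_apply, C4.unip_apply (sq_smul h c)]; rfl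

/-- The group generated by the root groups. -/
noncomputable def pairGrp (A C : Module.End F (ι → F)) : Subgroup (GL ι F) :=
  Subgroup.closure (Set.range (fun c : F => C4.unip (c • A)) ∪ Set.range fun c : F => C4.unip (c • C))

lemma commute_th (hA : A * A = 0) : Commute A (th A C) := by
  show A * (A * C + C * A) = (A * C + C * A) * A
  rw [mul_add, add_mul, ← mul_assoc A A, hA, zero_mul, zero_add, mul_assoc C A, hA, mul_zero,
    add_zero, mul_assoc]

lemma commute_th' (hC : C * C = 0) : Commute C (th A C) := by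
  rw [th, add_comm]; exact commute_th hC

/-- A nilpotent `Θ` gives a `p`-group. -/
theorem pgroup_of_nilpotent (p : ℕ) [Fact p.Prime] [CharP F p] (hA : A * A = 0) (hC : C * C = 0)
    {m : ℕ} (hm : th A C ^ m = 0) : IsPGroup p (pairGrp A C) := by
  classical
  let W : ℕ → Submodule F (ι → F) := fun j => Nat.rec ⊤ (fun _ S => S.map A ⊔ S.map C) j
  have hW : ∀ j, W (j + 1) = (W j).map A ⊔ (W j).map C := fun j => rfl
  have hmono : ∀ j, W (j + 1) ≤ W j := by
    intro j
    induction j with
    | zero => exact le_top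
    | succ j ih => rw [hW (j + 1), hW j]; exact sup_le_sup (Submodule.map_mono ih) (Submodule.map_mono ih)
  have hsmall : ∀ j, W (2 * j + 2) ≤
      (LinearMap.range (A * C) ⊔ LinearMap.range (C * A)).map (th A C ^ j) := by
    intro j
    induction j with
    | zero =>
      rw [pow_zero, Module.End.one_eq_id, Submodule.map_id]
      show ((⊤ : Submodule F (ι → F)).map A ⊔ (⊤ : Submodule F (ι → F)).map C).map A ⊔
        ((⊤ : Submodule F (ι → F)).map A ⊔ (⊤ : Submodule F (ι → F)).map C).map C ≤ _
      rw [Submodule.map_sup, Submodule.map_sup]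
      have eA : ∀ S : Submodule F (ι → F), (S.map A).map A = ⊥ := fun S => le_bot_iff.1 (by
        rintro _ ⟨_, ⟨x, -, rfl⟩, rfl⟩; exact LinearMap.congr_fun hA x)
      have eC : ∀ S : Submodule F (ι → F), (S.map C).map C = ⊥ := fun S => le_bot_iff.1 (by
        rintro _ ⟨_, ⟨x, -, rfl⟩, rfl⟩; exact LinearMap.congr_fun hC x)
      rw [eA, eC, bot_sup_eq, sup_bot_eq]
      refine sup_le (le_sup_of_le_left ?_) (le_sup_of_le_right ?_) <;>
      · rintro _ ⟨_, ⟨x, -, rfl⟩, rfl⟩; exact ⟨x, rfl⟩
    | succ j ih =>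
      rw [show 2 * (j + 1) + 2 = 2 * j + 2 + 1 + 1 by ring, hW (2 * j + 2 + 1), hW (2 * j + 2)]
      have key : ∀ x ∈ W (2 * j + 2), (A * C) x ∈ (LinearMap.range (A * C) ⊔ LinearMap.range (C * A)).map
          (th A C ^ (j + 1)) ∧ (C * A) x ∈ (LinearMap.range (A * C) ⊔ LinearMap.range (C * A)).map
          (th A C ^ (j + 1)) := by
        intro x hx
        obtain ⟨y, hy, rfl⟩ := ih hx
        obtain ⟨_, ⟨a, rfl⟩, _, ⟨b, rfl⟩, rfl⟩ := Submodule.mem_sup.1 hy
        have hcA := (commute_th (C := C) hA).pow_right j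
        have hcC := (commute_th' (A := A) hC).pow_right j
        have h1 : (A * C) * (th A C ^ j) * (A * C) = th A C ^ (j + 1) * (A * C) := by
          rw [(hcA.mul_left hcC).eq, pow_succ, mul_assoc (th A C ^ j), mul_assoc (th A C ^ j)]
          congr 1
          show A * C * (A * C) = (A * C + C * A) * (A * C)
          rw [add_mul, show C * A * (A * C) = C * ((A * A) * C) by simp [mul_assoc], hA, zero_mul,
            mul_zero, add_zero]
        have h2 : (A * C) * (th A C ^ j) * (C * A) = 0 := by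
          rw [(hcA.mul_left hcC).eq, mul_assoc, show A * C * (C * A) = A * ((C * C) * A) by
            simp [mul_assoc], hC, zero_mul, mul_zero, mul_zero]
        have h3 : (C * A) * (th A C ^ j) * (C * A) = th A C ^ (j + 1) * (C * A) := by
          rw [(hcC.mul_left hcA).eq, pow_succ, mul_assoc (th A C ^ j), mul_assoc (th A C ^ j)]
          congr 1
          show C * A * (C * A) = (A * C + C * A) * (C * A)
          rw [add_mul, show A * C * (C * A) = A * ((C * C) * A) by simp [mul_assoc], hC, zero_mul,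
            mul_zero, zero_add]
        have h4 : (C * A) * (th A C ^ j) * (A * C) = 0 := by
          rw [(hcC.mul_left hcA).eq, mul_assoc, show C * A * (A * C) = C * ((A * A) * C) by
            simp [mul_assoc], hA, zero_mul, mul_zero, mul_zero]
        constructor
        · refine ⟨(A * C) a, Submodule.mem_sup_left ⟨a, rfl⟩, ?_⟩
          show (th A C ^ (j + 1) * (A * C)) a = _
          rw [← h1, map_add, map_add]
          show _ = ((A * C) * (th A C ^ j) * (A * C)) a + ((A * C) * (th A C ^ j) * (C * A)) b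
          rw [h2, LinearMap.zero_apply, add_zero]
        · refine ⟨(C * A) b, Submodule.mem_sup_right ⟨b, rfl⟩, ?_⟩
          show (th A C ^ (j + 1) * (C * A)) b = _
          rw [← h3, map_add, map_add]
          show _ = ((C * A) * (th A C ^ j) * (A * C)) a + ((C * A) * (th A C ^ j) * (C * A)) b
          rw [h4, LinearMap.zero_apply, zero_add]
      simp only [Submodule.map_sup]
      refine sup_le (sup_le ?_ ?_) (sup_le ?_ ?_)
      · rintro _ ⟨_, ⟨x, -, rfl⟩, rfl⟩
        rw [show A (A x) = 0 from LinearMap.congr_fun hA x]; exact Submodule.zero_mem _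
      · rintro _ ⟨_, ⟨x, hx, rfl⟩, rfl⟩; rw [← Submodule.map_sup]; exact (key x hx).1
      · rintro _ ⟨_, ⟨x, hx, rfl⟩, rfl⟩; rw [← Submodule.map_sup]; exact (key x hx).2
      · rintro _ ⟨_, ⟨x, -, rfl⟩, rfl⟩
        rw [show C (C x) = 0 from LinearMap.congr_fun hC x]; exact Submodule.zero_mem _
  have hend : W (2 * m + 2) = ⊥ := le_bot_iff.1 ((hsmall m).trans (by rw [hm, Submodule.map_zero]))
  have : Finite (GL ι F) := Finite.of_injective Units.val Units.val_injective
  have hall : ∀ g ∈ pairGrp A C, ∀ j, ∀ x ∈ W j, app g x - x ∈ W (j + 1) := by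
    intro g hg
    rw [pairGrp, ← Subgroup.mem_toSubmonoid, Subgroup.closure_toSubmonoid_of_finite] at hg
    induction hg using Submonoid.closure_induction with
    | mem g hg =>
      rcases hg with ⟨c, rfl⟩ | ⟨c, rfl⟩ <;> intro j x hx <;>
        rw [C4.unip_apply (sq_smul (by assumption) c), add_sub_cancel_left, hW, LinearMap.smul_apply]
      · exact Submodule.smul_mem _ _ (Submodule.mem_sup_left ⟨x, hx, rfl⟩)
      · exact Submodule.smul_mem _ _ (Submodule.mem_sup_right ⟨x, hx, rfl⟩)
    | one => intro j x _; simp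
    | mul g h _ _ hg hh =>
      intro j x hx
      have h1 := hh j x hx
      have h2 : app h x ∈ W j := by simpa using Submodule.add_mem _ (hmono j h1) hx
      rw [map_mul, LinearEquiv.mul_apply, ← sub_add_sub_cancel _ (app h x) x]
      exact Submodule.add_mem _ (hg j _ h2) h1
  rintro ⟨g, hg⟩
  refine ⟨2 * m + 2, Subtype.ext (toE_inj ?_)⟩
  rw [Subgroup.coe_pow, OneMemClass.coe_one, map_one, map_pow]
  rcases subsingleton_or_nontrivial (Module.End F (ι → F)) with hs | hn
  · exact Subsingleton.elim _ _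
  haveI : CharP (Module.End F (ι → F)) p :=
    charP_of_injective_ringHom (algebraMap F (Module.End F (ι → F))).injective p
  set N := toE g - 1 with hN
  have hNW : ∀ i x, (N ^ i) x ∈ W i := by
    intro i x
    induction i with
    | zero => trivial
    | succ i ih => rw [pow_succ', Module.End.mul_apply]; exact hall g hg i _ ih
  have hN0 : N ^ (p ^ (2 * m + 2)) = 0 := by
    have h0 : N ^ (2 * m + 2) = 0 := LinearMap.ext fun x => by
      simpa [hend] using hNW (2 * m + 2) x
    exact pow_eq_zero_of_le (Nat.lt_pow_self (Fact.out : p.Prime).one_lt).le h0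
  rw [show toE g = N + 1 by rw [hN, sub_add_cancel],
    add_pow_char_pow_of_commute p _ (Commute.one_right N), hN0, one_pow, zero_add]

/-- Products with commuting coefficients. -/
lemma key_mul (hA : A * A = 0) (hC : C * C = 0) {a b c d a' b' c' d' : Module.End F (ι → F)}
    (h : ∀ x ∈ [a, b, c, d, a', b', c', d'], Commute A x ∧ Commute C x) :
    (a * (A * C) + d * (C * A) + b * A + c * C) * (a' * (A * C) + d' * (C * A) + b' * A + c' * C) =
      (a * a' * th A C + b * c') * (A * C) + (c * b' + d * d' * th A C) * (C * A) +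
        (a * b' * th A C + b * d' * th A C) * A + (c * a' * th A C + d * c' * th A C) * C := by
  simp only [List.mem_cons, List.not_mem_nil, or_false, forall_eq_or_imp, forall_eq] at h
  obtain ⟨ha, hb, hc, hd, ha', hb', hc', hd'⟩ := h
  have mv : ∀ {X x : Module.End F (ι → F)}, Commute X x → ∀ w, X * (x * w) = x * (X * w) :=
    fun {X x} hx w => by rw [← mul_assoc, hx.eq, mul_assoc]
  have hAA : ∀ w, A * (A * w) = 0 := fun w => by rw [← mul_assoc, hA, zero_mul]
  have hCC : ∀ w, C * (C * w) = 0 := fun w => by rw [← mul_assoc, hC, zero_mul]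
  simp only [mul_add, add_mul, mul_assoc, th, mv ha'.1, mv hb'.1, mv hc'.1, mv hd'.1, mv ha'.2,
    mv hb'.2, mv hc'.2, mv hd'.2, hAA, hCC, hA, hC, mul_zero, add_zero, zero_add]
  abel

lemma exists_idem_pow {R : Type*} [Monoid R] [Finite R] (x : R) :
    ∃ m, 0 < m ∧ x ^ m * x ^ m = x ^ m := by
  obtain ⟨i, j, hij, he⟩ : ∃ i j : ℕ, i < j ∧ x ^ i = x ^ j := by
    obtain ⟨i, j, hne, he⟩ := Finite.exists_ne_map_eq_of_infinite (fun n : ℕ => x ^ n)
    rcases lt_or_gt_of_ne hne with h | h
    exacts [⟨i, j, h, he⟩, ⟨j, i, h, he.symm⟩]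
  obtain ⟨d, rfl⟩ : ∃ d, j = i + (d + 1) := ⟨j - i - 1, by omega⟩
  have per : ∀ n, ∀ a, i ≤ a → x ^ (a + n * (d + 1)) = x ^ a := by
    intro n
    induction n with
    | zero => simp
    | succ n ih =>
      intro a ha
      obtain ⟨b, rfl⟩ : ∃ b, a = i + b := ⟨a - i, by omega⟩
      rw [show i + b + (n + 1) * (d + 1) = i + (d + 1) + (b + n * (d + 1)) by ring, pow_add, ← he,
        ← pow_add, ← add_assoc, ih _ ha]
  refine ⟨(i + 1) * (d + 1), Nat.mul_pos (by omega) (by omega), ?_⟩
  rw [← pow_add, per (i + 1) _ (le_trans (by omega) (Nat.le_mul_of_pos_right _ (by omega)))]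

section NonNil

variable {Z : Module.End F (ι → F)} {m : ℕ}

/-- The kernel of `f ↦ f(Z) Z^m`. -/
noncomputable def kerI (Z : Module.End F (ι → F)) (m : ℕ) : Ideal (Polynomial F) where
  carrier := {f | aeval Z f * Z ^ m = 0}
  zero_mem' := by simp
  add_mem' := fun {f g} hf hg => by simp only [Set.mem_setOf_eq, map_add, add_mul] at *; rw [hf, hg, add_zero]
  smul_mem' := fun g f hf => by
    simp only [Set.mem_setOf_eq, smul_eq_mul, map_mul, mul_assoc] at *; rw [hf, mul_zero]

/-- Its generator. -/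
noncomputable def gen (Z : Module.End F (ι → F)) (m : ℕ) : Polynomial F :=
  Submodule.IsPrincipal.generator (kerI Z m)

lemma gen_ne_zero : gen Z m ≠ 0 := fun h => by
  have hmin : minpoly F Z ∈ kerI Z m := by
    show aeval Z (minpoly F Z) * Z ^ m = 0
    rw [minpoly.aeval, zero_mul]
  rw [Submodule.IsPrincipal.mem_iff_generator_dvd (kerI Z m)] at hmin
  change gen Z m ∣ _ at hmin
  rw [h, zero_dvd_iff] at hmin
  exact minpoly.ne_zero (IsIntegral.of_finite F Z) hmin

/-- `F[Z]` on the invertible part. -/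
abbrev LR (Z : Module.End F (ι → F)) (m : ℕ) : Type _ := AdjoinRoot (gen Z m)

/-- The representation. -/
noncomputable def rho (x : LR Z m) : Module.End F (ι → F) :=
  aeval Z (Function.surjInv AdjoinRoot.mk_surjective x) * Z ^ m

lemma rho_mk (f : Polynomial F) : rho (AdjoinRoot.mk (gen Z m) f) = aeval Z f * Z ^ m := by
  have h := Function.surjInv_eq (AdjoinRoot.mk_surjective (g := gen Z m)) (AdjoinRoot.mk (gen Z m) f)
  have h2 : Function.surjInv AdjoinRoot.mk_surjective (AdjoinRoot.mk (gen Z m) f) - f ∈ kerI Z m :=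
    (Submodule.IsPrincipal.mem_iff_generator_dvd (kerI Z m)).2 (AdjoinRoot.mk_eq_mk.1 h)
  change aeval Z _ * Z ^ m = 0 at h2
  rw [map_sub, sub_mul, sub_eq_zero] at h2
  exact h2

lemma rho_inj {x : LR Z m} (h : rho x = 0) : x = 0 := by
  obtain ⟨f, rfl⟩ := AdjoinRoot.mk_surjective x
  rw [rho_mk] at h
  exact AdjoinRoot.mk_eq_zero.2 ((Submodule.IsPrincipal.mem_iff_generator_dvd (kerI Z m)).1 h)

lemma rho_add (x y : LR Z m) : rho (x + y) = rho x + rho y := by
  obtain ⟨f, rfl⟩ := AdjoinRoot.mk_surjective x; obtain ⟨g, rfl⟩ := AdjoinRoot.mk_surjective y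
  rw [← map_add, rho_mk, rho_mk, rho_mk, map_add, add_mul]

lemma rho_zero : rho (0 : LR Z m) = 0 := by rw [← map_zero (AdjoinRoot.mk (gen Z m)), rho_mk]; simp

lemma rho_one : rho (1 : LR Z m) = Z ^ m := by rw [← map_one (AdjoinRoot.mk (gen Z m)), rho_mk]; simp

lemma rho_mul (hid : Z ^ m * Z ^ m = Z ^ m) (x y : LR Z m) : rho (x * y) = rho x * rho y := by
  obtain ⟨f, rfl⟩ := AdjoinRoot.mk_surjective x; obtain ⟨g, rfl⟩ := AdjoinRoot.mk_surjective y
  have hc : Commute (Z ^ m) (aeval Z g) := by
    rw [← Polynomial.aeval_X_pow (R := F) Z (n := m)]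
    exact ((Commute.all _ g).map (aeval Z))
  rw [← map_mul, rho_mk, rho_mk, rho_mk, map_mul, mul_assoc (aeval Z f), mul_assoc (aeval Z f),
    ← mul_assoc (Z ^ m), hc.eq, mul_assoc, hid]

lemma rho_root : rho (AdjoinRoot.root (gen Z m)) = Z * Z ^ m := by
  rw [AdjoinRoot.root, rho_mk, Polynomial.aeval_X]

lemma rho_algebraMap (c : F) : rho (algebraMap F (LR Z m) c) = c • Z ^ m := by
  rw [show algebraMap F (LR Z m) c = AdjoinRoot.mk (gen Z m) (Polynomial.C c) from rfl, rho_mk,
    Polynomial.aeval_C, Algebra.algebraMap_eq_smul_one, smul_mul_assoc, one_mul]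

lemma rho_of (c : F) : rho ((AdjoinRoot.of (gen Z m)) c) = c • Z ^ m := rho_algebraMap c

lemma commute_rho {X : Module.End F (ι → F)} (h : Commute X Z) (x : LR Z m) : Commute X (rho x) := by
  refine Commute.mul_right ?_ (h.pow_right m)
  induction (Function.surjInv AdjoinRoot.mk_surjective x) using Polynomial.induction_on with
  | C a => rw [Polynomial.aeval_C]; exact (Algebra.commute_algebraMap_left a X).symm
  | add p q hp hq => rw [map_add]; exact hp.add_right hq
  | monomial n a _ =>
    rw [map_mul, Polynomial.aeval_C, map_pow, Polynomial.aeval_X]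
    exact ((Algebra.commute_algebraMap_left a X).symm).mul_right (h.pow_right _)

lemma root_isUnit (hid : Z ^ m * Z ^ m = Z ^ m) (hm : 0 < m) :
    IsUnit (AdjoinRoot.root (gen Z m)) := by
  obtain ⟨m', rfl⟩ : ∃ m', m = m' + 1 := ⟨m - 1, by omega⟩
  refine IsUnit.of_mul_eq_one (AdjoinRoot.root (gen Z (m' + 1)) ^ m') (sub_eq_zero.1 (rho_inj ?_))
  rw [← pow_succ', show AdjoinRoot.root (gen Z (m' + 1)) ^ (m' + 1) - 1 =
    AdjoinRoot.mk (gen Z (m' + 1)) (Polynomial.X ^ (m' + 1) - 1) by
      rw [map_sub, map_pow, map_one]; rfl,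
    rho_mk, map_sub, Polynomial.aeval_X_pow, map_one, sub_mul, hid, one_mul, sub_self]

end NonNil

/-- The `2 × 2` matrices over `F[Θ]` as operators. -/
noncomputable def Phi (A C : Module.End F (ι → F)) (m : ℕ)
    (M : Matrix (Fin 2) (Fin 2) (LR (th A C) m)) : Module.End F (ι → F) :=
  rho (M 0 0) * th A C ^ (2 * m - 1) * (A * C) + rho (M 1 1) * th A C ^ (2 * m - 1) * (C * A) +
    rho (M 0 1) * A + rho (M 1 0) * th A C ^ (2 * m - 1) * C

variable {m : ℕ}

lemma eta_mul (hm : 0 < m) : th A C ^ (2 * m - 1) * th A C = th A C ^ m * th A C ^ m := by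
  rw [← pow_succ, ← pow_add]; congr 1; omega

lemma Phi_mul (hA : A * A = 0) (hC : C * C = 0) (hm : 0 < m)
    (hid : th A C ^ m * th A C ^ m = th A C ^ m) (M N : Matrix (Fin 2) (Fin 2) (LR (th A C) m)) :
    Phi A C m M * Phi A C m N = Phi A C m (M * N) := by
  set Z := th A C with hZ
  set η := Z ^ (2 * m - 1) with hη
  have cA : ∀ x : LR Z m, Commute A (rho x) := commute_rho (commute_th hA)
  have cC : ∀ x : LR Z m, Commute C (rho x) := commute_rho (commute_th' hC)
  have cAη : Commute A η := (commute_th hA).pow_right _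
  have cCη : Commute C η := (commute_th' hC).pow_right _
  have ceta : ∀ x : LR Z m, Commute η (rho x) := fun x =>
    commute_rho ((Commute.refl Z).pow_left _) x
  have cZ : ∀ x : LR Z m, Commute Z (rho x) := commute_rho (Commute.refl Z)
  have cZη : Commute Z η := (Commute.refl Z).pow_right _
  have hηZ : η * Z = Z ^ m := by rw [hη, eta_mul hm, hid]
  have hρe : ∀ x : LR Z m, rho x * Z ^ m = rho x := fun x => by
    rw [← rho_one, ← rho_mul hid, mul_one]
  have hηη : ∀ x : LR Z m, rho x * (η * η * Z) = rho x * η := fun x => by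
    rw [mul_assoc η η, hηZ, ← mul_assoc, (ceta x).symm.eq, mul_assoc, hρe, (ceta x).eq]
  rw [Phi, Phi, key_mul hA hC (by
    simp only [List.mem_cons, List.not_mem_nil, or_false, forall_eq_or_imp, forall_eq]
    exact ⟨⟨(cA _).mul_right cAη, (cC _).mul_right cCη⟩, ⟨cA _, cC _⟩,
      ⟨(cA _).mul_right cAη, (cC _).mul_right cCη⟩, ⟨(cA _).mul_right cAη, (cC _).mul_right cCη⟩,
      ⟨(cA _).mul_right cAη, (cC _).mul_right cCη⟩, ⟨cA _, cC _⟩,
      ⟨(cA _).mul_right cAη, (cC _).mul_right cCη⟩, ⟨(cA _).mul_right cAη, (cC _).mul_right cCη⟩⟩)]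
  simp only [Matrix.mul_apply, Fin.sum_univ_two, rho_add, rho_mul hid, Phi, ← hZ, ← hη]
  have e1 : ∀ x y : LR Z m, rho x * η * (rho y * η) * Z = rho x * rho y * η := fun x y => by
    rw [show rho x * η * (rho y * η) * Z = rho x * rho y * (η * η * Z) by
      rw [mul_assoc (rho x) η, ← mul_assoc η, (ceta y).eq]
      simp only [mul_assoc], ← rho_mul hid, hηη]
  have e2 : ∀ x y : LR Z m, rho x * (rho y * η) = rho x * rho y * η := fun x y =>
    (mul_assoc _ _ _).symm
  have e3 : ∀ x y : LR Z m, rho x * η * rho y = rho x * rho y * η := fun x y => by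
    rw [mul_assoc, (ceta y).eq, mul_assoc]
  have e4 : ∀ x y : LR Z m, rho x * rho y * η * Z = rho x * rho y := fun x y => by
    rw [mul_assoc, hηZ, ← rho_mul hid, hρe]
  simp only [e1, e2, e3, e4, add_mul]

lemma Phi_one (hm : 0 < m) (hid : th A C ^ m * th A C ^ m = th A C ^ m) :
    Phi A C m 1 = th A C ^ m := by
  simp only [Phi, Matrix.one_apply_eq, ne_eq, zero_ne_one, not_false_eq_true, Matrix.one_apply_ne,
    one_ne_zero, rho_one, rho_zero, zero_mul, add_zero]
  rw [← mul_add, mul_assoc, show A * C + C * A = th A C from rfl, eta_mul hm, hid, hid]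

lemma Phi_upR (hm : 0 < m) (hid : th A C ^ m * th A C ^ m = th A C ^ m) (x : LR (th A C) m) :
    Phi A C m (QuadPair.upR x).1 = th A C ^ m + rho x * A := by
  rw [QuadPair.coe_upR]
  simp [Phi, rho_one, rho_zero]
  rw [← mul_add, mul_assoc, eta_mul hm, hid, hid]

lemma Phi_loR (hm : 0 < m) (hid : th A C ^ m * th A C ^ m = th A C ^ m) (c : F) :
    Phi A C m (QuadPair.loR (algebraMap F (LR (th A C) m) c * AdjoinRoot.root (gen (th A C) m))).1 =
      th A C ^ m + c • (th A C ^ m * C) := by
  rw [QuadPair.coe_loR]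
  simp [Phi, rho_one, rho_zero, rho_mul hid, rho_root, rho_of]
  rw [← mul_add, mul_assoc _ _ (A * C + C * A), eta_mul hm, hid, hid]
  congr 2
  have hc : th A C * th A C ^ m * th A C ^ (2 * m - 1) = th A C ^ m := by
    rw [← pow_succ', ← pow_add, show m + 1 + (2 * m - 1) = m + m + m by omega, pow_add, pow_add, hid,
      hid]
  rw [mul_assoc (th A C ^ m), hc, hid]

/-- The action of `SL₂` on pairs. -/
noncomputable def act2 (L : Type*) [CommRing L] [Algebra F L] :
    SL(2, L) →* ((L × L) ≃ₗ[F] (L × L)) where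
  toFun M := LinearEquiv.ofLinearMap
    (LinearMap.prod ((LinearMap.mulLeft F (M.1 0 0)).coprod (LinearMap.mulLeft F (M.1 0 1)))
      ((LinearMap.mulLeft F (M.1 1 0)).coprod (LinearMap.mulLeft F (M.1 1 1))))
    (LinearMap.prod ((LinearMap.mulLeft F (M.1 1 1)).coprod (LinearMap.mulLeft F (-M.1 0 1)))
      ((LinearMap.mulLeft F (-M.1 1 0)).coprod (LinearMap.mulLeft F (M.1 0 0))))
    (LinearMap.ext fun x => by
      have h : M.1 0 0 * M.1 1 1 - M.1 0 1 * M.1 1 0 = 1 := by rw [← Matrix.det_fin_two]; exact M.2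
      refine Prod.ext ?_ ?_
      · simp; linear_combination x.1 * h
      · simp; linear_combination x.2 * h)
    (LinearMap.ext fun x => by
      have h : M.1 0 0 * M.1 1 1 - M.1 0 1 * M.1 1 0 = 1 := by rw [← Matrix.det_fin_two]; exact M.2
      refine Prod.ext ?_ ?_
      · simp; linear_combination x.1 * h
      · simp; linear_combination x.2 * h)
  map_one' := LinearEquiv.ext fun x => by simp
  map_mul' M N := LinearEquiv.ext fun x => by
    refine Prod.ext ?_ ?_ <;>
      simp [Matrix.mul_apply, Fin.sum_univ_two] <;> ring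

/-- Pairs of an element and its matrix. -/
noncomputable def pairs (A C : Module.End F (ι → F)) (m : ℕ) :
    Subgroup (GL ι F × SL(2, LR (th A C) m)) :=
  Subgroup.closure
    (Set.range (fun c : F => (C4.unip (c • A), QuadPair.upR (algebraMap F (LR (th A C) m) c))) ∪
      Set.range fun c : F => (C4.unip (c • C),
        QuadPair.loR (algebraMap F (LR (th A C) m) c * AdjoinRoot.root (gen (th A C) m))))

lemma pairs_snd : (pairs A C m).map (MonoidHom.snd _ _) =
    QuadPair.genPairR F (AdjoinRoot.root (gen (th A C) m)) := by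
  rw [pairs, MonoidHom.map_closure, Set.image_union, ← Set.range_comp, ← Set.range_comp]
  rfl

/-- The part off the idempotent. -/
abbrev off (A C : Module.End F (ι → F)) (m : ℕ) : Module.End F (ι → F) := 1 - th A C ^ m

lemma off_sq (hA : A * A = 0) : A * off A C m * (A * off A C m) = 0 := by
  have h : Commute A (off A C m) := (Commute.one_right A).sub_right ((commute_th hA).pow_right _)
  rw [mul_assoc, ← mul_assoc (off A C m), ← h.eq, ← mul_assoc, ← mul_assoc, hA]
  simp

variable {M : Subgroup (GL ι F)}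

lemma pairs_inv (hA : A * A = 0) (hC : C * C = 0) (hm : 0 < m)
    (hid : th A C ^ m * th A C ^ m = th A C ^ m) (hMA : ∀ c : F, C4.unip (c • A) ∈ M)
    (hMC : ∀ c : F, C4.unip (c • C) ∈ M) :
    ∀ γ ∈ pairs A C m, γ.1 ∈ M ∧ Commute (toE γ.1) (th A C ^ m) ∧
      toE γ.1 * th A C ^ m = Phi A C m γ.2.1 ∧
      ∃ δ ∈ pairGrp (A * off A C m) (C * off A C m),
        toE δ = toE γ.1 * off A C m + th A C ^ m := by
  have : Finite (GL ι F) := Finite.of_injective Units.val Units.val_injective
  haveI : Finite (LR (th A C) m) := by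
    haveI := (AdjoinRoot.powerBasis (gen_ne_zero (Z := th A C) (m := m))).finite
    exact Module.finite_of_finite F
  haveI : Finite SL(2, LR (th A C) m) := Subtype.finite
  intro γ hγ
  rw [pairs, ← Subgroup.mem_toSubmonoid, Subgroup.closure_toSubmonoid_of_finite] at hγ
  have he' : th A C ^ m * off A C m = 0 := by rw [mul_sub, mul_one, hid, sub_self]
  have hoff : off A C m * off A C m = off A C m := by rw [sub_mul, one_mul, he', sub_zero]
  induction hγ using Submonoid.closure_induction with
  | mem γ h =>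
    rcases h with ⟨c, rfl⟩ | ⟨c, rfl⟩
    · refine ⟨hMA c, ?_, ?_, C4.unip (c • (A * off A C m)),
        Subgroup.subset_closure (Or.inl ⟨c, rfl⟩), ?_⟩
      · rw [toE_unip hA]; exact (Commute.one_left _).add_left (((commute_th hA).pow_right _).smul_left c)
      · rw [toE_unip hA, Phi_upR hm hid, rho_algebraMap, add_mul, one_mul, smul_mul_assoc,
          smul_mul_assoc, ((commute_th hA).pow_right m).eq]
      · rw [toE_unip (off_sq hA), toE_unip hA, add_mul, one_mul, smul_mul_assoc,
          show off A C m = 1 - th A C ^ m from rfl]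
        abel
    · refine ⟨hMC c, ?_, ?_, C4.unip (c • (C * off A C m)),
        Subgroup.subset_closure (Or.inr ⟨c, rfl⟩), ?_⟩
      · rw [toE_unip hC]; exact (Commute.one_left _).add_left (((commute_th' hC).pow_right _).smul_left c)
      · rw [toE_unip hC, Phi_loR hm hid, add_mul, one_mul, smul_mul_assoc,
          ((commute_th' hC).pow_right m).eq]
      · have : C * off A C m * (C * off A C m) = 0 := by
          have h : Commute C (off A C m) :=
            (Commute.one_right C).sub_right ((commute_th' hC).pow_right _)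
          rw [mul_assoc, ← mul_assoc (off A C m), ← h.eq, ← mul_assoc, ← mul_assoc, hC]
          simp
        rw [toE_unip this, toE_unip hC, add_mul, one_mul, smul_mul_assoc,
          show off A C m = 1 - th A C ^ m from rfl]
        abel
  | one =>
    refine ⟨one_mem M, ?_, ?_, 1, one_mem _, ?_⟩
    · rw [Prod.fst_one, map_one]; exact Commute.one_left _
    · rw [Prod.fst_one, map_one, one_mul]; exact (Phi_one hm hid).symm
    · rw [Prod.fst_one, map_one, one_mul, sub_add_cancel]
  | mul γ γ' _ _ h h' =>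
    obtain ⟨h1, h2, h3, δ, hδ, h4⟩ := h
    obtain ⟨h1', h2', h3', δ', hδ', h4'⟩ := h'
    refine ⟨mul_mem h1 h1', ?_, ?_, δ * δ', mul_mem hδ hδ', ?_⟩
    · rw [Prod.fst_mul, map_mul]; exact h2.mul_left h2'
    · rw [Prod.fst_mul, map_mul]
      show _ = Phi A C m (γ.2.1 * γ'.2.1)
      rw [← Phi_mul hA hC hm hid, ← h3, ← h3', mul_assoc, mul_assoc (toE γ.1),
        ← mul_assoc (th A C ^ m), ← h2'.eq, mul_assoc (toE γ'.1), hid]
    · have hc : Commute (toE γ'.1) (off A C m) := (Commute.one_right _).sub_right h2'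
      rw [map_mul, h4, h4', Prod.fst_mul, map_mul, mul_add, add_mul, add_mul, hid, mul_assoc _ (off A C m),
        ← mul_assoc (off A C m), ← hc.eq, mul_assoc (toE γ'.1), hoff,
        mul_assoc _ (off A C m) (th A C ^ m), show off A C m * th A C ^ m = 0 by
          rw [sub_mul, one_mul, hid, sub_self], mul_zero, ← mul_assoc (th A C ^ m), ← h2'.eq,
        mul_assoc (toE γ'.1), he', mul_zero, add_zero, zero_add, mul_assoc]

lemma off_pgroup (p : ℕ) [Fact p.Prime] [CharP F p] (hA : A * A = 0) (hC : C * C = 0) (hm : 0 < m)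
    (hid : th A C ^ m * th A C ^ m = th A C ^ m) :
    IsPGroup p (pairGrp (A * off A C m) (C * off A C m)) := by
  have hc : Commute A (off A C m) := (Commute.one_right A).sub_right ((commute_th hA).pow_right _)
  have hc' : Commute C (off A C m) := (Commute.one_right C).sub_right ((commute_th' hC).pow_right _)
  have hoff : off A C m * off A C m = off A C m := by
    rw [sub_mul, one_mul, mul_sub, mul_one, hid, sub_self, sub_zero]
  refine pgroup_of_nilpotent p (off_sq hA) ?_ (m := m) ?_
  · rw [mul_assoc, ← mul_assoc (off A C m), ← hc'.eq, ← mul_assoc, ← mul_assoc, hC]; simp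
  · have e : th (A * off A C m) (C * off A C m) = th A C * off A C m := by
      rw [th, th, add_mul]
      congr 1
      · rw [mul_assoc, ← mul_assoc (off A C m), ← hc'.eq, mul_assoc C, hoff, mul_assoc]
      · rw [mul_assoc, ← mul_assoc (off A C m), ← hc.eq, mul_assoc A, hoff, mul_assoc]
    have hcz : Commute (th A C) (off A C m) :=
      (Commute.one_right _).sub_right ((Commute.refl _).pow_right _)
    rw [e, hcz.mul_pow, show off A C m ^ m = off A C m from by
      obtain ⟨m', rfl⟩ : ∃ m', m = m' + 1 := ⟨m - 1, by omega⟩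
      exact (show IsIdempotentElem (off A C (m' + 1)) from hoff).pow_succ_eq m',
      mul_sub, mul_one, hid, sub_self]

/-- The roots of the linear span force `ACA = κ A`. -/
theorem exists_kappa (p : ℕ) [Fact p.Prime] [CharP F p] (h2 : (2 : F) ≠ 0) (h3 : Fintype.card F ≠ 3)
    (hA : A * A = 0) (hC : C * C = 0) (hMA : ∀ c : F, C4.unip (c • A) ∈ M)
    (hMC : ∀ c : F, C4.unip (c • C) ∈ M) (hnn : ∀ n, th A C ^ n ≠ 0)
    (hQ : ∀ q : Module.End F (ι → F), Commute A q → InM M (q * A) → ∃ c : F, q * A = c • A) :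
    ∃ κ : F, κ ≠ 0 ∧ A * C * A = κ • A := by
  classical
  have : Finite (Module.End F (ι → F)) := Module.finite_of_finite F
  obtain ⟨m, hm, hid⟩ := exists_idem_pow (th A C)
  set Z := th A C with hZ
  set pb := AdjoinRoot.powerBasis (gen_ne_zero (Z := Z) (m := m))
  haveI : Nontrivial (LR Z m) := nontrivial_of_ne 1 0 fun e => by
    have := congrArg rho e
    rw [rho_one, rho_zero] at this
    exact hnn m this
  have hk3 : Nat.card F ≠ 3 := by rwa [Nat.card_eq_fintype_card]
  have hk2 : ringChar F ≠ 2 := fun e => h2 (by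
    have := ringChar.Nat.cast_ringChar (R := F); rw [e] at this; exact_mod_cast this)
  -- derived terms
  obtain ⟨n, hn⟩ : ∃ n, derivedSeries (pairGrp (A * off A C m) (C * off A C m)) n = ⊥ := by
    have : Finite (GL ι F) := Finite.of_injective Units.val Units.val_injective
    haveI := (off_pgroup p hA hC hm hid).isNilpotent
    exact (isSolvable_def _).1 inferInstance
  have lift : ∀ x : LR Z m, QuadPair.upR x ∈
      (derivedSeries ↥(QuadPair.genPairR F (AdjoinRoot.root (gen Z m))) n).map
        (QuadPair.genPairR F (AdjoinRoot.root (gen Z m))).subtype →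
      ∃ c : F, rho x = c • Z ^ m ∧ (rho x * A = c • A) := by
    intro x hx
    -- a pair over it
    let π : pairs A C m →* QuadPair.genPairR F (AdjoinRoot.root (gen Z m)) :=
      ((MonoidHom.snd _ _).comp (pairs A C m).subtype).codRestrict _ fun γ =>
        pairs_snd.le ⟨γ, γ.2, rfl⟩
    have hπ : Function.Surjective π := fun y => by
      obtain ⟨γ, hγ, e⟩ := pairs_snd.ge y.2
      exact ⟨⟨γ, hγ⟩, Subtype.ext e⟩
    obtain ⟨y, hy, ey⟩ := hx
    rw [← map_derivedSeries_eq hπ n] at hy
    obtain ⟨γ, hγ, rfl⟩ := hy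
    obtain ⟨hγM, hγc, hγe, δ, hδ, hδe⟩ := pairs_inv hA hC hm hid hMA hMC γ.1 γ.2
    choose Δ hΔm hΔe using fun γ : pairs A C m => (pairs_inv hA hC hm hid hMA hMC γ.1 γ.2).2.2.2
    let ψ : pairs A C m →* pairGrp (A * off A C m) (C * off A C m) :=
      MonoidHom.mk' (fun γ => ⟨Δ γ, hΔm γ⟩) fun γ γ' => Subtype.ext (toE_inj (by
        obtain ⟨-, h2', -, -⟩ := pairs_inv hA hC hm hid hMA hMC γ'.1 γ'.2
        obtain ⟨-, h2, -, -⟩ := pairs_inv hA hC hm hid hMA hMC γ.1 γ.2
        have hc : Commute (toE γ'.1.1) (off A C m) := (Commute.one_right _).sub_right h2'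
        rw [Subgroup.coe_mul, map_mul, hΔe, hΔe, hΔe, Subgroup.coe_mul, Prod.fst_mul, map_mul,
          mul_add, add_mul, add_mul, hid, mul_assoc _ (off A C m), ← mul_assoc (off A C m), ← hc.eq,
          mul_assoc (toE γ'.1.1), show off A C m * off A C m = off A C m by
            rw [sub_mul, one_mul, mul_sub, mul_one, hid, sub_self, sub_zero],
          mul_assoc _ (off A C m) (Z ^ m), show off A C m * Z ^ m = 0 by
            rw [sub_mul, one_mul, hid, sub_self], mul_zero, ← mul_assoc (Z ^ m), ← h2'.eq,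
          mul_assoc (toE γ'.1.1), show Z ^ m * off A C m = 0 by rw [mul_sub, mul_one, hid, sub_self],
          mul_zero, add_zero, zero_add, mul_assoc]))
    have hψ : ψ γ = 1 := by
      have := map_derivedSeries_le_derivedSeries ψ n (Subgroup.mem_map_of_mem ψ hγ)
      rwa [hn, Subgroup.mem_bot] at this
    have h1 : toE γ.1.1 * off A C m + Z ^ m = 1 := by
      rw [← hΔe γ, show Δ γ = 1 from congrArg Subtype.val hψ, map_one]
    have e2 : γ.1.2 = QuadPair.upR x := ey
    have h2 : toE γ.1.1 = 1 + rho x * A := by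
      have : toE γ.1.1 = toE γ.1.1 * off A C m + toE γ.1.1 * Z ^ m := by
        rw [← mul_add, sub_add_cancel, mul_one]
      rw [this, hγe, e2, Phi_upR hm hid]
      linear_combination (norm := abel) h1
    obtain ⟨c, hc⟩ := hQ (rho x) (commute_rho (commute_th hA) x) ⟨γ.1.1, hγM, fun v => by
      rw [← toE_apply, h2]; rfl⟩
    refine ⟨c, ?_, hc⟩
    have hCx : Commute C (rho x) := commute_rho (commute_th' hC) x
    have h5 : rho x * Z = c • Z := by
      show rho x * (A * C + C * A) = c • (A * C + C * A)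
      rw [mul_add, ← mul_assoc, hc, ← mul_assoc, ← hCx.eq, mul_assoc C, hc, smul_mul_assoc,
        mul_smul_comm, smul_add]
    have h6 := congrArg (· * Z ^ (2 * m - 1)) h5
    simp only [mul_assoc, smul_mul_assoc] at h6
    rw [show Z * Z ^ (2 * m - 1) = Z ^ m from by
      rw [← pow_succ', show 2 * m - 1 + 1 = m + m by omega, pow_add, hid],
      ← rho_one, ← rho_mul hid, mul_one] at h6
    rwa [rho_one] at h6
  rcases QuadPair.derived_dichotomy pb hk2 hk3 (by
      simpa [pb] using root_isUnit hid hm) with ⟨-, hall⟩ | ⟨-, hex⟩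
  · -- every element is a multiple of the identity
    have hall' : ∀ x : LR Z m, ∃ c : F, rho x = c • Z ^ m ∧ rho x * A = c • A := fun x => by
      refine lift x ?_
      exact (hall n x).1
    obtain ⟨c₁, h11, h12⟩ := hall' 1
    rw [rho_one] at h11 h12
    have hc1 : c₁ = 1 := by
      by_contra hne
      have : (1 - c₁) • Z ^ m = 0 := by linear_combination (norm := module) h11
      exact hnn m ((smul_eq_zero.1 this).resolve_left (sub_ne_zero.2 (Ne.symm hne)))
    obtain ⟨κ, h21, -⟩ := hall' (AdjoinRoot.root (gen Z m))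
    rw [rho_root] at h21
    rw [hc1, one_smul] at h12
    refine ⟨κ, fun e => hnn (m + 1) (by rw [pow_succ', h21, e, zero_smul]), ?_⟩
    have hA' : A * C * A = Z * A := by
      rw [hZ, th, add_mul, mul_assoc C A A, hA, mul_zero, add_zero]
    rw [hA', ← h12, ← mul_assoc, h21, smul_mul_assoc]
  · exfalso
    obtain ⟨x, hx0, hxu, hx⟩ := hex n
    obtain ⟨c, hc, -⟩ := lift x hx
    have hxc : x = algebraMap F _ c := sub_eq_zero.1 (rho_inj (by
      rw [sub_eq_add_neg, rho_add, hc, ← map_neg, rho_algebraMap, ← add_smul, add_neg_cancel, zero_smul]))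
    rcases eq_or_ne c 0 with rfl | h0
    · exact hx0 (by rw [hxc, map_zero])
    · exact hxu (hxc ▸ (isUnit_iff_ne_zero.2 h0).map _)

/-- An involution commuting with both. -/
theorem exists_invol (p : ℕ) [Fact p.Prime] [CharP F p] (h2 : (2 : F) ≠ 0)
    (hA : A * A = 0) (hC : C * C = 0) (hMA : ∀ c : F, C4.unip (c • A) ∈ M)
    (hMC : ∀ c : F, C4.unip (c • C) ∈ M) (hnn : ∀ n, th A C ^ n ≠ 0) :
    ∃ z ∈ M, z ≠ 1 ∧ (∀ x, app z (app z x) = x) ∧ (∀ x, app z (A x) = A (app z x)) ∧
      (∀ x, app z (C x) = C (app z x)) ∧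
      (∀ x, A x = 0 → app z x - x ∈ LinearMap.range A) ∧
      ∀ x, A x = 0 → C x = 0 → app z x = x := by
  classical
  have : Finite (Module.End F (ι → F)) := Module.finite_of_finite F
  have : Finite (GL ι F) := Finite.of_injective Units.val Units.val_injective
  obtain ⟨m, hm, hid⟩ := exists_idem_pow (th A C)
  set Z := th A C with hZ
  set pb := AdjoinRoot.powerBasis (gen_ne_zero (Z := Z) (m := m))
  haveI := pb.finite
  haveI : Finite (LR Z m) := Module.finite_of_finite F
  haveI : Finite SL(2, LR Z m) := Subtype.finite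
  haveI : Nontrivial (LR Z m) := nontrivial_of_ne 1 0 fun e => by
    have := congrArg rho e
    rw [rho_one, rho_zero] at this
    exact hnn m this
  set α := AdjoinRoot.root (gen Z m)
  obtain ⟨αu, hαu⟩ := root_isUnit hid hm
  -- even order
  let B : LR Z m ≃ₗ[F] LR Z m := LinearEquiv.ofLinearMap (LinearMap.mulLeft F α)
    (LinearMap.mulLeft F (↑αu⁻¹ : LR Z m))
    (LinearMap.ext fun x => by simp [α, ← hαu])
    (LinearMap.ext fun x => by simp [α, ← hαu])
  let a2 := act2 (F := F) (LR Z m)
  have hev := TenForm.even_of_shears h2 (LinearEquiv.refl F (LR Z m)) B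
    (a2 (QuadPair.upR 1)) (a2 (QuadPair.loR α))
    (fun i j => Prod.ext (by simp [a2, act2, QuadPair.coe_upR]) (by simp [a2, act2, QuadPair.coe_upR]))
    (fun i j => Prod.ext (by simp [a2, act2, QuadPair.coe_loR])
      (by simp [a2, act2, QuadPair.coe_loR, B]; ring))
  have h2d : 2 ∣ Nat.card (pairs A C m) := by
    refine (even_iff_two_dvd.1 hev).trans ?_
    refine (Subgroup.card_dvd_of_le (K := (pairs A C m).map (a2.comp (MonoidHom.snd _ _))) ?_).trans
      (Subgroup.card_map_dvd (pairs A C m) _)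
    rw [← Subgroup.map_map, pairs_snd, Subgroup.closure_le]
    rintro _ (rfl | rfl)
    · exact ⟨_, by simpa using QuadPair.upR_mem_genPair (k := F) α 1, rfl⟩
    · exact ⟨_, by simpa using QuadPair.loR_mem_genPair (k := F) α 1, rfl⟩
  haveI : Fact (Nat.Prime 2) := ⟨Nat.prime_two⟩
  obtain ⟨⟨⟨z, n⟩, hz⟩, hord⟩ := exists_prime_orderOf_dvd_card' 2 h2d
  have hzz : z * z = 1 ∧ n * n = 1 := by
    have := congrArg Subtype.val (pow_orderOf_eq_one (⟨(z, n), hz⟩ : pairs A C m))
    rw [hord, pow_two] at this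
    exact Prod.mk.injEq .. |>.mp this
  have hne : ¬(z = 1 ∧ n = 1) := fun ⟨e1, e2⟩ => by
    rw [show (⟨(z, n), hz⟩ : pairs A C m) = 1 from Subtype.ext (Prod.ext e1 e2), orderOf_one] at hord
    omega
  obtain ⟨hzM, hzc, hze, δ, hδ, hδe⟩ := pairs_inv hA hC hm hid hMA hMC _ hz
  dsimp only at hzM hzc hze hδe
  obtain ⟨h01, h10, h00⟩ := QuadPair.scalar_of_sq (QuadPair.two_unit (k := F) h2) hzz.2
  have hδ1 : δ = 1 := by
    have hsq : δ * δ = 1 := toE_inj (by
      have hoff : off A C m * off A C m = off A C m := by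
        rw [sub_mul, one_mul, mul_sub, mul_one, hid, sub_self, sub_zero]
      have hc : Commute (toE z) (off A C m) := (Commute.one_right _).sub_right hzc
      rw [map_mul, hδe, map_one, mul_add, add_mul, add_mul, hid, mul_assoc _ (off A C m),
        ← mul_assoc (off A C m), ← hc.eq, mul_assoc (toE z), hoff, ← mul_assoc, ← map_mul, hzz.1,
        map_one, one_mul, mul_assoc _ (off A C m) (Z ^ m), show off A C m * Z ^ m = 0 by
          rw [sub_mul, one_mul, hid, sub_self], mul_zero, ← mul_assoc (Z ^ m), ← hzc.eq,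
        mul_assoc (toE z), show Z ^ m * off A C m = 0 by rw [mul_sub, mul_one, hid, sub_self],
        mul_zero, add_zero, zero_add, sub_add_cancel])
    obtain ⟨j, hj⟩ := (off_pgroup p hA hC hm hid) ⟨δ, hδ⟩
    have hj' : δ ^ p ^ j = 1 := congrArg Subtype.val hj
    have hodd : Odd (p ^ j) := ((Fact.out : p.Prime).odd_of_ne_two fun e => h2 (by
      subst e; exact_mod_cast CharP.cast_eq_zero F 2)).pow
    obtain ⟨i, hi⟩ := hodd
    rw [hi, pow_succ, pow_mul, pow_two, hsq, one_pow, one_mul] at hj'
    exact hj'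
  rw [hδ1, map_one] at hδe
  have hPhi : Phi A C m n.1 = rho (n.1 0 0) := by
    simp only [Phi, h01, h10, ← h00, rho_zero, zero_mul, add_zero]
    rw [← mul_add, mul_assoc, eta_mul hm, hid, show Z ^ m = rho 1 from rho_one.symm, ← rho_mul hid,
      mul_one]
  have hz1 : toE z = 1 - Z ^ m + rho (n.1 0 0) := by
    have h := hze.trans hPhi
    have h' : toE z = toE z * off A C m + toE z * Z ^ m := by rw [← mul_add, sub_add_cancel, mul_one]
    rw [h', h]
    linear_combination (norm := abel) -hδe
  have hcomm : ∀ X, Commute X Z → ∀ x, app z (X x) = X (app z x) := fun X hX x => by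
    have h : Commute X (toE z) := by
      rw [hz1]
      exact ((Commute.one_right X).sub_right (hX.pow_right _)).add_right (commute_rho hX _)
    exact (LinearMap.congr_fun h.eq x).symm
  set w := Z ^ (2 * m - 1) * (rho (n.1 0 0) - Z ^ m) with hw
  have hzw : ∀ x, app z x - x = Z (w x) := fun x => by
    have h := LinearMap.congr_fun hz1 x
    rw [toE_apply] at h
    have hr : rho (n.1 0 0) - Z ^ m = Z * w := by
      rw [hw, ← mul_assoc, ← pow_succ', show 2 * m - 1 + 1 = m + m by omega, pow_add, hid, mul_sub, hid,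
        show Z ^ m = rho 1 from rho_one.symm, ← rho_mul hid, one_mul]
    rw [h, ← Module.End.mul_apply, ← hr]; simp; abel
  have hwc : ∀ X, Commute X Z → Commute X w := fun X hX =>
    (hX.pow_right _).mul_right ((commute_rho hX _).sub_right (hX.pow_right _))
  have hwA : ∀ x, A x = 0 → A (w x) = 0 := fun x hx => by
    rw [← Module.End.mul_apply, (hwc A (commute_th hA)).eq, Module.End.mul_apply, hx, map_zero]
  have hwC : ∀ x, C x = 0 → C (w x) = 0 := fun x hx => by
    rw [← Module.End.mul_apply, (hwc C (commute_th' hC)).eq, Module.End.mul_apply, hx, map_zero]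
  refine ⟨z, hzM, fun e => hne ⟨e, ?_⟩, fun x => ?_, hcomm A (commute_th hA), hcomm C (commute_th' hC),
    fun x hx => ?_, fun x hx hx' => ?_⟩
  · rw [e, map_one] at hz1
    have ha : n.1 0 0 = 1 := sub_eq_zero.1 (rho_inj (by
      rw [sub_eq_add_neg, rho_add, show (-1 : LR Z m) = algebraMap F _ (-1) by simp, rho_algebraMap]
      linear_combination (norm := module) -hz1))
    refine Subtype.ext (Matrix.ext fun i j => ?_)
    fin_cases i <;> fin_cases j <;> simp [ha, h01, h10, ← h00]
  · rw [← LinearEquiv.mul_apply, ← map_mul, hzz.1, map_one]; rfl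
  · exact ⟨C (w x), by rw [hzw]; simp [hZ, hwA x hx]⟩
  · rw [← sub_eq_zero, hzw]; simp [hZ, hwA x hx, hwC x hx']

end Pair

end Cfsg.Agent.C7F
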