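import Cfsg.Agent.Lib.C7F.Decomp
import Cfsg.Agent.Lib.C7F.Lines
import Cfsg.Agent.Lib.C7F.Pair

/-!
# The wreath group of an alternating tensor power is maximal

* `Fm.Scl.mem_Wr_of_map` : elements carrying a line to a line are in the wreath group
* `Fm.Scl.le_Wr` : overgroups that are not big lie in the wreath group
* `Fm.maxl` : every overgroup lies in the wreath group or is big
-/

set_option autoImplicit false
set_option linter.unusedSectionVars false

namespace Cfsg.Agent.C7F

open Matrix Module Cfsg.Agent.Transvect Cfsg.Agent.C7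
open scoped MatrixGroups

attribute [-simp] app_apply

variable {F : Type*} [Field F] [Fintype F] {k t : ℕ}

namespace Fm

variable {G : Fm F k}

lemma res_root {i : Fin (t + 1)} {a : Fin k → F} (ha : a ≠ 0) {C : GL (Fin k) F}
    (hC : ∀ z, app C z = z + G.nn a z) :
    C4.res (kr i (1 : GL (J k t) F) C) = Li i a ∧
      ∀ x ∈ Li i a, app (kr i (1 : GL (J k t) F) C) x = x := by
  have e : ∀ x, app (kr i (1 : GL (J k t) F) C) x = x + T i (ct i (G.f a) x) a := fun x => by
    rw [app_kr_one_sl, show (app C).toLinearMap = LinearMap.id + (G.f a).smulRight a from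
      LinearMap.ext hC, sl_id_add, sl_smulRight]
  obtain ⟨d, hd⟩ := G.exists_dual ha
  refine ⟨le_antisymm (C4.res_le fun x => by rw [e, add_sub_cancel_left]; exact T_mem_Li _ _ _) ?_,
    fun x hx => by rw [e, ct_Li (G.alt a) hx]; simp⟩
  rintro _ ⟨b, rfl⟩
  refine ⟨T i b d, ?_⟩
  show app (kr i (1 : GL (J k t) F) C) (T i b d) - T i b d = T i b a
  rw [e, ct_T, hd, one_smul, add_sub_cancel_left]

/-- An element with a conjugate root in the wreath group carries the line to a line. -/
lemma exists_line_conj (hk : 2 ≤ k) {g : GL (J k (t + 1)) F} {i : Fin (t + 1)} {a : Fin k → F}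
    (ha : a ≠ 0) {C : GL (Fin k) F} (hC : ∀ z, app C z = z + G.nn a z)
    (hy : g * kr i 1 C * g⁻¹ ∈ Wr F k (t + 1)) :
    ∃ (l : Fin (t + 1)) (c : Fin k → F), c ≠ 0 ∧ ∀ y, app g (T i y a) ∈ Li l c := by
  obtain ⟨hres, hfix⟩ := G.res_root (i := i) ha hC
  have hr : C4.res (g * kr i 1 C * g⁻¹) = (Li i a).map (app g).toLinearMap := by
    rw [C4.res_conj, hres]
  have hsq : ∀ x, app (g * kr i 1 C * g⁻¹) (app (g * kr i 1 C * g⁻¹) x - x) =
      app (g * kr i 1 C * g⁻¹) x - x := fun x => by
    obtain ⟨z, hz, e⟩ := hr.le (C4.mem_res (g := g * kr i 1 C * g⁻¹) x)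
    rw [← e, LinearEquiv.coe_coe, map_mul, map_mul, LinearEquiv.mul_apply, LinearEquiv.mul_apply,
      app_inv_app, hfix z hz]
  obtain ⟨l, c, hc, e⟩ := exists_line_of_sq hk G.two hy hsq (by
    rw [hr, LinearEquiv.finrank_map_eq, finrank_Li i ha])
  exact ⟨l, c, hc, fun y => e ▸ hr ▸ ⟨_, T_mem_Li i y a, rfl⟩⟩

variable {M : Subgroup (GL (J k (t + 1)) F)}

/-- An element carrying a line to a line is in the wreath group. -/
theorem Scl.mem_Wr_of_map (S : G.Scl M) (hres : 1 ≤ t → ∀ i, res i M ≤ Wr F k t)
    {g : GL (J k (t + 1)) F} (hg : g ∈ M) {i l : Fin (t + 1)} {a a' : Fin k → F} (ha : a ≠ 0)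
    (ha' : a' ≠ 0) (hline : ∀ y, app g (T i y a) ∈ Li l a') : g ∈ Wr F k (t + 1) := by
  have h22 := G.two
  have hk : 2 ≤ k := by rcases S.hk with h | h <;> omega
  cases t with
  | zero => exact C7.mem_Wr_one g
  | succ r =>
    obtain ⟨A, B, e⟩ := S.exists_decomp hg ha ha' hline
    have hA : A ∈ Wr F k (r + 1) := by
      refine mem_Wr_of_lines hk A fun j b hb => ?_
      obtain ⟨C, hC, eC⟩ := G.exists_sr b b (G.alt b) 2⁻¹
      have eC' : ∀ z, app C z = z + G.nn b z := fun z => by
        rw [eC, sy_self, LinearMap.smul_apply, smul_smul, inv_mul_cancel₀ h22, one_smul]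
      have hmem : A * kr j 1 C * A⁻¹ ∈ res l M := by
        rw [mem_res_iff]
        have h1 : g * kr i (kr j 1 C) 1 * g⁻¹ = kr l (A * kr j 1 C * A⁻¹) 1 := by
          rw [mul_inv_eq_iff_eq_mul]
          refine gl_ext_T i fun y z => ?_
          simp [app_kr, e]
        rw [← h1]
        refine mul_mem (mul_mem hg ?_) (inv_mem hg)
        rw [kr_nest]
        exact S.hO.slot _ C hC
      obtain ⟨l', c, -, h⟩ := G.exists_line_conj hk hb eC' (hres (by omega) l hmem)
      exact ⟨l', c, h⟩
    obtain ⟨p, hp, hpT⟩ := C7.exists_perm (F := F) (m := k) i l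
    rw [show g = p * kr i A B from gl_ext_T i fun y z => by
      rw [map_mul, LinearEquiv.mul_apply, app_kr, hpT, e]]
    exact mul_mem hp (kr_mem i hA B)

lemma unip_mem {X : (J k (t + 1) → F) →ₗ[F] (J k (t + 1) → F)} (h2 : ∀ x, X (X x) = 0)
    (h : InM M X) : C4.unip X ∈ M := by
  obtain ⟨g, hg, e⟩ := h
  rwa [show C4.unip X = g from gl_ext fun x => by rw [C4.unip_apply h2, e]]

/-- An overgroup that is not big lies in the wreath group. -/
theorem Scl.le_Wr (S : G.Scl M) (hres : 1 ≤ t → ∀ i, res i M ≤ Wr F k t) :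
    M ≤ Wr F k (t + 1) := by
  classical
  intro g hg
  have h22 := G.two
  have hO := S.hO
  have hk : 2 ≤ k := by rcases S.hk with h | h <;> omega
  have : Nonempty (Fin k) := ⟨⟨0, by omega⟩⟩
  obtain ⟨a, ha⟩ := exists_ne (0 : Fin k → F)
  obtain ⟨d, hd⟩ := G.exists_dual ha
  obtain ⟨p, hp⟩ := CharP.exists F
  have := Fact.mk ((CharP.char_is_prime_or_zero F p).resolve_right (CharP.char_ne_zero_of_finite F p))
  set i : Fin (t + 1) := 0
  obtain ⟨Ca, hCa, eCa0⟩ := G.exists_sr a a (G.alt a) 2⁻¹
  have eCa : ∀ z, app Ca z = z + G.nn a z := fun z => by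
    rw [eCa0, sy_self, LinearMap.smul_apply, smul_smul, inv_mul_cancel₀ h22, one_smul]
  have hroot : ∀ {w}, w ∈ M → w * kr i 1 Ca * w⁻¹ ∈ Wr F k (t + 1) → w ∈ Wr F k (t + 1) := by
    intro w hw h
    obtain ⟨l, c, hc, e⟩ := G.exists_line_conj hk ha eCa h
    exact S.mem_Wr_of_map hres hw ha hc e
  set A : Module.End F (J k (t + 1) → F) := op i LinearMap.id (G.nn a) with hA
  set C : Module.End F (J k (t + 1) → F) :=
    (app g).toLinearMap.comp (A.comp (app g⁻¹).toLinearMap) with hC
  have hCapp : ∀ x, C (app g x) = app g (A x) := fun x => by simp [hC, app_inv_app]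
  have hA2 : ∀ (j : Fin (t + 1)) (b : Fin k → F), (op j LinearMap.id (G.nn b) :
      Module.End F (J k (t + 1) → F)) * op j LinearMap.id (G.nn b) = 0 := fun j b =>
    LinearMap.ext fun x => by
      rw [Module.End.mul_apply, op_comp, show (G.nn b).comp (G.nn b) = 0 from LinearMap.ext (G.nn_sq b),
        op_zero_right]
  have hA2' : ∀ x, A (A x) = 0 := fun x => LinearMap.congr_fun (hA2 i a) x
  have hC2 : C * C = 0 := LinearMap.ext fun x => by
    obtain ⟨x, rfl⟩ := (app g).surjective x
    rw [Module.End.mul_apply, hCapp, hCapp, hA2']; simp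
  have hMA : ∀ (j : Fin (t + 1)) (b : Fin k → F) (c : F),
      C4.unip (c • (op j LinearMap.id (G.nn b) : Module.End F (J k (t + 1) → F))) ∈ M := fun j b c =>
    unip_mem (sq_smul (hA2 j b) c) (inM_nn hO j b c)
  have hMC : ∀ c : F, C4.unip (c • C) ∈ M := fun c => unip_mem (sq_smul hC2 c) (by
    have := (inM_nn hO i a c).conj hg
    rwa [LinearMap.smul_comp, LinearMap.comp_smul] at this)
  have hyC : g * kr i 1 Ca * g⁻¹ = C4.unip ((1 : F) • C) := gl_ext fun x => by
    obtain ⟨x, rfl⟩ := (app g).surjective x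
    rw [C4.unip_apply (sq_smul hC2 1), one_smul, hCapp, map_mul, map_mul, LinearEquiv.mul_apply,
      LinearEquiv.mul_apply, app_inv_app, ← map_add, app_kr_one_sl,
      show (app Ca).toLinearMap = LinearMap.id + G.nn a from LinearMap.ext eCa, sl_id_add]
    rfl
  -- a nilpotent pair
  have pcase : ∀ (j : Fin (t + 1)) (b : Fin k → F), b ≠ 0 → ∀ n,
      th (op j LinearMap.id (G.nn b) : Module.End F (J k (t + 1) → F)) C ^ n = 0 →
      g ∈ Wr F k (t + 1) := by
    intro j b hb n hn
    set A' : Module.End F (J k (t + 1) → F) := op j LinearMap.id (G.nn b) with hA'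
    set P := pairGrp A' C with hP
    have hPp : IsPGroup p P := pgroup_of_nilpotent p (hA2 j b) hC2 hn
    have hPM : P ≤ M := by
      rw [hP, pairGrp, Subgroup.closure_le]
      rintro _ (⟨c, rfl⟩ | ⟨c, rfl⟩)
      exacts [hMA j b c, hMC c]
    obtain ⟨Cb, -, eCb0⟩ := G.exists_sr b b (G.alt b) 2⁻¹
    have eCb : ∀ z, app Cb z = z + G.nn b z := fun z => by
      rw [eCb0, sy_self, LinearMap.smul_apply, smul_smul, inv_mul_cancel₀ h22, one_smul]
    have hrW : kr j 1 Cb ∈ Wr F k (t + 1) := kr_one_mem j Cb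
    have hrP : kr j 1 Cb ∈ P := by
      rw [show kr j 1 Cb = C4.unip ((1 : F) • A') from gl_ext fun x => by
        rw [C4.unip_apply (sq_smul (hA2 j b) 1), one_smul, app_kr_one_sl,
          show (app Cb).toLinearMap = LinearMap.id + G.nn b from LinearMap.ext eCb, sl_id_add]
        rfl]
      exact Subgroup.subset_closure (Or.inl ⟨1, rfl⟩)
    suffices hle : P ≤ Wr F k (t + 1) by
      refine hroot hg (hle ?_)
      rw [hyC]; exact Subgroup.subset_closure (Or.inr ⟨1, rfl⟩)
    have : Finite (GL (J k (t + 1)) F) := Finite.of_injective Units.val Units.val_injective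
    haveI := hPp.isNilpotent
    by_contra hle
    set U := (Wr F k (t + 1)).subgroupOf P with hU
    have hUtop : U < ⊤ := lt_top_iff_ne_top.2 fun e => hle (Subgroup.subgroupOf_eq_top.1 e)
    obtain ⟨w, hwN, hwU⟩ := Set.exists_of_ssubset (normalizerCondition_of_isNilpotent U hUtop)
    have hwr : (w : GL (J k (t + 1)) F) * kr j 1 Cb * (w : GL (J k (t + 1)) F)⁻¹ ∈ Wr F k (t + 1) :=
      ((Subgroup.mem_normalizer_iff.1 hwN) ⟨kr j 1 Cb, hrP⟩).1 hrW
    obtain ⟨l, c, hc, e⟩ := G.exists_line_conj hk hb eCb hwr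
    exact hwU (S.mem_Wr_of_map hres (hPM w.2) hb hc e)
  by_cases hnil : ∃ n, th A C ^ n = 0
  · obtain ⟨n, hn⟩ := hnil
    exact pcase i a ha n hn
  push Not at hnil
  have hAk : ∀ x, A x = T i (ct i (G.f a) x) a := fun x => by
    rw [hA, ← sl, show G.nn a = (G.f a).smulRight a from rfl, sl_smulRight]
  have hkerA : ∀ x, A x = 0 ↔ ct i (G.f a) x = 0 := fun x => by
    rw [hAk]
    exact ⟨fun h => (T_eq_zero h).resolve_right ha, fun h => by rw [h]; simp⟩
  have hAd : ∀ b, A (T i b d) = T i b a := fun b => by rw [hAk, ct_T, hd, one_smul]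
  rcases S.hk with hk2 | hk4
  · -- two dimensions
    obtain ⟨κ, hκ, hACA⟩ := exists_kappa p h22 (S.hq hk2) (hA2 i a) hC2 (hMA i a) hMC hnil
      fun q hq hin => by
        obtain ⟨c, hc⟩ := S.scal' (i := i) ha hin
          (fun x hx => by rw [Module.End.mul_apply, (hkerA x).2 hx, map_zero])
          (fun x => by
            rw [← hq.eq, Module.End.mul_apply, hAk]
            exact T_mem_Li _ _ _)
        exact ⟨c, hc⟩
    have hACA' : ∀ x, A (C (A x)) = κ • A x := fun x => LinearMap.congr_fun hACA x
    have hline1 : ∀ b, G.f a b = 0 → b ∈ F ∙ a := fun b hb => by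
      have hker : LinearMap.ker (G.f a) = F ∙ a := by
        refine (Submodule.eq_of_le_of_finrank_le
          ((Submodule.span_singleton_le_iff_mem _ _).2 (G.alt a)) ?_).symm
        have h1 := (G.f a).finrank_range_add_finrank_ker
        rw [LinearMap.range_eq_top.2 (LinearMap.surjective_of_ne_zero fun e => by simp [e] at hd)] at h1
        rw [finrank_span_singleton ha]
        simp [hk2] at h1
        omega
      exact hker ▸ hb
    have hkL : ∀ x, A x = 0 → ∃ u, A u = x := fun x hx => by
      obtain ⟨b, hb⟩ : x ∈ Li i a := mem_Li_of_perp fun y b hb => by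
        obtain ⟨c, rfl⟩ := Submodule.mem_span_singleton.1 (hline1 b hb)
        rw [map_smul, map_smul, LinearMap.smul_apply, B_ct, (hkerA x).1 hx, map_zero, smul_zero]
      exact ⟨T i b d, (hAd b).trans hb⟩
    have hkR : ∀ x, C x = 0 → ∃ v, C v = x := fun x hx => by
      obtain ⟨x, rfl⟩ := (app g).surjective x
      rw [hCapp, (app g).map_eq_zero_iff] at hx
      obtain ⟨u, hu⟩ := hkL x hx
      exact ⟨app g u, by rw [hCapp, hu]⟩
    have hinf : ∀ u v, A u = C v → A u = 0 := fun u v e => by
      have h := hACA' u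
      rw [e, show C (C v) = 0 from LinearMap.congr_fun hC2 v, map_zero] at h
      rw [e]
      exact (smul_eq_zero.1 h.symm).resolve_left hκ
    have hsum : ∀ x, ∃ u v, x = A u + C v := by
      have hrA : finrank F (LinearMap.range A) = k ^ t := by
        rw [show LinearMap.range A = Li i a from le_antisymm
          (by rintro _ ⟨x, rfl⟩; rw [hAk]; exact T_mem_Li _ _ _)
          (by rintro _ ⟨b, rfl⟩; exact ⟨_, hAd b⟩), finrank_Li i ha]
      have hrC : finrank F (LinearMap.range C) = k ^ t := by
        rw [show LinearMap.range C = (LinearMap.range A).map (app g).toLinearMap from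
          le_antisymm (by
            rintro _ ⟨x, rfl⟩
            obtain ⟨x, rfl⟩ := (app g).surjective x
            rw [hCapp]; exact ⟨_, ⟨x, rfl⟩, rfl⟩)
          (by rintro _ ⟨_, ⟨x, rfl⟩, rfl⟩; exact ⟨app g x, hCapp x⟩),
          LinearEquiv.finrank_map_eq, hrA]
      have hbot : LinearMap.range A ⊓ LinearMap.range C = ⊥ := by
        rw [eq_bot_iff]
        rintro _ ⟨⟨u, rfl⟩, ⟨v, hv⟩⟩
        rw [Submodule.mem_bot]; exact hinf u v hv.symm
      have htop : LinearMap.range A ⊔ LinearMap.range C = ⊤ := by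
        refine Submodule.eq_top_of_finrank_eq ?_
        have h := Submodule.finrank_sup_add_finrank_inf_eq (LinearMap.range A) (LinearMap.range C)
        rw [hbot, finrank_bot, hrA, hrC, add_zero] at h
        rw [h]
        simp [hk2, pow_succ]
        ring
      intro x
      obtain ⟨_, ⟨u, rfl⟩, _, ⟨v, rfl⟩, e⟩ :=
        Submodule.mem_sup.1 (htop.ge (Submodule.mem_top (x := x)))
      exact ⟨u, v, e.symm⟩
    have hCC : ∀ x, C (C x) = 0 := fun x => LinearMap.congr_fun hC2 x
    have hCAC : ∀ x, C (A (C x)) = κ • C x := fun x => by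
      obtain ⟨u, v, rfl⟩ := hsum x
      rw [map_add C, hCC, add_zero, hACA', map_smul]
    obtain ⟨s, hs0, hs1⟩ := QuadPair.exists_scalar (k := F) (fun e => h22 (by
      have := ringChar.Nat.cast_ringChar (R := F); rw [e] at this; exact_mod_cast this))
      (by rw [Nat.card_eq_fintype_card]; exact S.hq hk2)
    set W : F → GL (J k (t + 1)) F :=
      fun r => C4.unip (r • A) * C4.unip ((-(r * κ)⁻¹) • C) * C4.unip (r • A) with hW
    have hWM : ∀ r, W r ∈ M := fun r => mul_mem (mul_mem (hMA i a r) (hMC _)) (hMA i a r)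
    have hA2A : A * A = 0 := hA2 i a
    have hWA : ∀ r u, r ≠ 0 → app (W r) (A u) = (-(r * κ)⁻¹) • C (A u) := fun r u hr => by
      simp only [hW, map_mul, LinearEquiv.mul_apply, C4.unip_apply (sq_smul hA2A r),
        C4.unip_apply (sq_smul hC2 _), LinearMap.smul_apply, hA2', smul_zero, add_zero]
      simp only [map_add, map_smul, hA2', hACA', smul_zero, add_zero, zero_add]
      match_scalars <;> field_simp <;> ring
    have hWC : ∀ r v, r ≠ 0 → app (W r) (C v) = r • A (C v) := fun r v hr => by
      simp only [hW, map_mul, LinearEquiv.mul_apply, C4.unip_apply (sq_smul hA2A r),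
        C4.unip_apply (sq_smul hC2 _), LinearMap.smul_apply, hA2', hCC, smul_zero, add_zero]
      simp only [map_add, map_smul, hA2', hCC, hCAC, smul_zero, add_zero, zero_add]
      match_scalars <;> field_simp <;> ring
    set h := W s * W (-1) with hh
    have hhA : ∀ u, app h (A u) = s • A u := fun u => by
      rw [hh, map_mul, LinearEquiv.mul_apply, hWA _ u (neg_ne_zero.2 one_ne_zero), map_smul,
        hWC s _ hs0, hACA', smul_smul, smul_smul]
      congr 1
      field_simp
    have hhC : ∀ v, app h (C v) = s⁻¹ • C v := fun v => by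
      rw [hh, map_mul, LinearEquiv.mul_apply, hWC _ v (neg_ne_zero.2 one_ne_zero), map_smul,
        hWA s _ hs0, hCAC, smul_smul, smul_smul]
      congr 1
      field_simp
    obtain ⟨Ah, Bh, eh⟩ := S.exists_decomp (mul_mem (hWM s) (hWM (-1))) (i := i) (l := i) ha ha
      (fun b => by rw [← hh, ← hAd b, hhA]; exact Submodule.smul_mem _ _ (hAd b ▸ T_mem_Li i b a))
    obtain ⟨y₀, hy₀⟩ := exists_ne (0 : J k t → F)
    have hha : ∀ b, T i (app Ah b) (app Bh a) = T i (s • b) a := fun b => by
      rw [← eh, ← hh, ← hAd b, hhA, hAd, map_smul, LinearMap.smul_apply]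
    have hBa : app Bh a ≠ 0 := fun e => ha ((app Bh).map_eq_zero_iff.1 e)
    obtain ⟨β, hβ⟩ := Submodule.mem_span_singleton.1 (mem_span_of_T_eq
      (show app Ah y₀ ≠ 0 from fun e => hy₀ ((app Ah).map_eq_zero_iff.1 e)) (hha y₀))
    have hβ0 : β ≠ 0 := fun e => hBa (by rw [← hβ, e, zero_smul])
    have hAh : ∀ b, app Ah b = (s / β) • b := fun b => by
      have h1 := hha b
      rw [← hβ, map_smul, ← LinearMap.smul_apply, ← map_smul] at h1
      rw [div_eq_inv_mul, ← smul_smul, ← T_inj_left ha h1, inv_smul_smul₀ hβ0]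
    set N : (Fin k → F) →ₗ[F] (Fin k → F) :=
      (s / β) • (app Bh).toLinearMap - s⁻¹ • LinearMap.id with hN
    have hNa : N a = (s - s⁻¹) • a := by
      simp [hN, ← hβ, smul_smul, div_mul_cancel₀ _ hβ0, sub_smul]
    have hslN : ∀ x, sl i N x = app h x - s⁻¹ • x := fun x =>
      LinearMap.congr_fun (lin_ext i (f := sl i N)
        (g := (app h).toLinearMap - s⁻¹ • LinearMap.id) fun y z => by
          simp only [sl_T, LinearMap.sub_apply, LinearMap.smul_apply, LinearMap.id_apply,
            LinearEquiv.coe_coe]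
          rw [hh, eh, hAh, hN]
          simp) x
    have hR : ∀ v, sl i N (C v) = 0 := fun v => by rw [hslN, hhC, sub_self]
    have hgR : ∀ y, C (app g (T i y d)) = app g (T i y a) := fun y => by rw [hCapp, hAd]
    have hss : s - s⁻¹ ≠ 0 := fun e => hs1 (by field_simp at e; linear_combination e)
    obtain ⟨γ, hγ⟩ := C7.exists_dual ha
    set μ : (Fin k → F) →ₗ[F] F := (s - s⁻¹)⁻¹ • γ.comp N with hμ
    have hμa : μ a = 1 := by simp [hμ, hNa, hγ, hss]
    obtain ⟨c, hc0, hcN⟩ : ∃ c, c ≠ 0 ∧ N c = 0 := by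
      by_contra! hh'
      have hinj : Function.Injective N := (injective_iff_map_eq_zero N).2 fun x hx => by
        by_contra hx0; exact hh' x hx0 hx
      obtain ⟨e', -⟩ := C7.exists_gl N hinj
      have h1 := hR (app g (T i y₀ d))
      rw [hgR] at h1
      obtain ⟨X, hX⟩ := C7.exists_gl N hinj
      have h2 : app (kr i (1 : GL (J k t) F) X) (app g (T i y₀ a)) = 0 := by
        rw [app_kr_one_sl, show (app X).toLinearMap = N from LinearMap.ext hX, h1]
      exact (T_eq_zero ((app g).map_eq_zero_iff.1 ((app (kr i 1 X)).map_eq_zero_iff.1 h2))).elim hy₀ ha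
    have hac : ∀ z, ∃ p q : F, z = p • a + q • c := fun z => by
      have hca : c ∉ F ∙ a := fun hm => by
        obtain ⟨e, rfl⟩ := Submodule.mem_span_singleton.1 hm
        rw [map_smul, hNa, smul_smul] at hcN
        exact (smul_eq_zero.1 hcN).elim (fun h => hc0 (by
          rcases mul_eq_zero.1 h with h | h
          · rw [h, zero_smul]
          · exact absurd h hss)) ha
      have htop : (F ∙ a) ⊔ (F ∙ c) = ⊤ := by
        refine Submodule.eq_top_of_finrank_eq ?_
        rw [Submodule.finrank_sup_span_singleton hca, finrank_span_singleton ha]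
        simp [hk2]
      obtain ⟨_, hp', _, hq', e⟩ := Submodule.mem_sup.1 (htop.ge (Submodule.mem_top (x := z)))
      obtain ⟨p', rfl⟩ := Submodule.mem_span_singleton.1 hp'
      obtain ⟨q', rfl⟩ := Submodule.mem_span_singleton.1 hq'
      exact ⟨p', q', e.symm⟩
    refine S.mem_Wr_of_map hres hg (i := i) (l := i) ha hc0 fun y => mem_Li_of_ct fun α hα => ?_
    have hαμ : α = α a • μ := LinearMap.ext fun z => by
      obtain ⟨p', q', rfl⟩ := hac z
      have hμc : μ c = 0 := by simp [hμ, hcN]
      simp [hα, hμa, hμc, mul_comm]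
    rw [hαμ, ct_smul]
    suffices h0 : ct i μ (app g (T i y a)) = 0 by rw [h0, smul_zero]
    have e : ∀ x, ct i μ x = (s - s⁻¹)⁻¹ • ct i γ (sl i N x) := fun x =>
      LinearMap.congr_fun (lin_ext i (f := ct i μ) (g := (s - s⁻¹)⁻¹ • (ct i γ).comp (sl i N))
        fun y z => by simp [hμ, smul_smul]) x
    rw [e, ← hgR, hR, map_zero, smul_zero]
  · -- four or more dimensions
    obtain ⟨z, hzM, hz1, hzz, hzA, hzC, hmod, hboth⟩ := exists_invol p h22 (hA2 i a) hC2 (hMA i a)
      hMC hnil
    obtain ⟨Az, Bz, ez⟩ := S.exists_decomp hzM (i := i) (l := i) ha ha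
      (fun b => by rw [← hAd b, hzA, hAk]; exact T_mem_Li _ _ _)
    obtain ⟨y₀, hy₀⟩ := exists_ne (0 : J k t → F)
    obtain ⟨q, hqa, hq⟩ : ∃ q, G.f a q = 0 ∧ q ∉ F ∙ a := by
      by_contra! hh
      have hle : LinearMap.ker (G.f a) ≤ F ∙ a := fun b hb => hh b hb
      have h1 := Submodule.finrank_mono hle
      have h2 := (G.f a).finrank_range_add_finrank_ker
      have h3 := Submodule.finrank_le (LinearMap.range (G.f a))
      rw [finrank_span_singleton ha] at h1
      simp at h2 h3
      omega
    have hmodT : ∀ y b, G.f a b = 0 → T i (app Az y) (app Bz b) - T i y b ∈ Li i a := fun y b hb => by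
      rw [← ez]
      have := hmod (T i y b) ((hkerA _).2 (by simp [hb]))
      rwa [show LinearMap.range A = Li i a from le_antisymm
        (by rintro _ ⟨x, rfl⟩; rw [hAk]; exact T_mem_Li _ _ _)
        (by rintro _ ⟨b, rfl⟩; exact ⟨_, hAd b⟩)] at this
    obtain ⟨α, hα1, hα2⟩ := Submodule.exists_le_ker_of_notMem hq
    have hαa : α a = 0 := hα2 (Submodule.mem_span_singleton_self a)
    have hAz : ∀ y, α (app Bz q) • app Az y = α q • y := fun y => by
      have h1 := ct_Li hαa (hmodT y q hqa)
      rw [map_sub, ct_T, ct_T, sub_eq_zero] at h1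
      exact h1
    have hαB : α (app Bz q) ≠ 0 := fun e => by
      have h1 := hAz y₀
      rw [e, zero_smul] at h1
      exact (smul_eq_zero.1 h1.symm).elim hα1 hy₀
    set B : (Fin k → F) →ₗ[F] (Fin k → F) := ((α (app Bz q))⁻¹ * α q) • (app Bz).toLinearMap with hB
    have hzB : ∀ x, app z x = sl i B x := fun x =>
      LinearMap.congr_fun (lin_ext i (f := (app z).toLinearMap) (g := sl i B) fun y v => by
        rw [LinearEquiv.coe_coe, ez, sl_T, hB, LinearMap.smul_apply, map_smul,
          ← LinearMap.smul_apply, ← map_smul, LinearEquiv.coe_coe, ← smul_smul, ← hAz,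
          inv_smul_smul₀ hαB]) x
    have hTB : ∀ y v, app z (T i y v) = T i y (B v) := fun y v => by rw [hzB, sl_T]
    have hB2 : ∀ v, B (B v) = v := fun v => T_inj_right hy₀ (i := i) (by
      rw [← hTB, ← hTB, hzz])
    have hBmod : ∀ b, G.f a b = 0 → B b - b ∈ F ∙ a := fun b hb => by
      have h1 : T i y₀ (B b - b) ∈ Li i a := by
        rw [map_sub, ← hTB, ez]; exact hmodT y₀ b hb
      obtain ⟨b', hb'⟩ := h1
      exact mem_span_of_T_eq hy₀ hb'.symm
    have hBa : B a ∈ F ∙ a := by
      have := Submodule.add_mem _ (hBmod a (G.alt a)) (Submodule.mem_span_singleton_self a)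
      simpa using this
    obtain ⟨β, hβ⟩ := Submodule.mem_span_singleton.1 hBa
    have hBiso : ∀ u v, G.f (B u) (B v) = G.f u v := fun u v => by
      obtain ⟨y₁, hy₁⟩ : ∃ y₁, G.B t y₀ y₁ ≠ 0 := by by_contra! hh; exact hy₀ (G.nd_B _ hh)
      have h1 := hO.le hzM (T i y₀ u) (T i y₁ v)
      rw [hTB, hTB, B_T, B_T] at h1
      exact mul_left_cancel₀ hy₁ h1
    have hβ2 : β * β = 1 := by
      have h1 : (β * β) • a = (1 : F) • a := by
        rw [one_smul]; conv_rhs => rw [← hB2 a, ← hβ, map_smul, ← hβ, smul_smul]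
      exact smul_left_injective F ha h1
    rcases mul_self_eq_one_iff.1 hβ2 with rfl | rfl
    · exfalso
      rw [one_smul] at hβ
      have hfix : ∀ b, G.f a b = 0 → B b = b := fun b hb => by
        obtain ⟨c, hc⟩ := Submodule.mem_span_singleton.1 (hBmod b hb)
        have h1 : B b = b + c • a := by rw [hc]; abel
        have h2 := hB2 b
        rw [h1, map_add, map_smul, h1, ← hβ] at h2
        have h3 : (2 * c) • a = 0 := by linear_combination (norm := module) h2
        rw [(mul_eq_zero.1 ((smul_eq_zero.1 h3).resolve_right ha)).resolve_left h22, zero_smul,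
          add_zero] at h1
        exact h1
      obtain ⟨c, hc⟩ := Submodule.mem_span_singleton.1 (perp_perp (G := G) ha
        (b := B d - d) fun b hb => by
          rw [map_sub, LinearMap.sub_apply]
          conv_lhs => arg 1; rw [← hfix b hb, hBiso]
          rw [sub_self])
      have hd1 : B d = d + c • a := by rw [hc]; abel
      have h2 := hB2 d
      rw [hd1, map_add, map_smul, hd1, ← hβ] at h2
      have h3 : (2 * c) • a = 0 := by linear_combination (norm := module) h2
      rw [(mul_eq_zero.1 ((smul_eq_zero.1 h3).resolve_right ha)).resolve_left h22, zero_smul,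
        add_zero] at hd1
      refine hz1 (gl_ext fun x => ?_)
      rw [hzB, map_one, LinearEquiv.coe_one, id_eq]
      refine LinearMap.congr_fun (lin_ext i (f := sl i B) (g := LinearMap.id) fun y v => ?_) x
      rw [sl_T, LinearMap.id_apply]
      congr 1
      have e : v = (v - G.f a v • d) + G.f a v • d := by abel
      conv_lhs => rw [e, map_add, map_smul, hd1, hfix _ (by simp [hd]), ← e]
    · have hzL : ∀ u, app z (A u) = -A u := fun u => by
        rw [hAk, hTB, ← hβ, neg_one_smul, map_neg]
      have hinj : ∀ u, C (A u) = 0 → A u = 0 := fun u hu => by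
        have h1 := hboth _ (hA2' u) hu
        rw [hzL] at h1
        have h2 : (2 : F) • A u = 0 := by linear_combination (norm := module) -h1
        exact (smul_eq_zero.1 h2).resolve_left h22
      have hCL : ∀ x, ∃ u, C (A u) = C x := by
        let f₀ : LinearMap.range A →ₗ[F] LinearMap.range C :=
          C.rangeRestrict.comp (LinearMap.range A).subtype
        have hf : Function.Injective f₀ := (injective_iff_map_eq_zero f₀).2 fun x hx => by
          obtain ⟨_, u, rfl⟩ := x
          exact Subtype.ext (hinj u (congrArg Subtype.val hx))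
        have hle : finrank F (LinearMap.range C) ≤ finrank F (LinearMap.range A) := by
          rw [show LinearMap.range C = (LinearMap.range A).map (app g).toLinearMap from le_antisymm
            (by
              rintro _ ⟨x, rfl⟩
              obtain ⟨x, rfl⟩ := (app g).surjective x
              rw [hCapp]; exact ⟨_, ⟨x, rfl⟩, rfl⟩)
            (by rintro _ ⟨_, ⟨x, rfl⟩, rfl⟩; exact ⟨app g x, hCapp x⟩),
            LinearEquiv.finrank_map_eq]
        have hs : Function.Surjective f₀ := by
          rw [← LinearMap.range_eq_top]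
          refine Submodule.eq_top_of_finrank_eq (le_antisymm (Submodule.finrank_le _) ?_)
          rw [LinearMap.finrank_range_of_inj hf]; exact hle
        intro x
        obtain ⟨⟨_, u, rfl⟩, hu⟩ := hs ⟨C x, x, rfl⟩
        exact ⟨u, congrArg Subtype.val hu⟩
      have hzR : ∀ x, app z (C x) = -C x := fun x => by
        obtain ⟨u, hu⟩ := hCL x
        rw [← hu, hzC, hzL, map_neg]
      obtain ⟨a₂, ha₂, ha₂a, ha₂d⟩ : ∃ a₂, a₂ ≠ 0 ∧ G.f a₂ a = 0 ∧ G.f a₂ (B d - d) = 0 := by
        set φ := ((G.f.flip a).prod (G.f.flip (B d - d))) with hφ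
        by_contra! hh
        have hle : LinearMap.ker φ = ⊥ := LinearMap.ker_eq_bot'.2 fun w hw => by
          by_contra hw0; exact hh w hw0 (congrArg Prod.fst hw) (congrArg Prod.snd hw)
        have h1 := φ.finrank_range_add_finrank_ker
        have h2 := Submodule.finrank_le (LinearMap.range φ)
        rw [hle, finrank_bot] at h1
        simp at h1 h2
        omega
      have hkill : ∀ v, G.f a₂ (B v - v) = 0 := fun v => by
        have e : v = (v - G.f a v • d) + G.f a v • d := by abel
        obtain ⟨c, hc⟩ := Submodule.mem_span_singleton.1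
          (hBmod (v - G.f a v • d) (by simp [hd]))
        have e2 : B v - v = c • a + G.f a v • (B d - d) := by
          conv_lhs => rw [e, map_add, map_smul]
          rw [hc]; module
        rw [e2, map_add, map_smul, map_smul, ha₂a, ha₂d, smul_zero, smul_zero, add_zero]
      have hctC : ∀ x, ct i (G.f a₂) (C x) = 0 := fun x => by
        have e : ∀ w, ct i (G.f a₂) (app z w - w) = 0 := fun w =>
          LinearMap.congr_fun (lin_ext i
            (f := (ct i (G.f a₂)).comp ((app z).toLinearMap - LinearMap.id)) (g := 0) fun y v => by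
              rw [LinearMap.comp_apply, LinearMap.sub_apply, LinearEquiv.coe_coe, LinearMap.id_apply,
                hTB, ← map_sub (T i y), ct_T, hkill, zero_smul, LinearMap.zero_apply]) w
        have h1 := e (C x)
        rw [hzR, show -C x - C x = (-2 : F) • C x by module, map_smul] at h1
        exact (smul_eq_zero.1 h1).resolve_left (fun h => h22 (by linear_combination -h))
      set A₂ : Module.End F (J k (t + 1) → F) := op i LinearMap.id (G.nn a₂) with hA₂
      have hA₂k : ∀ x, A₂ x = T i (ct i (G.f a₂) x) a₂ := fun x => by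
        rw [hA₂, ← sl, show G.nn a₂ = (G.f a₂).smulRight a₂ from rfl, sl_smulRight]
      have hskA : G.Adj (t + 1) A (-A) := fun u v => by
        have h := Adj.op (G := G) (i := i) (A := LinearMap.id) (A' := LinearMap.id)
          (fun u v => rfl) (G.nn_skew a) u v
        rw [show op i LinearMap.id (-G.nn a) = -A from lin_ext i fun u v => by simp [hA]] at h
        exact h
      have hskC : ∀ u v, G.B (t + 1) (C u) v = -G.B (t + 1) u (C v) := fun u v => by
        obtain ⟨u, rfl⟩ := (app g).surjective u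
        obtain ⟨v, rfl⟩ := (app g).surjective v
        rw [hCapp, hCapp, hO.le hg, hO.le hg, hskA, LinearMap.neg_apply, map_neg]
      refine pcase i a₂ ha₂ 1 (LinearMap.ext fun x => ?_)
      rw [pow_one, ← hA₂]
      show A₂ (C x) + C (A₂ x) = 0
      rw [hA₂k, hctC, map_zero, LinearMap.zero_apply, zero_add, hA₂k]
      refine G.nd_B _ fun v => ?_
      rw [hskC, B_ct, hctC, map_zero, neg_zero]

/-- Big in one restriction gives big in all. -/
lemma big_res_transport (hO : G.Ovg M) (h3 : 3 ≤ t + 1) {i i' : Fin (t + 1)}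
    (h : G.Big (res i M)) {X : (J k t → F) →ₗ[F] (J k t → F)} (hX : G.Adj t X (-X))
    (h2 : ∀ x, X (X x) = 0) : InM M (op i' X LinearMap.id) := by
  obtain ⟨σ, hσ, hσi⟩ := exists_even h3 i i'
  obtain ⟨g, hg, eg⟩ := G.exists_perm σ
  have hgM := hO.perm σ g hσ hg
  choose τ hτ using fun j => Fin.exists_succAbove_eq
    (show σ (i.succAbove j) ≠ i' from fun e => i.succAbove_ne j (σ.injective (e.trans hσi.symm)))
  have hτi : Function.Injective τ := fun p q e => Fin.succAbove_right_injective
    (σ.injective (by rw [← hτ p, ← hτ q, e]))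
  set τ' := Equiv.ofBijective τ (Finite.injective_iff_bijective.1 hτi)
  obtain ⟨P, -, eP⟩ := G.exists_perm (F := F) τ'
  have hPiso : P ∈ G.isoGrp t := fun x y =>
    LinearMap.congr_fun (LinearMap.congr_fun (ext_pr₂
      (L := ((G.B t).comp (app P).toLinearMap).compl₂ (app P).toLinearMap) (L' := G.B t) fun p q => by
        simp only [LinearMap.compl₂_apply, LinearMap.comp_apply, LinearEquiv.coe_coe, eP, B_pr]
        exact Equiv.prod_comp τ'⁻¹ fun l => G.f (p l) (q l)) x) y
  have hgT : ∀ y u, app g (T i y u) = T i' (app P y) u := fun y u =>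
    LinearMap.congr_fun (ext_pr (L := (app g).toLinearMap.comp ((T i).flip u))
      (L' := ((T i').flip u).comp (app P).toLinearMap) fun p => by
        simp only [LinearMap.comp_apply, LinearEquiv.coe_coe, LinearMap.flip_apply, eP, T_pr', eg]
        congr 1
        funext l
        obtain rfl | ⟨m, rfl⟩ := i'.eq_self_or_eq_succAbove l
        · rw [Function.comp_apply, ← hσi, Equiv.Perm.coe_inv, Equiv.symm_apply_apply,
            Fin.insertNth_apply_same, hσi, Fin.insertNth_apply_same]
        · obtain ⟨m', rfl⟩ := τ'.surjective m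
          rw [Function.comp_apply, Fin.insertNth_apply_succAbove, Function.comp_apply,
            Equiv.Perm.coe_inv, Equiv.Perm.coe_inv, Equiv.symm_apply_apply]
          show _ = p m'
          rw [show i'.succAbove (τ' m') = σ (i.succAbove m') from hτ m', Equiv.symm_apply_apply,
            Fin.insertNth_apply_succAbove]) y
  set X0 := (app P⁻¹).toLinearMap.comp (X.comp (app P).toLinearMap) with hX0
  have hadj : G.Adj t X0 (-X0) := fun u v => by
    simp only [hX0, LinearMap.comp_apply, LinearEquiv.coe_coe, LinearMap.neg_apply, map_neg]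
    rw [iso_inv_left hPiso, hX, LinearMap.neg_apply, map_neg,
      ← hPiso u (app P⁻¹ (X (app P v))), app_app_inv]
  have hsq : ∀ x, X0 (X0 x) = 0 := fun x => by simp [hX0, app_app_inv, h2]
  have := (InM.lift (h.inM hadj hsq)).conj hgM
  convert this using 1
  refine lin_ext i' fun y u => ?_
  obtain ⟨y, rfl⟩ := (app P).surjective y
  rw [op_T, LinearMap.comp_apply, LinearMap.comp_apply, LinearEquiv.coe_coe, LinearEquiv.coe_coe,
    ← hgT y u, app_inv_app, op_T, hgT]
  simp [hX0, app_app_inv]

/-- Every overgroup lies in the wreath group or is big. -/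
theorem maxl (G : Fm F k) (hk : k = 2 ∨ 4 ≤ k) (hq : k = 2 → Fintype.card F ≠ 3) :
    ∀ t, G.Maxl t := by
  intro t
  induction t with
  | zero => exact fun M _ => .inl fun g _ => C7.mem_Wr_one g
  | succ r ih =>
    intro M hO
    by_cases hbig : G.Big M ∧ ¬ (k = 2 ∧ r + 1 = 1)
    · exact .inr hbig
    refine .inl (Scl.le_Wr ⟨hO, hk, hq, fun r' e => ?_, hbig⟩ fun _ i => ?_)
    · obtain rfl : r = r' := by omega
      exact ih
    rcases Nat.eq_zero_or_pos r with rfl | hr
    · exact fun g _ => C7.mem_Wr_one g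
    refine (ih _ (hO.res (by omega) i)).resolve_right fun h => hbig ⟨?_, fun hh => by omega⟩
    refine big_of_res hO hr (by omega) (fun hr1 => ?_) fun i' X hX h2 =>
      big_res_transport hO (by omega) h.1 hX h2
    rcases hk with hk | hk
    · exact absurd ⟨hk, hr1⟩ h.2
    · exact hk

end Fm

end Cfsg.Agent.C7F
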