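import Cfsg.Agent.Lib.C7F.Base

/-!
# Elements of an overgroup moving pure tensors

* `exists_sr` : the unipotents `1 + c sy a x` of one position
* `exists_move` : position groups move non-zero vectors
* `exists_perm` : permutations of the positions
-/

set_option autoImplicit false
set_option linter.unusedSectionVars false

namespace Cfsg.Agent.C7F

open Matrix Module Cfsg.Agent.Transvect Cfsg.Agent.C7
open scoped MatrixGroups

attribute [-simp] app_apply

variable {F : Type*} [Field F] {k t : ℕ}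

namespace Fm

variable (G : Fm F k)

lemma exists_sr (a x : Fin k → F) (h : G.f a x = 0) (c : F) :
    ∃ C : GL (Fin k) F, (∀ u v, G.f (app C u) (app C v) = G.f u v) ∧
      ∀ z, app C z = z + c • G.sy a x z := by
  refine ⟨C4.unip (c • G.sy a x), ?_, ?_⟩
  all_goals
    have hsq : ∀ z, (c • G.sy a x) ((c • G.sy a x) z) = 0 := fun z => by
      rw [LinearMap.smul_apply, LinearMap.smul_apply, map_smul, G.sy_sq h]; simp
  · intro u v
    rw [C4.unip_apply hsq, C4.unip_apply hsq]
    simp only [map_add, LinearMap.add_apply, LinearMap.smul_apply, map_smul, smul_eq_mul,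
      G.sy_skew a x u, LinearMap.neg_apply, map_neg, G.sy_sq h]
    simp
    ring
  · intro z; rw [C4.unip_apply hsq]; rfl

lemma exists_both {u v : Fin k → F} (hu : u ≠ 0) (hv : v ≠ 0) :
    ∃ z, G.f u z ≠ 0 ∧ G.f v z ≠ 0 := by
  obtain ⟨x, hx⟩ := G.exists_dual hu
  obtain ⟨y, hy⟩ := G.exists_dual hv
  by_cases h : G.f v x = 0
  · by_cases h' : G.f u y = 0
    · exact ⟨x + y, by simp [hx, h'], by simp [h, hy]⟩
    · exact ⟨y, h', by rw [hy]; exact one_ne_zero⟩
  · exact ⟨x, by rw [hx]; exact one_ne_zero, h⟩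

lemma exists_move {u v : Fin k → F} (hu : u ≠ 0) (hv : v ≠ 0) :
    ∃ C : GL (Fin k) F, (∀ x y, G.f (app C x) (app C y) = G.f x y) ∧ app C u = v := by
  have one : ∀ u v, G.f v u ≠ 0 → ∃ C : GL (Fin k) F,
      (∀ x y, G.f (app C x) (app C y) = G.f x y) ∧ app C u = v := fun u v h => by
    obtain ⟨C, hC, e⟩ := G.exists_sr (v - u) ((2⁻¹ * (G.f v u)⁻¹) • (v - u)) (by simp [G.alt, G.skew u v]) 1
    refine ⟨C, hC, ?_⟩
    have h2 := G.two
    rw [e]
    simp [G.alt]
    match_scalars <;> field_simp <;> ring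
  obtain ⟨z, hz, hz'⟩ := G.exists_both hu hv
  obtain ⟨C, hC, e⟩ := one u z fun h => hz (G.zero_comm h)
  obtain ⟨C', hC', e'⟩ := one z v hz'
  exact ⟨C' * C, fun x y => by simp only [map_mul, LinearEquiv.mul_apply, hC', hC],
    by rw [map_mul, LinearEquiv.mul_apply, e, e']⟩

lemma kr_one_iso (i : Fin (t + 1)) {C : GL (Fin k) F}
    (hC : ∀ u v, G.f (app C u) (app C v) = G.f u v) : kr i 1 C ∈ G.isoGrp (t + 1) :=
  fun x y => G.kr_iso (fun a b => by simp) hC x y

lemma app_kr_one_pr (i : Fin (t + 1)) (C : GL (Fin k) F) (p : Fin (t + 1) → Fin k → F) :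
    app (kr i 1 C) (pr p) = pr (Function.update p i (app C (p i))) := by
  conv_lhs => rw [← T_pr i p]
  rw [app_kr, map_one, LinearEquiv.coe_one, id_eq, T_pr']
  congr 1
  funext l
  obtain rfl | ⟨j, rfl⟩ := i.eq_self_or_eq_succAbove l <;> simp

lemma exists_perm (σ : Equiv.Perm (Fin t)) :
    ∃ g : GL (J k t) F, G.IsPerm σ g ∧ ∀ p, app g (pr p) = pr (p ∘ ⇑σ⁻¹) := by
  obtain ⟨g, hg⟩ := C7.exists_gl (F := F) (LinearMap.funLeft F F fun x : J k t => x ∘ ⇑σ)
    (LinearMap.funLeft_injective_of_surjective F F _ fun x => ⟨x ∘ ⇑σ⁻¹, funext fun i => by simp⟩)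
  refine ⟨g, fun x y => ?_, fun p => ?_⟩
  · have := congrFun (hg (Pi.single y 1)) x
    simp [app_apply, Pi.single_apply] at this
    rw [this]; exact if_congr eq_comm rfl rfl
  · rw [hg]
    funext x
    simp only [LinearMap.funLeft_apply, pr, Function.comp_apply]
    exact Fintype.prod_equiv σ _ _ fun i => by simp

lemma exists_even {n : ℕ} (hn : 3 ≤ n) (i l : Fin n) :
    ∃ σ : Equiv.Perm (Fin n), Equiv.Perm.sign σ = 1 ∧ σ i = l := by
  rcases eq_or_ne i l with rfl | hil
  · exact ⟨1, map_one _, rfl⟩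
  obtain ⟨m, hm⟩ : ∃ m, m ∉ ({i, l} : Finset (Fin n)) := by
    by_contra! h
    have h' : (Finset.univ : Finset (Fin n)) ⊆ {i, l} := fun x _ => h x
    have := (Finset.card_le_card h').trans (Finset.card_le_two)
    simp at this; omega
  simp at hm
  refine ⟨Equiv.swap i l * Equiv.swap l m, ?_, ?_⟩
  · rw [map_mul, Equiv.Perm.sign_swap hil, Equiv.Perm.sign_swap (Ne.symm hm.2)]; norm_num
  · rw [Equiv.Perm.mul_apply, Equiv.swap_apply_of_ne_of_ne hil (Ne.symm hm.1), Equiv.swap_apply_left]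

end Fm

end Cfsg.Agent.C7F
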