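import Cfsg.Agent.Lib.C7F.Restrict
import Cfsg.Agent.Lib.C7F.GenSymp
import Cfsg.Agent.Lib.C7F.GenOrth

/-!
# A non-scalar root operator makes the group big

* `Fm.big_of_pattern` : a pure root operator with two non-trivial factors
* `Fm.big_of_nonscalar` : `1 + K ⊗ nn a ∈ M`, `K` not scalar
-/

set_option autoImplicit false
set_option linter.unusedSectionVars false

namespace Cfsg.Agent.C7F

open Matrix Module Cfsg.Agent.Transvect Cfsg.Agent.C7
open scoped MatrixGroups
open Cfsg.Agent.Orth (IsoGrp eich ap)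

attribute [-simp] app_apply

variable {F : Type*} [Field F] [Fintype F] {k t : ℕ}

lemma pr_ne_zero {p : Fin t → Fin k → F} (h : ∀ l, p l ≠ 0) : pr p ≠ 0 := fun e => by
  choose g hg using fun l => Function.ne_iff.1 (h l)
  exact Finset.prod_ne_zero_iff.2 (fun l _ => hg l) (congrFun e g)

lemma pr_eq_zero {p : Fin t → Fin k → F} (l : Fin t) (h : p l = 0) : pr p = 0 :=
  funext fun g => Finset.prod_eq_zero (Finset.mem_univ l) (by simp [h])

lemma pr_smul_fn (c : Fin t → F) (v : Fin t → Fin k → F) :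
    pr (fun l => c l • v l) = (∏ l, c l) • pr v := funext fun g => by
  simp [pr, Finset.prod_mul_distrib]

lemma pt_eq_zero {E : Fin t → (Fin k → F) →ₗ[F] (Fin k → F)} (l : Fin t) (h : E l = 0) :
    pt E = 0 := Fm.ext_pr fun p => by
  rw [pt_pr, pr_eq_zero l (by simp [h])]; rfl

lemma T_swap (a : J k t → F) (u v : Fin k → F) :
    T (0 : Fin (t + 1)).succ (T 0 a u) v = T 0 (T 0 a v) u := by
  funext f
  simp [T_apply]
  ring

lemma op_swap (A : (J k t → F) →ₗ[F] (J k t → F)) (D E : (Fin k → F) →ₗ[F] (Fin k → F)) :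
    op (0 : Fin (t + 1)).succ (op 0 A D) E = op 0 (op 0 A E) D := by
  refine lin_ext 0 fun z v => ?_
  rw [op_T]
  have : ((op (0 : Fin (t + 1)).succ (op 0 A D) E).comp ((T 0).flip v)) =
      ((T 0).flip (D v)).comp (op 0 A E) := lin_ext 0 fun a u => by
    simp [← T_swap]
  exact LinearMap.congr_fun this z

lemma op_comp_eq (i : Fin (t + 1)) (A A' : (J k t → F) →ₗ[F] (J k t → F))
    (D D' : (Fin k → F) →ₗ[F] (Fin k → F)) :
    (op i A D).comp (op i A' D') = op i (A.comp A') (D.comp D') :=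
  LinearMap.ext fun x => op_comp i A A' D D' x

/-- The second differences of an operator set. -/
def VS (M : Subgroup (GL (J k (t + 1)) F)) (s : Fin (t + 1))
    (N : (Fin k → F) →ₗ[F] (Fin k → F)) : Set ((J k t → F) →ₗ[F] (J k t → F)) :=
  {L | InM M (op s L N)}

namespace Fm

variable {G : Fm F k} {M : Subgroup (GL (J k (t + 1)) F)}

lemma Shape.sq {E : (Fin k → F) →ₗ[F] (Fin k → F)} (h : G.Shape E) (hne : E ≠ LinearMap.id) :
    ∀ z, E (E z) = 0 := by
  rcases h with rfl | ⟨a, -, rfl⟩ | ⟨a, x, -, -, hax, rfl⟩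
  · exact absurd rfl hne
  · exact G.nn_sq a
  · exact G.au_sq hax

lemma Shape.ne_zero (hk : 1 ≤ k) {E : (Fin k → F) →ₗ[F] (Fin k → F)} (h : G.Shape E) : E ≠ 0 :=
  fun e => by
  rcases h with rfl | ⟨a, ha, rfl⟩ | ⟨a, x, ha, hx, hax, rfl⟩
  · have : Nonempty (Fin k) := ⟨⟨0, by omega⟩⟩
    obtain ⟨u, hu⟩ := exists_ne (0 : Fin k → F)
    exact hu (LinearMap.congr_fun e u)
  · obtain ⟨d, hd⟩ := G.exists_dual ha
    exact ha (by simpa [hd] using LinearMap.congr_fun e d)
  · obtain ⟨d, hd⟩ := G.exists_dual ha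
    refine hx (Submodule.mem_span_singleton.2 ⟨G.f x d, ?_⟩)
    have := LinearMap.congr_fun e d
    simp [hd, sub_eq_zero] at this
    exact this.symm

lemma pt_ne_zero (hk : 1 ≤ k) {E : Fin t → (Fin k → F) →ₗ[F] (Fin k → F)} (h : ∀ l, G.Shape (E l)) :
    pt E ≠ 0 := fun e => by
  choose z hz using fun l => show ∃ z, E l z ≠ 0 by
    by_contra! hh; exact (h l).ne_zero hk (LinearMap.ext hh)
  refine pr_ne_zero hz ?_
  rw [← pt_pr, e]; rfl

lemma op_dy (i : Fin (t + 1)) (P Q : J k t → F) (a b : Fin k → F) :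
    op i (G.dy P Q) ((G.f b).smulRight a) = G.dy (T i P a) (T i Q b) :=
  lin_ext i fun z u => by simp [B_T, smul_smul, mul_comm]

lemma pt_rank_one (c : Fin t → F) (a q : Fin t → Fin k → F) :
    pt (fun l => c l • (G.f (q l)).smulRight (a l)) = (∏ l, c l) • G.dy (pr a) (pr q) :=
  ext_pr fun p => by
    rw [pt_pr, LinearMap.smul_apply, dy_apply, B_pr, smul_smul, ← Finset.prod_mul_distrib,
      ← pr_smul_fn]
    congr 1
    funext l
    simp [smul_smul]

lemma re_of_inM (hs : G.sgn (t + 1) = 1) {p q : Fin (t + 1) → Fin k → F}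
    (hpq : G.B _ (pr p) (pr q) = 0)
    (h : InM M (G.dy (pr q) (pr p) - G.dy (pr p) (pr q))) : G.RE M (pr p) (pr q) := by
  obtain ⟨g, hg, e⟩ := h
  rw [RE, show ((eich (G.qB (t + 1)) (pr p) (pr q) : IsoGrp (G.qB (t + 1))) :
    GL (J k (t + 1)) F) = g from gl_ext fun x => ?_]
  · exact hg
  · show ap (eich (G.qB (t + 1)) (pr p) (pr q)) x = app g x
    rw [Orth.eich_ap (qB_pr p) (by rw [polar_qB hs, hpq]), polar_qB hs, polar_qB hs, qB_pr, e]
    simp
    abel

lemma cls_VS (hO : G.Ovg M) (s : Fin (t + 1)) {N : (Fin k → F) →ₗ[F] (Fin k → F)}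
    (hN : ∀ z, N (N z) = 0) : G.Cls (VS M s N) := by
  intro t' e L hL j b x h D hD
  subst e
  obtain rfl : D = sl j (G.sy b x) := Fm.ext_pr fun p => by rw [hD, sl_pr]; rfl
  set S := sl j (G.sy b x) with hS
  have conj : ∀ c : F, InM M (op s ((LinearMap.id + c • S).comp (L.comp (LinearMap.id - c • S))) N) := by
    intro c
    obtain ⟨C, hC, e⟩ := G.exists_sr b x h c
    have hg : kr (s.succAbove j) 1 C ∈ M := hO.slot _ C hC
    have eS : ∀ (C : GL (Fin k) F) (d : F), (∀ z, app C z = z + d • G.sy b x z) →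
        (app (kr (s.succAbove j) 1 C)).toLinearMap = op s (LinearMap.id + d • S) LinearMap.id := by
      intro C d e
      rw [hS, op_add_left, op_one, op_smul_left, ← sl_nest]
      refine lin_ext (s.succAbove j) fun z u => ?_
      simp [app_kr, e]
    have ei : ∀ z, app C⁻¹ z = z + (-c) • G.sy b x z := fun z => (app C).injective (by
      rw [app_app_inv]
      simp only [e, map_add, map_smul, G.sy_sq h]
      module)
    have := hL.conj hg
    rw [kr_inv, inv_one, eS C c e, eS _ _ ei] at this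
    convert this using 1
    refine lin_ext s fun z u => ?_
    simp [sub_eq_add_neg]
    module
  have hz : ∀ L L' : (J k (t' + 1) → F) →ₗ[F] (J k (t' + 1) → F), ∀ z, op s L N (op s L' N z) = 0 :=
    fun L L' z => by
      rw [op_comp, show N.comp N = 0 from LinearMap.ext hN, op_zero_right]; rfl
  have := ((conj 1).add (conj (-1)) (hz _ _)).add
    ((hL.neg (hz _ _)).add (hL.neg (hz _ _)) fun z => by simp [hz])
    fun z => by simp [hz, map_neg]
  show InM M _
  convert this using 1
  refine lin_ext s fun z u => ?_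
  simp only [op_T, LinearMap.add_apply, LinearMap.neg_apply, LinearMap.smul_apply,
    LinearMap.comp_apply, LinearMap.sub_apply, LinearMap.id_apply, map_sub, map_smul, map_add,
    map_neg, one_smul, neg_smul]
  module

/-- Operators with a position acting trivially give a big group. -/
lemma big_of_res {r : ℕ} {M : Subgroup (GL (J k (r + 1 + 1)) F)} (hO : G.Ovg M) (hr : 1 ≤ r)
    (hk : 2 ≤ k) (hk2 : r = 1 → 4 ≤ k)
    (hres : ∀ (i : Fin (r + 1 + 1)) (X : (J k (r + 1) → F) →ₗ[F] (J k (r + 1) → F)),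
      G.Adj (r + 1) X (-X) → (∀ x, X (X x) = 0) → InM M (op i X LinearMap.id)) :
    G.Big M := by
  have h22 := G.two
  have : Nonempty (Fin k) := ⟨⟨0, by omega⟩⟩
  obtain ⟨a, ha⟩ := exists_ne (0 : Fin k → F)
  obtain ⟨d, hd⟩ := G.exists_dual ha
  -- commutators of self-adjoint operators
  have comm : ∀ R R' : (J k r → F) →ₗ[F] (J k r → F), G.Adj r R R → G.Adj r R' R' →
      InM M (op 0 (op 0 (R.comp R' - R'.comp R) (G.nn a)) (G.nn a)) := by
    intro R R' hR hR'
    have one : ∀ R : (J k r → F) →ₗ[F] (J k r → F), G.Adj r R R → ∀ i,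
        InM M (op i (op 0 R (G.nn a)) LinearMap.id) := fun R hR i =>
      hres i _ (by
        have := hR.op (i := (0 : Fin (r + 1))) (G.nn_skew a)
        rwa [show op 0 R (-G.nn a) = -op 0 R (G.nn a) from
          lin_ext 0 fun z u => by simp] at this)
        fun x => by
          rw [op_comp, show (G.nn a).comp (G.nn a) = 0 from LinearMap.ext (G.nn_sq a),
            op_zero_right]; rfl
    have hY := one R' hR' (0 : Fin (r + 1)).succ
    rw [op_swap] at hY
    have hn : (G.nn a).comp (G.nn a) = 0 := LinearMap.ext (G.nn_sq a)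
    have := (one R hR 0).comm hY
      (fun x => by rw [op_comp, op_comp_eq, hn, op_zero_right, op_zero_left]; rfl)
      (fun x => by rw [op_comp, hn, op_zero_right]; rfl)
      (fun x => by
        rw [op_comp, op_comp, op_comp_eq, op_comp_eq, LinearMap.comp_id, hn, op_zero_right,
          op_zero_left]; rfl)
      (fun x => by
        rw [op_comp, op_comp, LinearMap.comp_id, hn, op_zero_right]; rfl)
    rw [op_comp_eq, op_comp_eq, op_comp_eq, op_comp_eq, LinearMap.id_comp, LinearMap.comp_id] at this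
    convert this using 1
    refine lin_ext 0 fun z u => ?_
    rw [LinearMap.sub_apply, op_T, op_T, op_T, show op 0 (R.comp R' - R'.comp R) (G.nn a) =
      op 0 (R.comp R') (G.nn a) - op 0 (R'.comp R) (G.nn a) from lin_ext 0 fun z u => by simp [smul_sub]]
    simp [smul_sub]
  have hins : ∀ p : Fin r → Fin k → F, T 0 (T 0 (pr p) a) a =
      pr (Fin.insertNth (0 : Fin (r + 1 + 1)) a (Fin.insertNth (0 : Fin (r + 1)) a p)) := fun p => by
    rw [T_pr', T_pr']
  have hnn : G.nn a = (G.f a).smulRight a := rfl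
  set P : Fin r → Fin k → F := fun _ => a
  have hPa : (Fin.insertNth (0 : Fin (r + 1 + 1)) a (Fin.insertNth (0 : Fin (r + 1)) a P)) =
      fun _ => a := funext fun l => by
    obtain rfl | ⟨m, rfl⟩ := (0 : Fin (r + 1 + 1)).eq_self_or_eq_succAbove l
    · simp
    · rw [Fin.insertNth_apply_succAbove]
      obtain rfl | ⟨m', rfl⟩ := (0 : Fin (r + 1)).eq_self_or_eq_succAbove m <;> simp [P]
  rcases Nat.even_or_odd r with hev | hodd
  · -- a root
    have hsr : G.sgn r = 1 := hev.neg_one_pow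
    set Q : Fin r → Fin k → F := fun _ => d
    have hsa : ∀ p, G.Adj r (G.dy (pr p) (pr p)) (G.dy (pr p) (pr p)) := fun p => by
      have := G.adj_dy (pr p) (pr p); rwa [hsr, one_smul] at this
    have hB : G.B r (pr P) (pr Q) = 1 := by simp [B_pr, P, Q, hd]
    have hB' : G.B r (pr Q) (pr P) = 1 := by rw [G.B_comm, hsr, hB, one_mul]
    have := comm _ _ (hsa P) (hsa Q)
    rw [show (G.dy (pr P) (pr P)).comp (G.dy (pr Q) (pr Q)) -
        (G.dy (pr Q) (pr Q)).comp (G.dy (pr P) (pr P)) = G.dy (pr P) (pr Q) - G.dy (pr Q) (pr P) from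
      LinearMap.ext fun x => by simp [hB, hB'], hnn,
      show op 0 (G.dy (pr P) (pr Q) - G.dy (pr Q) (pr P)) ((G.f a).smulRight a) =
        op 0 (G.dy (pr P) (pr Q)) ((G.f a).smulRight a) -
          op 0 (G.dy (pr Q) (pr P)) ((G.f a).smulRight a) from lin_ext 0 fun z u => by simp [smul_sub],
      op_dy, op_dy, show ∀ A B : (J k (r + 1) → F) →ₗ[F] (J k (r + 1) → F),
        op (0 : Fin (r + 1 + 1)) (A - B) ((G.f a).smulRight a) =
          op 0 A ((G.f a).smulRight a) - op 0 B ((G.f a).smulRight a) from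
        fun A B => lin_ext 0 fun z u => by simp [smul_sub],
      op_dy, op_dy, hins, hins, hPa] at this
    set q := Fin.insertNth (α := fun _ => Fin k → F) (0 : Fin (r + 1 + 1)) a (Fin.insertNth (α := fun _ => Fin k → F) (0 : Fin (r + 1)) a Q) with hq
    have hq0 : G.B (r + 1 + 1) (pr q) (pr fun _ => a) = 0 :=
      B_pr_zero 0 (by rw [hq, Fin.insertNth_apply_same, G.alt])
    obtain ⟨r', rfl⟩ : ∃ r', r = r' + 1 := ⟨r - 1, by omega⟩
    have hs : G.sgn (r' + 1 + 1 + 1) = 1 := by rw [sgn_succ, sgn_succ, hsr, neg_neg]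
    have hr2 : 2 ≤ r' + 1 := by obtain ⟨e, he⟩ := hev; omega
    refine big_of_root (p := q) (q := fun _ => a) (j := ((0 : Fin (r' + 1 + 1 + 1)).succAbove
      ((0 : Fin (r' + 1 + 1)).succAbove 0))) hs (by omega) (.inl (by omega)) hO (fun l => ?_)
      (fun _ => ha) ?_ hq0 (re_of_inM hs hq0 this)
    · rw [hq]
      obtain rfl | ⟨m, rfl⟩ := (0 : Fin (r' + 1 + 1 + 1)).eq_self_or_eq_succAbove l
      · simpa using ha
      · rw [Fin.insertNth_apply_succAbove]
        obtain rfl | ⟨m', rfl⟩ := (0 : Fin (r' + 1 + 1)).eq_self_or_eq_succAbove m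
        · simpa using ha
        · rw [Fin.insertNth_apply_succAbove]; exact fun e => by simp [Q] at e; simp [e] at hd
    · rw [hq, Fin.insertNth_apply_succAbove, Fin.insertNth_apply_succAbove]
      show G.f d a ≠ 0
      rw [G.skew, hd]; exact neg_ne_zero.2 one_ne_zero
  · -- a transvection
    have hsr : G.sgn r = -1 := hodd.neg_one_pow
    obtain ⟨Q, Q', hPQ, hPQ', hQQ⟩ : ∃ Q Q' : Fin r → Fin k → F, G.B r (pr P) (pr Q) = 0 ∧
        G.B r (pr P) (pr Q') = 0 ∧ G.B r (pr Q) (pr Q') ≠ 0 := by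
      by_cases h1 : r = 1
      · obtain ⟨b, hb, hab⟩ : ∃ b, b ∉ F ∙ a ∧ G.f a b = 0 := by
          by_contra! hh
          have hle : LinearMap.ker (G.f a) ≤ F ∙ a := fun b hb => by
            by_contra hn; exact hh b hn hb
          have h1 := Submodule.finrank_mono hle
          have h2 := (G.f a).finrank_range_add_finrank_ker
          have h3 := Submodule.finrank_le (LinearMap.range (G.f a))
          have h4 := finrank_span_le_card (R := F) ({a} : Set (Fin k → F))
          simp at h2 h3 h4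
          have := hk2 ‹r = 1›
          omega
        obtain ⟨b', hab', hbb'⟩ := G.exists_perp_one hb
        subst h1
        refine ⟨fun _ => b', fun _ => b, by simpa [B_pr, P] using hab', by simpa [B_pr, P] using hab,
          by simp [B_pr, hbb']⟩
      · let l₁ : Fin r := ⟨1, by omega⟩
        let l₀ : Fin r := ⟨0, by omega⟩
        refine ⟨fun l => if l = l₁ then d else a, fun l => if l = l₁ then a else d,
          B_pr_zero l₀ (by simp [P, l₀, l₁, G.alt]), B_pr_zero l₁ (by simp [P, G.alt]), ?_⟩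
        rw [B_pr]
        refine Finset.prod_ne_zero_iff.2 fun l _ => ?_
        by_cases hl : l = l₁
        · simp [hl, G.skew a d, hd]
        · simp [hl, hd]
    have hsa : ∀ p q, G.Adj r (G.dy (pr p) (pr q) - G.dy (pr q) (pr p))
        (G.dy (pr p) (pr q) - G.dy (pr q) (pr p)) := fun p q u v => by
      have h1 := G.adj_dy (pr p) (pr q) u v
      have h2 := G.adj_dy (pr q) (pr p) u v
      simp only [hsr, LinearMap.smul_apply, map_smul, smul_eq_mul] at h1 h2
      simp only [LinearMap.sub_apply, map_sub]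
      linear_combination h1 - h2
    have := comm _ _ (hsa P Q) (hsa Q' P)
    have hPP : G.B r (pr P) (pr P) = 0 := sgn_odd hsr _
    rw [show (G.dy (pr P) (pr Q) - G.dy (pr Q) (pr P)).comp (G.dy (pr Q') (pr P) - G.dy (pr P) (pr Q')) -
        (G.dy (pr Q') (pr P) - G.dy (pr P) (pr Q')).comp (G.dy (pr P) (pr Q) - G.dy (pr Q) (pr P)) =
        (2 * G.B r (pr Q) (pr Q')) • G.dy (pr P) (pr P) from LinearMap.ext fun x => by
          simp [hPQ, hPQ', hPP, G.B_zero_comm hPQ, G.B_zero_comm hPQ', G.B_comm (pr Q) (pr Q'), hsr]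
          module,
      op_smul_left, hnn, op_dy, op_smul_left, op_dy, hins, hPa] at this
    exact big_of_transvection hO (by rw [sgn_succ, sgn_succ, hsr, neg_neg]) (fun _ => ha)
      (mul_ne_zero h22 hQQ) this

end Fm

end Cfsg.Agent.C7F
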