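import Cfsg.Agent.Lib.C7F.Moves

/-!
# Pure operators in a set closed under second differences

* `pt E` : the pure operator `⊗ E l`; `sl i D` : `D` in position `i`; `Fm.nn a` : `z ↦ f(a,z) a`
* `Fm.Cls V` : `V` is closed under `K ↦ -2 • DKD`, `D` a skew square-zero operator of one position
* `Fm.exists_pattern` : such a set contains a pure operator with known factors
-/

set_option autoImplicit false
set_option linter.unusedSectionVars false

namespace Cfsg.Agent.C7F

open Matrix Module Cfsg.Agent.Transvect Cfsg.Agent.C7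
open scoped MatrixGroups

attribute [-simp] app_apply

variable {F : Type*} [Field F] {k t : ℕ}

/-- The pure operator. -/
noncomputable def pt (E : Fin t → (Fin k → F) →ₗ[F] (Fin k → F)) :
    (J k t → F) →ₗ[F] (J k t → F) :=
  Matrix.toLin' (Matrix.of fun g h => ∏ l, E l (Pi.single (h l) 1) (g l))

lemma pt_pr (E : Fin t → (Fin k → F) →ₗ[F] (Fin k → F)) (p : Fin t → Fin k → F) :
    pt E (pr p) = pr fun l => E l (p l) := by
  funext g
  have e : ∀ l, E l (p l) (g l) = ∑ c, p l c * E l (Pi.single c 1) (g l) := fun l => by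
    conv_lhs => rw [pi_eq_sum_univ' (p l)]
    simp [map_sum, map_smul, Finset.sum_apply]
  show (Matrix.toLin' _) (pr p) g = ∏ l, E l (p l) (g l)
  simp only [e]
  rw [Fintype.prod_sum, Matrix.toLin'_apply]
  simp only [Matrix.mulVec, dotProduct, Matrix.of_apply, pr, ← Finset.prod_mul_distrib]
  refine Finset.sum_congr rfl fun h _ => Finset.prod_congr rfl fun l _ => ?_
  ring

lemma pt_comp (E E' : Fin t → (Fin k → F) →ₗ[F] (Fin k → F)) :
    (pt E).comp (pt E') = pt fun l => (E l).comp (E' l) :=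
  Fm.ext_pr fun p => by simp [pt_pr]

/-- `D` in position `i`. -/
noncomputable def sl (i : Fin (t + 1)) (D : (Fin k → F) →ₗ[F] (Fin k → F)) :
    (J k (t + 1) → F) →ₗ[F] (J k (t + 1) → F) := op i LinearMap.id D

@[simp] lemma sl_T (i : Fin (t + 1)) (D : (Fin k → F) →ₗ[F] (Fin k → F)) (a : J k t → F)
    (u : Fin k → F) : sl i D (T i a u) = T i a (D u) := by simp [sl]

lemma sl_pr (i : Fin (t + 1)) (D : (Fin k → F) →ₗ[F] (Fin k → F)) (p : Fin (t + 1) → Fin k → F) :
    sl i D (pr p) = pr (Function.update p i (D (p i))) := by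
  rw [← T_pr i p, sl_T, T_pr']
  congr 1
  funext l
  obtain rfl | ⟨j, rfl⟩ := i.eq_self_or_eq_succAbove l <;> simp

lemma sl_nest (i : Fin (t + 2)) (j : Fin (t + 1)) (D : (Fin k → F) →ₗ[F] (Fin k → F)) :
    sl (i.succAbove j) D = op i (sl j D) LinearMap.id :=
  Fm.ext_pr fun p => by
    rw [sl_pr]
    conv_rhs => rw [← T_pr i p, op_T, sl_pr, T_pr']
    congr 1
    funext l
    obtain rfl | ⟨m, rfl⟩ := i.eq_self_or_eq_succAbove l
    · simp
    · by_cases h : m = j
      · subst h; simp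
      · rw [Function.update_of_ne (fun e => h (Fin.succAbove_right_injective e)),
          Fin.insertNth_apply_succAbove, Function.update_of_ne h]

lemma op_pt (i : Fin (t + 1)) (E : Fin t → (Fin k → F) →ₗ[F] (Fin k → F))
    (D : (Fin k → F) →ₗ[F] (Fin k → F)) : op i (pt E) D = pt (i.insertNth D E) :=
  Fm.ext_pr fun p => by
    rw [pt_pr]
    conv_lhs => rw [← T_pr i p, op_T, pt_pr, T_pr']
    congr 1
    funext l
    obtain rfl | ⟨m, rfl⟩ := i.eq_self_or_eq_succAbove l <;> simp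

/-- Contractions separate. -/
lemma ct_sep {i : Fin (t + 1)} {x y : J k (t + 1) → F} (G : Fm F k)
    (h : ∀ a, ct i (G.f a) x = ct i (G.f a) y) : x = y := by
  have hbij : Function.Injective G.f := LinearMap.ker_eq_bot.1 (LinearMap.ker_eq_bot'.2 fun u hu =>
    G.nd u fun v => by rw [show G.f u = 0 from hu]; rfl)
  rw [← sum_T_single i x, ← sum_T_single i y]
  refine Finset.sum_congr rfl fun c _ => ?_
  obtain ⟨u, hu⟩ : ∃ u, G.f u = LinearMap.proj c :=
    (LinearMap.linearEquivOfInjective G.f hbij Subspace.dual_finrank_eq.symm).surjective _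
  rw [show (fun g => x (ins i c g)) = fun g => y (ins i c g) from funext fun g => by
    simpa [ct_apply, hu] using congrFun (h u) g]

namespace Fm

variable (G : Fm F k)

/-- `z ↦ f(a,z) a`. -/
noncomputable def nn (a : Fin k → F) : (Fin k → F) →ₗ[F] (Fin k → F) := (G.f a).smulRight a

@[simp] lemma nn_apply (a z : Fin k → F) : G.nn a z = G.f a z • a := rfl

lemma sy_self (a : Fin k → F) : G.sy a a = (2 : F) • G.nn a :=
  LinearMap.ext fun z => by simp [two_smul]

lemma nn_sq (a z : Fin k → F) : G.nn a (G.nn a z) = 0 := by simp [G.alt]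

lemma nn_skew (a u v : Fin k → F) : G.f (G.nn a u) v = G.f u ((-G.nn a) v) := by
  simp [G.skew a u]; ring

lemma nn_ne_id {a : Fin k → F} (ha : a ≠ 0) : G.nn a ≠ LinearMap.id := fun h =>
  ha (by simpa [G.alt] using (LinearMap.congr_fun h a).symm)

lemma au_ne_id {a x : Fin k → F} (h : G.f a x = 0) (ha : a ≠ 0) : G.au a x ≠ LinearMap.id :=
  fun e => ha (by simpa [G.alt, G.zero_comm h] using (LinearMap.congr_fun e a).symm)

/-- Possible factors of a pattern. -/
def Shape (E : (Fin k → F) →ₗ[F] (Fin k → F)) : Prop :=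
  E = LinearMap.id ∨ (∃ a, a ≠ 0 ∧ E = G.nn a) ∨
    ∃ a x, a ≠ 0 ∧ x ∉ F ∙ a ∧ G.f a x = 0 ∧ E = G.au a x

/-- Closed under second differences. -/
def Cls (V : Set ((J k t → F) →ₗ[F] (J k t → F))) : Prop :=
  ∀ t' (e : t = t' + 1), ∀ K ∈ V, ∀ (j : Fin (t' + 1)) (b x : Fin k → F), G.f b x = 0 →
    ∀ D : (J k t → F) →ₗ[F] (J k t → F),
      (∀ p : Fin t → Fin k → F, D (pr p) =
        pr (Function.update p (j.cast e.symm) (G.sy b x (p (j.cast e.symm))))) →
      (-2 : F) • D.comp (K.comp D) ∈ V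

lemma Cls.mem {V : Set ((J k (t + 1) → F) →ₗ[F] (J k (t + 1) → F))} (hV : G.Cls V)
    {K : (J k (t + 1) → F) →ₗ[F] (J k (t + 1) → F)} (hK : K ∈ V) (j : Fin (t + 1))
    {b x : Fin k → F} (h : G.f b x = 0) :
    (-2 : F) • (sl j (G.sy b x)).comp (K.comp (sl j (G.sy b x))) ∈ V :=
  hV t rfl K hK j b x h _ fun p => by rw [sl_pr]; rfl

lemma cls_of_mem {V : Set ((J k (t + 1) → F) →ₗ[F] (J k (t + 1) → F))}
    (hV : ∀ K ∈ V, ∀ (j : Fin (t + 1)) (b x : Fin k → F), G.f b x = 0 →
      (-2 : F) • (sl j (G.sy b x)).comp (K.comp (sl j (G.sy b x))) ∈ V) : G.Cls V := by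
  intro t' e K hK j b x h D hD
  obtain rfl : t = t' := by omega
  rw [show D = sl j (G.sy b x) from Fm.ext_pr fun p => by rw [hD, sl_pr]; rfl]
  exact hV K hK j b x h

/-- The contraction of position `i`. -/
noncomputable def cC (i : Fin (t + 1)) (K : (J k (t + 1) → F) →ₗ[F] (J k (t + 1) → F))
    (a x : Fin k → F) : (J k t → F) →ₗ[F] (J k t → F) :=
  (ct i (G.f a)).comp (K.comp ((T i).flip x))

lemma cC_apply (i : Fin (t + 1)) (K : (J k (t + 1) → F) →ₗ[F] (J k (t + 1) → F))
    (a x : Fin k → F) (u : J k t → F) : G.cC i K a x u = ct i (G.f a) (K (T i u x)) := rfl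

lemma sl_smulRight (i : Fin (t + 1)) (φ : (Fin k → F) →ₗ[F] F) (x : Fin k → F)
    (w : J k (t + 1) → F) : sl i (φ.smulRight x) w = T i (ct i φ w) x :=
  LinearMap.congr_fun (lin_ext i (f := sl i (φ.smulRight x))
    (g := ((T i).flip x).comp (ct i φ)) fun a u => by simp) w

lemma sl_sy (i : Fin (t + 1)) (a x : Fin k → F) (w : J k (t + 1) → F) :
    sl i (G.sy a x) w = T i (ct i (G.f a) w) x + T i (ct i (G.f x) w) a := by
  rw [sl, sy, op_add_right, LinearMap.add_apply, ← sl, ← sl, sl_smulRight, sl_smulRight]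

lemma second_diff (i : Fin (t + 1)) (K : (J k (t + 1) → F) →ₗ[F] (J k (t + 1) → F))
    (a x : Fin k → F) (u : J k t → F) (z : Fin k → F) :
    sl i (G.sy a x) (K (sl i (G.sy a x) (T i u z))) =
      G.f a z • (T i (G.cC i K a x u) x + T i (G.cC i K x x u) a) +
      G.f x z • (T i (G.cC i K a a u) x + T i (G.cC i K x a u) a) := by
  rw [sl_T, sy_apply, map_add, map_smul, map_smul, map_add, map_add, map_smul, map_smul, map_smul,
    map_smul, sl_sy, sl_sy]
  rfl

lemma cC_add_left (i : Fin (t + 1)) (K : (J k (t + 1) → F) →ₗ[F] (J k (t + 1) → F))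
    (a b x : Fin k → F) : G.cC i K (a + b) x = G.cC i K a x + G.cC i K b x :=
  LinearMap.ext fun u => by simp [cC_apply, ct_add]

lemma cC_add_right (i : Fin (t + 1)) (K : (J k (t + 1) → F) →ₗ[F] (J k (t + 1) → F))
    (a x y : Fin k → F) : G.cC i K a (x + y) = G.cC i K a x + G.cC i K a y :=
  LinearMap.ext fun u => by simp [cC_apply]

lemma cC_smul_right (i : Fin (t + 1)) (K : (J k (t + 1) → F) →ₗ[F] (J k (t + 1) → F))
    (a x : Fin k → F) (c : F) : G.cC i K a (c • x) = c • G.cC i K a x :=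
  LinearMap.ext fun u => by simp [cC_apply]

/-- The trichotomy at one position. -/
lemma trichotomy (i : Fin (t + 1)) (K : (J k (t + 1) → F) →ₗ[F] (J k (t + 1) → F)) :
    (∃ a, a ≠ 0 ∧ G.cC i K a a ≠ 0) ∨
    ((∀ a, G.cC i K a a = 0) ∧ ∃ a x, a ≠ 0 ∧ x ∉ F ∙ a ∧ G.f a x = 0 ∧ G.cC i K a x ≠ 0) ∨
    ∃ K', K = op i K' LinearMap.id := by
  by_cases h1 : ∃ a, G.cC i K a a ≠ 0
  · obtain ⟨a, ha⟩ := h1
    refine .inl ⟨a, fun e => ha ?_, ha⟩
    exact LinearMap.ext fun u => by simp [cC_apply, e, ct_zero]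
  push Not at h1
  refine .inr ?_
  by_cases h2 : ∃ a x, a ≠ 0 ∧ x ∉ F ∙ a ∧ G.f a x = 0 ∧ G.cC i K a x ≠ 0
  · exact .inl ⟨h1, h2⟩
  push Not at h2
  refine .inr ?_
  have anti : ∀ a x, G.cC i K x a = -G.cC i K a x := fun a x => by
    have := h1 (a + x)
    rw [G.cC_add_left, G.cC_add_right, G.cC_add_right, h1, h1, zero_add, add_zero] at this
    rw [eq_neg_iff_add_eq_zero, add_comm]; exact this
  have orth : ∀ a x, a ≠ 0 → G.f a x = 0 → G.cC i K a x = 0 := fun a x ha h => by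
    by_cases hx : x ∈ F ∙ a
    · obtain ⟨c, rfl⟩ := Submodule.mem_span_singleton.1 hx
      rw [G.cC_smul_right, h1, smul_zero]
    · exact h2 a x ha hx h
  have lam : ∀ a y z, G.f a y = 1 → G.cC i K a z = G.f a z • G.cC i K a y := fun a y z hy => by
    have ha : a ≠ 0 := fun e => by simp [e] at hy
    have := orth a (z + (-G.f a z) • y) ha (by simp [hy])
    rw [G.cC_add_right, G.cC_smul_right] at this
    linear_combination (norm := module) this
  rcases subsingleton_or_nontrivial (Fin k → F) with hs | hn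
  · exact ⟨0, lin_ext i fun u z => by simp [Subsingleton.elim z 0]⟩
  obtain ⟨a₀, ha₀⟩ := exists_ne (0 : Fin k → F)
  obtain ⟨b₀, hb₀⟩ := G.exists_dual ha₀
  refine ⟨G.cC i K a₀ b₀, lin_ext i fun u z => ct_sep (i := i) G fun a => ?_⟩
  rw [op_T, LinearMap.id_apply, ct_T]
  show G.cC i K a z u = _
  suffices h : G.cC i K a z = G.f a z • G.cC i K a₀ b₀ by rw [h]; rfl
  by_cases ha : a = 0
  · subst ha; rw [map_zero, LinearMap.zero_apply, zero_smul]
    exact LinearMap.ext fun u => by simp [cC_apply, ct_zero]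
  obtain ⟨w, hw, hw₀⟩ := G.exists_both ha ha₀
  have step : ∀ a y, G.f a y = 1 → G.f a w ≠ 0 → ∀ y', G.f w y' = 1 →
      G.cC i K a y = G.cC i K w y' := fun a y hy haw y' hy' => by
    have h3 := lam a y w hy
    have h4 := lam w y' a hy'
    rw [anti a w, h3, G.skew a w] at h4
    exact smul_right_injective _ haw (show G.f a w • _ = G.f a w • _ by
      linear_combination (norm := module) -h4)
  obtain ⟨y, hy⟩ := G.exists_dual ha
  obtain ⟨y', hy'⟩ := G.exists_dual (show w ≠ 0 from fun e => hw (by simp [e]))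
  rw [lam a y z hy, step a y hy hw y' hy', ← step a₀ b₀ hb₀ hw₀ y' hy']

lemma op_sq_diff {i : Fin (t + 1)} {K : (J k (t + 1) → F) →ₗ[F] (J k (t + 1) → F)} {a : Fin k → F} :
    (sl i (G.sy a a)).comp (K.comp (sl i (G.sy a a))) =
      (4 : F) • op i (G.cC i K a a) (G.nn a) :=
  lin_ext i fun u z => by
    simp only [LinearMap.comp_apply, second_diff, LinearMap.smul_apply, op_T, nn_apply, map_smul]
    module

lemma op_au_diff {i : Fin (t + 1)} {K : (J k (t + 1) → F) →ₗ[F] (J k (t + 1) → F)} {a x : Fin k → F}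
    (h : ∀ a, G.cC i K a a = 0) :
    (sl i (G.sy a x)).comp (K.comp (sl i (G.sy a x))) = op i (G.cC i K a x) (G.au a x) :=
  lin_ext i fun u z => by
    have anti : G.cC i K x a = -G.cC i K a x := by
      have := h (a + x)
      rw [G.cC_add_left, G.cC_add_right, G.cC_add_right, h, h, zero_add, add_zero] at this
      rw [eq_neg_iff_add_eq_zero, add_comm]; exact this
    simp only [LinearMap.comp_apply, second_diff, op_T, au_apply, anti, h, LinearMap.zero_apply,
      LinearMap.neg_apply, map_zero, map_neg, map_sub, map_smul]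
    module

/-- A pure operator in a closed set. -/
theorem exists_pattern : ∀ {t : ℕ} (V : Set ((J k t → F) →ₗ[F] (J k t → F))), G.Cls V →
    ∀ K ∈ V, K ≠ 0 → ∃ (E : Fin t → (Fin k → F) →ₗ[F] (Fin k → F)) (c : F),
      (∀ l, G.Shape (E l)) ∧ c ≠ 0 ∧ c • pt E ∈ V ∧
      ((∀ d : F, K ≠ d • LinearMap.id) → ∃ l, E l ≠ LinearMap.id) := by
  intro t
  induction t with
  | zero =>
    intro V _ K hK hK0
    have hJ : ∀ p : Fin 0 → Fin k → F, pr p = fun _ => (1 : F) := fun p => funext fun g => by simp [pr]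
    set c := K (fun _ => 1) default with hc
    have e : K = c • LinearMap.id := Fm.ext_pr fun p => funext fun g => by
      simp [hJ, hc, Subsingleton.elim g default]
    refine ⟨fun l => l.elim0, c, fun l => l.elim0, fun h0 => hK0 (by rw [e, h0, zero_smul]), ?_,
      fun h => absurd e (h c)⟩
    rwa [show pt (F := F) (k := k) (fun l : Fin 0 => l.elim0) = LinearMap.id from
      Fm.ext_pr fun p => by rw [pt_pr, hJ, LinearMap.id_apply, hJ], ← e]
  | succ t ih =>
    intro V hV K hK hK0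
    have h22 := G.two
    -- recursion along a factor
    have hrec : ∀ (E₀ : (Fin k → F) →ₗ[F] (Fin k → F)), G.Shape E₀ → ∀ K' : (J k t → F) →ₗ[F] (J k t → F),
        op 0 K' E₀ ∈ V → K' ≠ 0 → ∃ (E : Fin (t + 1) → (Fin k → F) →ₗ[F] (Fin k → F)) (c : F),
          (∀ l, G.Shape (E l)) ∧ c ≠ 0 ∧ c • pt E ∈ V ∧ E 0 = E₀ ∧
          ((∀ d : F, K' ≠ d • LinearMap.id) → ∃ l, E l ≠ LinearMap.id) := by
      intro E₀ hE₀ K' hK' hK'0
      have hV' : G.Cls {L | op 0 L E₀ ∈ V} := by
        intro t' e L hL j b x h D hD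
        subst e
        obtain rfl : D = sl j (G.sy b x) := Fm.ext_pr fun p => by rw [hD, sl_pr]; rfl
        show op 0 _ E₀ ∈ V
        have := hV.mem G hL ((0 : Fin (t' + 2)).succAbove j) h
        rw [sl_nest] at this
        convert this using 1
        refine lin_ext 0 fun u z => ?_
        simp
      obtain ⟨E, c, hE, hc, hcV, hne⟩ := ih _ hV' K' hK' hK'0
      refine ⟨Fin.insertNth 0 E₀ E, c, fun l => ?_, hc, ?_, by simp, fun h => ?_⟩
      · obtain rfl | ⟨m, rfl⟩ := (0 : Fin (t + 1)).eq_self_or_eq_succAbove l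
        · rw [Fin.insertNth_apply_same]; exact hE₀
        · rw [Fin.insertNth_apply_succAbove]; exact hE m
      · rw [← op_pt, ← op_smul_left]; exact hcV
      · obtain ⟨l, hl⟩ := hne h
        exact ⟨(0 : Fin (t + 1)).succAbove l, by rwa [Fin.insertNth_apply_succAbove]⟩
    rcases G.trichotomy 0 K with ⟨a, ha, hC⟩ | ⟨h1, a, x, ha, hx, hax, hC⟩ | ⟨K', rfl⟩
    · have := hV.mem G hK 0 (G.alt a)
      rw [G.op_sq_diff, smul_smul, ← op_smul_left] at this
      obtain ⟨E, c, hE, hc, hcV, h0, -⟩ := hrec _ (.inr (.inl ⟨a, ha, rfl⟩)) _ this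
        (smul_ne_zero (mul_ne_zero (neg_ne_zero.2 h22) (by
          rw [show (4 : F) = 2 * 2 by norm_num]; exact mul_ne_zero h22 h22)) hC)
      exact ⟨E, c, hE, hc, hcV, fun _ => ⟨0, by rw [h0]; exact G.nn_ne_id ha⟩⟩
    · have := hV.mem G hK 0 hax
      rw [G.op_au_diff h1, ← op_smul_left] at this
      obtain ⟨E, c, hE, hc, hcV, h0, -⟩ := hrec _ (.inr (.inr ⟨a, x, ha, hx, hax, rfl⟩)) _ this
        (smul_ne_zero (neg_ne_zero.2 h22) hC)
      exact ⟨E, c, hE, hc, hcV, fun _ => ⟨0, by rw [h0]; exact G.au_ne_id hax ha⟩⟩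
    · obtain ⟨E, c, hE, hc, hcV, -, hne⟩ := hrec _ (.inl rfl) K' hK fun e => hK0 (by
        rw [e, op_zero_left])
      refine ⟨E, c, hE, hc, hcV, fun h => hne fun d e => h d ?_⟩
      rw [e, op_smul_left, op_one]

end Fm

end Cfsg.Agent.C7F
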