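import Cfsg.Agent.Lib.C7F.Extract

/-!
# Elements fixing a line and its perpendicular quotient

* `Fm.Scl M` : the standing hypotheses on an overgroup that is not big
* `Fm.Scl.scal` : elements `1 + S ⊗ nn a` of `M` have scalar `S`
* `Fm.Scl.rad_slot` : the elements trivial on `L` and `L^⊥/L`, `L` a line, lie in one position
-/

set_option autoImplicit false
set_option linter.unusedSectionVars false

namespace Cfsg.Agent.C7F

open Matrix Module Cfsg.Agent.Transvect Cfsg.Agent.C7
open scoped MatrixGroups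

attribute [-simp] app_apply

variable {F : Type*} [Field F] [Fintype F] {k t : ℕ}

lemma app_kr_one_sl (i : Fin (t + 1)) (C : GL (Fin k) F) (x : J k (t + 1) → F) :
    app (kr i (1 : GL (J k t) F) C) x = sl i (app C).toLinearMap x :=
  LinearMap.congr_fun (lin_ext i (f := (app (kr i (1 : GL (J k t) F) C)).toLinearMap)
    (g := sl i (app C).toLinearMap) fun a u => by simp [app_kr]) x

lemma sl_id_add (i : Fin (t + 1)) (D : (Fin k → F) →ₗ[F] (Fin k → F)) (x : J k (t + 1) → F) :
    sl i (LinearMap.id + D) x = x + sl i D x := by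
  rw [sl, op_add_right, op_one]; rfl

namespace Fm

variable {G : Fm F k}

lemma exists_rep (G : Fm F k) (φ : (Fin k → F) →ₗ[F] F) : ∃ u, ∀ v, G.f u v = φ v := by
  have hbij : Function.Injective G.f := LinearMap.ker_eq_bot.1 (LinearMap.ker_eq_bot'.2 fun u hu =>
    G.nd u fun v => by rw [show G.f u = 0 from hu]; rfl)
  obtain ⟨u, hu⟩ := (LinearMap.linearEquivOfInjective G.f hbij Subspace.dual_finrank_eq.symm).surjective φ
  exact ⟨u, fun v => LinearMap.congr_fun hu v⟩

lemma perp_perp {a b : Fin k → F} (ha : a ≠ 0) (h : ∀ v, G.f a v = 0 → G.f b v = 0) :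
    b ∈ F ∙ a := by
  obtain ⟨d, hd⟩ := G.exists_dual ha
  refine Submodule.mem_span_singleton.2 ⟨G.f b d, (sub_eq_zero.1 (G.nd _ fun v => ?_)).symm⟩
  have := h (v - G.f a v • d) (by simp [hd])
  simp only [map_sub, map_smul, smul_eq_mul] at this
  simp only [map_sub, LinearMap.sub_apply, map_smul, LinearMap.smul_apply, smul_eq_mul]
  linear_combination this

lemma B_ct (i : Fin (t + 1)) (y : J k t → F) (a : Fin k → F) (x : J k (t + 1) → F) :
    G.B (t + 1) (T i y a) x = G.B t y (ct i (G.f a) x) :=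
  LinearMap.congr_fun (lin_ext i (f := G.B (t + 1) (T i y a))
    (g := (G.B t y).comp (ct i (G.f a))) fun z u => by simp [B_T, mul_comm]) x

lemma ct_eq_zero {i : Fin (t + 1)} {a : Fin k → F} {x : J k (t + 1) → F}
    (h : ∀ y, G.B (t + 1) (T i y a) x = 0) : ct i (G.f a) x = 0 :=
  G.nd_B _ fun y => by rw [G.B_comm, ← B_ct, h, mul_zero]

lemma mem_Li_of_perp {i : Fin (t + 1)} {a : Fin k → F} {x : J k (t + 1) → F}
    (h : ∀ y b, G.f a b = 0 → G.B (t + 1) (T i y b) x = 0) : x ∈ Li i a := mem_Li_of_ct fun α hα => by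
  obtain ⟨b, hb⟩ := G.exists_rep α
  rw [show α = G.f b from LinearMap.ext fun v => (hb v).symm]
  exact ct_eq_zero fun y => h y b (G.zero_comm (by rw [hb, hα]))

/-- Operators vanishing on `L^⊥` with image in `L`. -/
lemma exists_op_nn {i : Fin (t + 1)} {a : Fin k → F} (ha : a ≠ 0)
    {X : (J k (t + 1) → F) →ₗ[F] (J k (t + 1) → F)} (hker : ∀ x, ct i (G.f a) x = 0 → X x = 0)
    (hran : ∀ x, X x ∈ Li i a) : ∃ S, X = op i S (G.nn a) := by
  obtain ⟨d, hd⟩ := G.exists_dual ha
  let S : (J k t → F) →ₗ[F] (J k t → F) := -((ct i (G.f d)).comp (X.comp ((T i).flip d)))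
  refine ⟨S, lin_ext i fun y z => ?_⟩
  have h0 := hker (T i y (z - G.f a z • d)) (by simp [hd])
  rw [map_sub, map_smul, map_sub, map_smul, sub_eq_zero] at h0
  obtain ⟨b, hb⟩ := hran (T i y d)
  rw [h0, op_T, nn_apply, map_smul]
  congr 1
  rw [← hb]
  show T i b a = T i (-ct i (G.f d) (X (T i y d))) a
  rw [← hb]
  simp [G.skew a d, hd]

/-- The standing hypotheses. -/
structure Scl (G : Fm F k) (M : Subgroup (GL (J k (t + 1)) F)) : Prop where
  hO : G.Ovg M
  hk : k = 2 ∨ 4 ≤ k
  hq : k = 2 → Fintype.card F ≠ 3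
  hIH : ∀ r, t = r + 1 → G.Maxl r
  hnb : ¬ (G.Big M ∧ ¬ (k = 2 ∧ t = 1))

variable {M : Subgroup (GL (J k (t + 1)) F)}

lemma Scl.scal (S : G.Scl M) {i : Fin (t + 1)} {a : Fin k → F} (ha : a ≠ 0)
    {K : (J k t → F) →ₗ[F] (J k t → F)} (h : InM M (op i K (G.nn a))) :
    ∃ c : F, K = c • LinearMap.id := by
  by_contra! hne
  exact S.hnb (big_of_nonscalar S.hk S.hO S.hIH ha h hne)

lemma Scl.scal' (S : G.Scl M) {i : Fin (t + 1)} {a : Fin k → F} (ha : a ≠ 0)
    {X : (J k (t + 1) → F) →ₗ[F] (J k (t + 1) → F)} (h : InM M X)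
    (hker : ∀ x, ct i (G.f a) x = 0 → X x = 0) (hran : ∀ x, X x ∈ Li i a) :
    ∃ c : F, X = c • op i LinearMap.id (G.nn a) := by
  obtain ⟨K, rfl⟩ := exists_op_nn ha hker hran
  obtain ⟨c, rfl⟩ := S.scal ha h
  exact ⟨c, op_smul_left i c _ _⟩

lemma inM_slot (hO : G.Ovg M) (i : Fin (t + 1)) (b x : Fin k → F) (h : G.f b x = 0) (c : F) :
    InM M (c • op i LinearMap.id (G.sy b x)) := by
  obtain ⟨C, hC, e⟩ := G.exists_sr b x h c
  exact ⟨_, hO.slot i C hC, fun z => by
    rw [app_kr_one_sl, show (app C).toLinearMap = LinearMap.id + c • G.sy b x from LinearMap.ext e,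
      sl_id_add, sl, op_smul_right]⟩

lemma inM_nn (hO : G.Ovg M) (i : Fin (t + 1)) (a : Fin k → F) (c : F) :
    InM M (c • op i LinearMap.id (G.nn a)) := by
  have := inM_slot hO i a a (G.alt a) (c / 2)
  rwa [sy_self, op_smul_right, smul_smul, div_mul_cancel₀ _ G.two] at this

/-- The reflection fixing `⟨a, d⟩^⊥`. -/
lemma exists_neg {a d : Fin k → F} (hd : G.f a d = 1) :
    ∃ C : GL (Fin k) F, (∀ u v, G.f (app C u) (app C v) = G.f u v) ∧ (∀ z, app C (app C z) = z) ∧
      app C a = -a ∧ app C d = -d ∧ ∀ x, G.f a x = 0 → G.f d x = 0 → app C x = x := by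
  set R : (Fin k → F) →ₗ[F] (Fin k → F) := LinearMap.id -
    (2 : F) • ((G.f a).smulRight d - (G.f d).smulRight a) with hR
  have hda : G.f d a = -1 := by rw [G.skew, hd]
  have hRR : ∀ z, R (R z) = z := fun z => by
    simp [hR, hd, hda, G.alt]
    module
  obtain ⟨C, hC⟩ := C7.exists_gl R fun u v e => by rw [← hRR u, e, hRR]
  refine ⟨C, fun u v => ?_, fun z => by rw [hC, hC, hRR], ?_, ?_, fun x h1 h2 => ?_⟩
  · rw [hC, hC]
    simp [hR, hd, hda, G.alt, G.skew a u, G.skew d u]
    ring
  · rw [hC]; simp [hR, hd, hda, G.alt]; module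
  · rw [hC]; simp [hR, hd, hda, G.alt]; module
  · rw [hC]; simp [hR, h1, h2]

lemma op_ext_decomp {i : Fin (t + 1)} {a d : Fin k → F} (hd : G.f a d = 1) {V : Type*}
    [AddCommGroup V] [Module F V] {X Y : (J k (t + 1) → F) →ₗ[F] V}
    (h1 : ∀ y, X (T i y a) = Y (T i y a)) (h2 : ∀ y, X (T i y d) = Y (T i y d))
    (h3 : ∀ y x, G.f a x = 0 → G.f d x = 0 → X (T i y x) = Y (T i y x)) : X = Y :=
  lin_ext i fun y z => by
    have hda : G.f d a = -1 := by rw [G.skew, hd]
    have e : z = G.f a z • d + (-G.f d z) • a + (z - G.f a z • d + G.f d z • a) := by module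
    have h4 := h3 y (z - G.f a z • d + G.f d z • a) (by simp [hd, G.alt]) (by simp [hda, G.alt])
    rw [e, map_add, map_add, map_add, h4]
    simp [h1, h2]

lemma pt_self_adj {E : Fin t → (Fin k → F) →ₗ[F] (Fin k → F)}
    (h : ∀ l, ∀ u v, G.f (E l u) v = G.f u (E l v)) : G.Adj t (pt E) (pt E) := fun u v =>
  LinearMap.congr_fun (LinearMap.congr_fun (ext_pr₂ (L := (G.B t).comp (pt E))
    (L' := (G.B t).compl₂ (pt E)) fun p q => by simp [pt_pr, B_pr, h]) u) v

/-- No self-adjoint root coefficient. -/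
lemma Scl.au_scal (S : G.Scl M) {i : Fin (t + 1)} {a w : Fin k → F} (ha : a ≠ 0) (hw : w ∉ F ∙ a)
    (haw : G.f a w = 0) {K : (J k t → F) →ₗ[F] (J k t → F)} (h : InM M (op i K (G.au a w))) :
    K = 0 := by
  classical
  by_contra hK
  have hk1 : 1 ≤ k := by rcases S.hk with e | e <;> omega
  obtain ⟨E, c, hE, hc, hcV, -⟩ := G.exists_pattern _ (cls_VS S.hO i (G.au_sq haw)) K h hK
  change InM M _ at hcV
  rw [op_smul_left, op_pt] at hcV
  set E' := Fin.insertNth (α := fun _ => (Fin k → F) →ₗ[F] (Fin k → F)) i (G.au a w) E with hE'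
  have hsh : ∀ l, G.Shape (E' l) := fun l => by
    obtain rfl | ⟨m, rfl⟩ := i.eq_self_or_eq_succAbove l
    · rw [hE', Fin.insertNth_apply_same]; exact .inr (.inr ⟨a, w, ha, hw, haw, rfl⟩)
    · rw [hE', Fin.insertNth_apply_succAbove]; exact hE m
  have hi : E' i = G.au a w := by rw [hE', Fin.insertNth_apply_same]
  by_cases hs : ∃ s b, b ≠ 0 ∧ E' s = G.nn b
  · obtain ⟨s, b, hb, hsb⟩ := hs
    refine S.hnb (big_of_pattern S.hk S.hO S.hIH hsh (s := s) (l := i) (fun e => ?_) hb hsb
      (by rw [hi]; exact G.au_ne_id haw ha) hc hcV)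
    obtain ⟨d, hd⟩ := G.exists_dual hb
    have h1 := G.au_self a w d d
    rw [← hi, e, hsb, nn_apply, hd, one_smul, hd, G.skew b d, hd] at h1
    exact G.two (by linear_combination h1)
  push Not at hs
  have hself : ∀ l, ∀ u v, G.f (E' l u) v = G.f u (E' l v) := fun l => by
    rcases hsh l with e | ⟨b, hb, e⟩ | ⟨b, x, -, -, -, e⟩ <;> rw [e]
    · exact fun u v => rfl
    · exact absurd e (hs l b hb)
    · exact G.au_self b x
  have hadj : G.Adj (t + 1) (pt E') (pt E') := pt_self_adj hself
  have hsq : ∀ x, pt E' (pt E' x) = 0 := fun x => by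
    rw [show pt E' (pt E' x) = ((pt E').comp (pt E')) x from rfl, pt_comp,
      pt_eq_zero i (LinearMap.ext fun z => by rw [LinearMap.comp_apply, hi, G.au_sq haw]; rfl)]
    rfl
  obtain ⟨g, hg, e⟩ := hcV
  have hneg := adj_neg_of_iso (S.hO.le hg) e fun u v => by
    simp only [LinearMap.smul_apply, map_smul, smul_eq_mul]
    rw [hadj u, hsq, map_zero, mul_zero, mul_zero]
  refine pt_ne_zero hk1 hsh (LinearMap.ext fun v => G.B_ext' fun u => ?_)
  have h1 := hneg u v
  simp only [LinearMap.smul_apply, map_smul, smul_eq_mul, LinearMap.neg_apply, map_neg,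
    LinearMap.zero_apply, map_zero] at h1 ⊢
  rw [hadj u] at h1
  exact (mul_eq_zero.1 (show (2 * c) * G.B (t + 1) u (pt E' v) = 0 by linear_combination h1)).resolve_left
    (mul_ne_zero G.two hc)

/-- Elements trivial on `L` and on `L^⊥/L` lie in one position. -/
theorem Scl.rad_slot (S : G.Scl M) {v : GL (J k (t + 1)) F} (hv : v ∈ M) {i : Fin (t + 1)}
    {a : Fin k → F} (ha : a ≠ 0) (hfix : ∀ y, app v (T i y a) = T i y a)
    (hmod : ∀ x, ct i (G.f a) x = 0 → app v x - x ∈ Li i a) :
    ∃ C : GL (Fin k) F, (∀ u w, G.f (app C u) (app C w) = G.f u w) ∧ app C a = a ∧ v = kr i 1 C := by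
  have h22 := G.two
  obtain ⟨d, hd⟩ := G.exists_dual ha
  have hda : G.f d a = -1 := by rw [G.skew, hd]
  set X : (J k (t + 1) → F) →ₗ[F] (J k (t + 1) → F) := (app v).toLinearMap - LinearMap.id with hX
  have hvX : ∀ x, app v x = x + X x := fun x => by simp [hX]
  have hXa : ∀ y, X (T i y a) = 0 := fun y => by simp [hX, hfix]
  have hXperp : ∀ x, ct i (G.f a) (X x) = 0 := fun x => ct_eq_zero fun y => by
    have := S.hO.le hv (T i y a) x
    rw [hfix, hvX, map_add] at this
    linear_combination this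
  have hXLi : ∀ x, ct i (G.f a) x = 0 → X x = T i (-ct i (G.f d) (X x)) a := fun x hx => by
    obtain ⟨b, hb⟩ := show X x ∈ Li i a from hmod x hx
    rw [← hb]
    simp [hda]
  -- the blocks are scalars
  have main : ∀ w, G.f a w = 0 → G.f d w = 0 → ∃ c : F, ∀ y, X (T i y w) = c • T i y a := by
    intro w haw hdw
    by_cases hw0 : w = 0
    · exact ⟨0, fun y => by simp [hw0]⟩
    have hwa : G.f w a = 0 := G.zero_comm haw
    have hwd : G.f w d = 0 := G.zero_comm hdw
    have hwspan : w ∉ F ∙ a := fun h => by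
      obtain ⟨c, rfl⟩ := Submodule.mem_span_singleton.1 h
      rw [map_smul, hda, smul_eq_mul, mul_neg_one, neg_eq_zero] at hdw
      exact hw0 (by rw [hdw, zero_smul])
    obtain ⟨w', haw', hdw', hww'⟩ : ∃ w', G.f a w' = 0 ∧ G.f d w' = 0 ∧ G.f w w' = 1 := by
      obtain ⟨y, hy⟩ := G.exists_dual hw0
      exact ⟨y - G.f a y • d + G.f d y • a, by simp [hd, G.alt], by simp [hda, G.alt],
        by simp [hy, hwa, hwd]⟩
    have hw'a : G.f w' a = 0 := G.zero_comm haw'
    have hw'w : G.f w' w = -1 := by rw [G.skew, hww']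
    have hw'd : G.f w' d = 0 := G.zero_comm hdw'
    have hperpL : ∀ y x, G.f a x = 0 → ct i (G.f a) (T i y x) = 0 := fun y x hx => by simp [hx]
    set Sw : (J k t → F) →ₗ[F] (J k t → F) :=
      -((ct i (G.f d)).comp (X.comp ((T i).flip w))) with hSw
    have hXw : ∀ y, X (T i y w) = T i (Sw y) a := fun y => hXLi _ (hperpL y w haw)
    set S' : (J k t → F) →ₗ[F] (J k t → F) := (ct i (G.f w)).comp (X.comp ((T i).flip d)) with hS'
    set Z := op i (-Sw) ((G.f w).smulRight a) + op i S' ((G.f a).smulRight w) +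
      op i (Sw.comp S') (G.nn a) with hZ
    have hZperp : ∀ u, ct i (G.f a) u = 0 → Z u = -T i (Sw (ct i (G.f w) u)) a := fun u hu => by
      have hZlin : Z u = T i (-Sw (ct i (G.f w) u)) a + T i (S' (ct i (G.f a) u)) w +
          T i (Sw (S' (ct i (G.f a) u))) a := by
        refine LinearMap.congr_fun (lin_ext i (f := Z)
          (g := ((T i).flip a).comp (-Sw.comp (ct i (G.f w))) + ((T i).flip w).comp (S'.comp (ct i (G.f a))) +
            ((T i).flip a).comp (Sw.comp (S'.comp (ct i (G.f a))))) fun y z => ?_) u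
        simp [hZ]
      rw [hZlin, hu]
      simp
    obtain ⟨C1, hC1, e1⟩ := G.exists_sr w w (G.alt w) 2⁻¹
    have eC1 : (app C1).toLinearMap = LinearMap.id + G.nn w := LinearMap.ext fun z => by
      show app C1 z = z + G.nn w z
      rw [e1, sy_self, LinearMap.smul_apply, smul_smul, inv_mul_cancel₀ h22, one_smul]
    have eC1' : (app C1⁻¹).toLinearMap = LinearMap.id - G.nn w := LinearMap.ext fun z => by
      refine (app C1).injective ?_
      show app C1 (app C1⁻¹ z) = app C1 (z - G.nn w z)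
      rw [app_app_inv, show app C1 (z - G.nn w z) = (app C1).toLinearMap (z - G.nn w z) from rfl, eC1]
      simp [G.alt]
    set N := sl i (G.nn w) with hN
    have hg1 := S.hO.slot i C1 hC1
    set v2 := kr i 1 C1 * v * (kr i 1 C1)⁻¹ * v⁻¹ with hv2
    have hv2M : v2 ∈ M := mul_mem (mul_mem (mul_mem hg1 hv) (inv_mem hg1)) (inv_mem hv)
    have key : (app (kr i 1 C1 * v * (kr i 1 C1)⁻¹)).toLinearMap =
        LinearMap.id + X + Z + Z.comp X := by
      have e : ∀ x, app (kr i 1 C1 * v * (kr i 1 C1)⁻¹) x =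
          (x - N x) + X (x - N x) + N (x - N x + X (x - N x)) := fun x => by
        rw [map_mul, map_mul, LinearEquiv.mul_apply, LinearEquiv.mul_apply, kr_inv, inv_one,
          app_kr_one_sl, app_kr_one_sl, eC1, eC1', sl_id_add, hvX,
          show sl i (LinearMap.id - G.nn w) x = x - N x from by
            rw [hN, sl, sl, show LinearMap.id - G.nn w = LinearMap.id + (-1 : F) • G.nn w by module,
              op_add_right, op_one, op_smul_right]
            simp [sub_eq_add_neg]]
      refine op_ext_decomp (i := i) hd (fun y => ?_) (fun y => ?_) fun y x hax hdx => ?_ <;>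
        simp only [LinearEquiv.coe_coe, e, LinearMap.add_apply, LinearMap.id_apply,
          LinearMap.comp_apply]
      · simp [hN, hXa, hwa, hZ, G.alt]
      · have hu : ct i (G.f a) (X (T i y d)) = 0 := hXperp _
        have hn : N (X (T i y d)) = T i (S' y) w := by
          rw [hN, show G.nn w = (G.f w).smulRight w from rfl, sl_smulRight]; rfl
        have hNd : N (T i y d) = 0 := by simp [hN, hwd]
        rw [hNd, sub_zero, map_add, hNd, hn, hZperp _ hu]
        simp [hZ, hwd, hd, hS']
        abel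
      · have hxw : X (T i y x) = T i (-ct i (G.f d) (X (T i y x))) a := hXLi _ (hperpL y x hax)
        have hNx : N (T i y x) = G.f w x • T i y w := by simp [hN]
        have hNa : ∀ b, N (T i b a) = 0 := fun b => by simp [hN, hwa]
        have hNw : N (T i y w) = 0 := by simp [hN, G.alt]
        rw [hZperp (X (T i y x)) (hXperp _), hNx, map_sub X, map_smul, hXw, hxw]
        simp [hNx, hNa, hNw, hwa, hZ, hax]
        module
    have hZM : InM M Z := ⟨v2, hv2M, fun x => by
      obtain ⟨x, rfl⟩ := (app v).surjective x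
      have := LinearMap.congr_fun key x
      simp only [LinearEquiv.coe_coe] at this
      rw [hv2, map_mul, LinearEquiv.mul_apply, app_inv_app, this, hvX]
      simp
      abel⟩
    set N' := op i LinearMap.id (G.sy a w') with hN'
    have hN'M : InM M N' := by simpa using inM_slot S.hO i a w' haw' 1
    have hZsq : ∀ x, Z (Z x) = 0 := fun x => by
      refine LinearMap.congr_fun (lin_ext i (f := Z.comp Z) (g := 0) fun y z => ?_) x
      simp [hZ, G.alt, haw, hwa]
    have hN'sq : ∀ x, N' (N' x) = 0 := fun x => by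
      rw [hN', op_comp, show (G.sy a w').comp (G.sy a w') = 0 from LinearMap.ext (G.sy_sq haw'),
        op_zero_right]; rfl
    have hc := hZM.comm hN'M hZsq hN'sq
      (fun x => LinearMap.congr_fun (lin_ext i (f := Z.comp (N'.comp Z)) (g := 0) fun y z => by
        simp [hZ, hN', G.alt, haw, hwa, haw', hw'a, hw'w]) x)
      (fun x => LinearMap.congr_fun (lin_ext i (f := N'.comp (Z.comp N')) (g := 0) fun y z => by
        simp [hZ, hN', G.alt, haw, hwa, haw', hw'a, hw'w]) x)
    obtain ⟨e, he⟩ := S.scal ha (K := S' - Sw) (i := i) (by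
      convert hc using 1
      refine op_ext_decomp (i := i) hd (fun y => ?_) (fun y => ?_) fun y x hax hdx => ?_
      · simp [hZ, hN', G.alt, hwa, hw'a]
      · simp [hZ, hN', G.alt, hwa, hw'a, hwd, hw'd, hd, hww', haw, haw', hw'w]
        module
      · simp [hZ, hN', G.alt, hwa, hw'a, hax, haw, haw', hw'w])
    set S0 := Sw + (e / 2) • LinearMap.id with hS0
    set R := Sw.comp S' with hR
    have hZ2 : Z + (-(e / 2)) • op i LinearMap.id (G.sy a w) =
        op i S0 (G.au a w) + op i R (G.nn a) := lin_ext i fun y z => by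
      have hS'e : S' = Sw + e • LinearMap.id := by rw [← he]; abel
      simp [hZ, hS0, hS'e, hR]
      match_scalars <;> field_simp <;> ring
    have hW : InM M (op i S0 (G.au a w) + op i R (G.nn a)) := by
      rw [← hZ2]
      refine hZM.add (inM_slot S.hO i a w haw _) fun x => ?_
      exact LinearMap.congr_fun (lin_ext i (f := Z.comp ((-(e / 2)) • op i LinearMap.id (G.sy a w)))
        (g := 0) fun y z => by simp [hZ, G.alt, haw, hwa]) x
    obtain ⟨C3, hC3, hC3i, hC3a, hC3d, hC3x⟩ := exists_neg hd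
    have hC3' : app C3⁻¹ = app C3 := LinearEquiv.ext fun z => (app C3).injective (by
      rw [app_app_inv, hC3i])
    have hW' : InM M (op i (-S0) (G.au a w) + op i R (G.nn a)) := by
      have := hW.conj (S.hO.slot i C3 hC3)
      convert this using 1
      refine lin_ext i fun y z => ?_
      have hC3z : ∀ u, G.f u (app C3 z) = G.f (app C3 u) z := fun u => by
        rw [← hC3 u (app C3 z), hC3i]
      simp [kr_inv, app_kr, hC3', hC3z, hC3a, hC3x w haw hdw, map_sub]
    have hauN : ∀ x, G.au a w (G.au a w x) = 0 := G.au_sq haw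
    have h2R := hW.add hW' fun x => LinearMap.congr_fun (lin_ext i
      (f := (op i S0 (G.au a w) + op i R (G.nn a)).comp (op i (-S0) (G.au a w) + op i R (G.nn a)))
      (g := 0) fun y z => by simp [G.alt, haw, hwa]) x
    obtain ⟨r, hr⟩ := S.scal ha (K := (2 : F) • R) (i := i) (by
      convert h2R using 1
      refine lin_ext i fun y z => ?_
      simp
      module)
    have hau : InM M (op i S0 (G.au a w)) := by
      have h3 := hW.add (inM_nn S.hO i a (-(r / 2))) fun x => LinearMap.congr_fun (lin_ext i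
        (f := (op i S0 (G.au a w) + op i R (G.nn a)).comp ((-(r / 2)) • op i LinearMap.id (G.nn a)))
        (g := 0) fun y z => by simp [G.alt, haw, hwa]) x
      convert h3 using 1
      refine lin_ext i fun y z => ?_
      have hRy : R y = (r / 2) • y := by
        have h4 := LinearMap.congr_fun hr y
        simp only [LinearMap.smul_apply, LinearMap.id_apply] at h4
        rw [div_eq_inv_mul, ← smul_smul, ← h4, inv_smul_smul₀ h22]
      simp [hRy]
      module
    refine ⟨-(e / 2), fun y => ?_⟩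
    have h5 : Sw y + (e / 2) • y = 0 := LinearMap.congr_fun (S.au_scal ha hwspan haw hau) y
    rw [hXw, eq_neg_of_add_eq_zero_left h5, ← neg_smul, map_smul, LinearMap.smul_apply]
  -- the linear part
  have hk1 : 0 < k := by rcases S.hk with h | h <;> omega
  have : Nonempty (Fin k) := ⟨⟨0, hk1⟩⟩
  obtain ⟨y₀, hy₀⟩ := exists_ne (0 : J k t → F)
  obtain ⟨ψ, hψ⟩ := C7.exists_dual hy₀
  let φ : (Fin k → F) →ₗ[F] F := -(ψ.comp ((ct i (G.f d)).comp (X.comp (T i y₀))))
  obtain ⟨z, hz⟩ := G.exists_rep φ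
  have hza : G.f a z = 0 := G.zero_comm (by simp [hz, φ, hXa])
  have hlin : ∀ y x, G.f a x = 0 → X (T i y x) = G.f z x • T i y a := by
    intro y x hax
    obtain ⟨c, hc⟩ := main (x + G.f d x • a) (by simp [hax, G.alt]) (by simp [hda])
    have e : ∀ y, X (T i y x) = c • T i y a := fun y => by
      have := hc y
      simp [hXa] at this
      exact this
    rw [e, hz]
    congr 1
    simp [φ, e, hda, hψ]
  obtain ⟨C4', hC4, e4⟩ := G.exists_sr a z hza 1
  set g4 := kr i (1 : GL (J k t) F) C4' with hg4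
  have hg4M : g4 ∈ M := S.hO.slot i C4' hC4
  have hg4v : ∀ y b, G.f a b = 0 → app (g4⁻¹ * v) (T i y b) = T i y b := fun y b hb => by
    rw [map_mul, LinearEquiv.mul_apply]
    apply (app g4).injective
    rw [app_app_inv, hvX, hlin y b hb, hg4, app_kr, e4]
    simp [hb]
  set v4 := g4⁻¹ * v
  have hv4 : v4 ∈ M := mul_mem (inv_mem hg4M) hv
  set X4 := (app v4).toLinearMap - LinearMap.id with hX4
  obtain ⟨r, hr⟩ := S.scal' (i := i) ha (X := X4) ⟨v4, hv4, fun x => by simp [hX4]⟩
    (fun x hx => by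
      have hx' : sl i (LinearMap.id - (G.f a).smulRight d) x = x := by
        rw [sl, show LinearMap.id - (G.f a).smulRight d = LinearMap.id + (-1 : F) • (G.f a).smulRight d
          by module, op_add_right, op_one, op_smul_right]
        simp only [LinearMap.add_apply, LinearMap.id_apply, LinearMap.smul_apply]
        rw [← sl, sl_smulRight, hx]
        simp
      rw [← hx']
      refine LinearMap.congr_fun (lin_ext i
        (f := X4.comp (sl i (LinearMap.id - (G.f a).smulRight d))) (g := 0) fun y z => ?_) x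
      rw [LinearMap.comp_apply, sl_T, hX4, LinearMap.sub_apply, LinearEquiv.coe_coe, LinearMap.id_apply,
        hg4v _ _ (by simp [hd]), sub_self, LinearMap.zero_apply])
    (fun x => mem_Li_of_perp fun y b hb => by
      have := S.hO.le hv4 (T i y b) x
      rw [hg4v y b hb] at this
      rw [hX4, LinearMap.sub_apply, LinearEquiv.coe_coe, LinearMap.id_apply, map_sub, this, sub_self])
  obtain ⟨D, hD, eD⟩ := G.exists_sr a a (G.alt a) (r / 2)
  refine ⟨C4' * D, fun u w => by simp only [map_mul, LinearEquiv.mul_apply, hC4, hD], ?_, ?_⟩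
  · rw [map_mul, LinearEquiv.mul_apply, eD, e4]; simp [G.alt, G.zero_comm hza]
  · rw [show v = g4 * v4 by simp [v4], show kr i (1 : GL (J k t) F) (C4' * D) = g4 * kr i 1 D by
      rw [hg4, kr_mul, one_mul]]
    congr 1
    refine gl_ext_T i fun y w => ?_
    have h6 := LinearMap.congr_fun hr (T i y w)
    simp only [hX4, LinearMap.sub_apply, LinearEquiv.coe_coe, LinearMap.id_apply,
      LinearMap.smul_apply, op_T, sub_eq_iff_eq_add'] at h6
    rw [h6, app_kr, eD]
    simp [sy_self]
    match_scalars <;> field_simp <;> ring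

end Fm

end Cfsg.Agent.C7F
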