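import Cfsg.Agent.Lib.C7F.Pattern
import Cfsg.Agent.Lib.C7.Wreath
import Mathlib.GroupTheory.Perm.Sign

/-!
# Restriction to all positions but one

* `res i M` : the `A` with `A ⊗ 1 ∈ M`; `Fm.Ovg.res`
* `Fm.Maxl t` : the dichotomy with `t + 1` positions
* `Fm.Big.inM` : skew square-zero operators give elements of a big group
* `Fm.not_mem_Wr` : `1 + P ⊗ nn a` is not in the wreath group
-/

set_option autoImplicit false
set_option linter.unusedSectionVars false

namespace Cfsg.Agent.C7F

open Matrix Module Cfsg.Agent.Transvect Cfsg.Agent.C7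
open scoped MatrixGroups

attribute [-simp] app_apply

variable {F : Type*} [Field F] {k t : ℕ}

/-- `A ↦ A ⊗ 1`. -/
noncomputable def kh (F : Type*) [Field F] (k : ℕ) {t : ℕ} (i : Fin (t + 1)) :
    GL (J k t) F →* GL (J k (t + 1)) F where
  toFun A := kr i A 1
  map_one' := kr_one i
  map_mul' A A' := by rw [kr_mul, one_mul]

/-- The elements of `M` in the positions other than `i`. -/
noncomputable def res (i : Fin (t + 1)) (M : Subgroup (GL (J k (t + 1)) F)) :
    Subgroup (GL (J k t) F) := M.comap (kh F k i)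

lemma mem_res_iff {i : Fin (t + 1)} {M : Subgroup (GL (J k (t + 1)) F)} {A : GL (J k t) F} :
    A ∈ res i M ↔ kr i A 1 ∈ M := Iff.rfl

lemma app_kr_one (i : Fin (t + 1)) (A : GL (J k t) F) :
    (app (kr i A (1 : GL (Fin k) F))).toLinearMap = op i (app A).toLinearMap LinearMap.id :=
  lin_ext i fun a u => by simp [app_kr]

lemma kr_nest (i : Fin (t + 2)) (j : Fin (t + 1)) (C : GL (Fin k) F) :
    kr i (kr j 1 C) 1 = kr (i.succAbove j) 1 C := gl_ext fun x => by
  have h := LinearMap.congr_fun (sl_nest (F := F) i j (app C).toLinearMap) x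
  have e : ∀ {s : ℕ} (l : Fin (s + 1)),
      (app (kr l (1 : GL (J k s) F) C)).toLinearMap = sl l (app C).toLinearMap := fun l =>
    lin_ext l fun a u => by simp [app_kr]
  calc app (kr i (kr j 1 C) 1) x
      = op i (app (kr j 1 C)).toLinearMap LinearMap.id x := LinearMap.congr_fun (app_kr_one i _) x
    _ = app (kr (i.succAbove j) 1 C) x := by
        rw [e, ← h, ← e]; rfl

lemma InM.lift {i : Fin (t + 1)} {M : Subgroup (GL (J k (t + 1)) F)}
    {X : (J k t → F) →ₗ[F] (J k t → F)} (h : InM (res i M) X) : InM M (op i X LinearMap.id) := by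
  obtain ⟨g, hg, e⟩ := h
  refine ⟨kr i g 1, hg, fun x => ?_⟩
  have : (app (kr i g (1 : GL (Fin k) F))).toLinearMap = LinearMap.id + op i X LinearMap.id := by
    rw [app_kr_one, show (app g).toLinearMap = LinearMap.id + X from LinearMap.ext e, op_add_left,
      op_one]
  exact LinearMap.congr_fun this x

lemma sign_extPerm (i : Fin (t + 1)) (σ : Equiv.Perm (Fin t)) :
    Equiv.Perm.sign (extPerm i σ) = Equiv.Perm.sign σ := by
  have e : extPerm i σ = σ.extendDomain (finSuccAboveEquiv i) := Equiv.ext fun l => by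
    obtain rfl | ⟨j, rfl⟩ := i.eq_self_or_eq_succAbove l
    · rw [extPerm_self, Equiv.Perm.extendDomain_apply_not_subtype _ _ (by simp)]
    · rw [extPerm_succAbove, show i.succAbove j = ((finSuccAboveEquiv i) j : Fin (t + 1)) from rfl,
        Equiv.Perm.extendDomain_apply_image]
      rfl
  rw [e, Equiv.Perm.sign_extendDomain]

namespace Fm

variable {G : Fm F k}

lemma IsPerm.kr_left (i : Fin (t + 1)) {σ : Equiv.Perm (Fin t)} {g : GL (J k t) F}
    (h : G.IsPerm σ g) : G.IsPerm (extPerm i σ) (kr i g 1) := by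
  intro x y
  rw [kr_val, h, Units.val_one, Matrix.one_apply]
  by_cases hxy : y = x ∘ extPerm i σ
  · rw [if_pos hxy, if_pos, if_pos, one_mul]
    · funext j; simp [hxy, extPerm_succAbove]
    · simp [hxy, extPerm_self]
  · rw [if_neg hxy]
    by_cases h1 : x i = y i
    · rw [if_pos h1, one_mul, if_neg]
      intro h2
      refine hxy (funext fun p => ?_)
      obtain hp | ⟨p', rfl⟩ := i.eq_self_or_eq_succAbove p
      · simp [hp, extPerm_self, h1]
      · simpa [extPerm_succAbove] using congrFun h2 p'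
    · rw [if_neg h1, zero_mul]

lemma Ovg.res {M : Subgroup (GL (J k (t + 2)) F)} (hO : G.Ovg M) (hk : 1 ≤ k) (i : Fin (t + 2)) :
    G.Ovg (C7F.res i M) where
  le := by
    intro A hA x y
    have : Nonempty (Fin k) := ⟨⟨0, by omega⟩⟩
    obtain ⟨u, hu⟩ := exists_ne (0 : Fin k → F)
    obtain ⟨v, hv⟩ := G.exists_dual hu
    have := hO.le (show kr i A 1 ∈ M from hA) (T i x u) (T i y v)
    rw [app_kr, app_kr, B_T, B_T, map_one, LinearEquiv.coe_one, id_eq, id_eq, hv, mul_one,
      mul_one] at this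
    exact this
  slot j C hC := by rw [mem_res_iff, kr_nest]; exact hO.slot _ C hC
  perm σ g hσ hg := mem_res_iff.2 (hO.perm _ _ (by rw [sign_extPerm, hσ]) (hg.kr_left i))

variable (G) in
/-- With `t + 1` positions: in the wreath group, or big. -/
def Maxl (t : ℕ) : Prop :=
  ∀ M : Subgroup (GL (J k (t + 1)) F), G.Ovg M →
    M ≤ Wr F k (t + 1) ∨ (G.Big M ∧ ¬ (k = 2 ∧ t = 1))

lemma unip_iso {X : (J k t → F) →ₗ[F] (J k t → F)} (hX : G.Adj t X (-X)) (h2 : ∀ x, X (X x) = 0) :
    C4.unip X ∈ G.isoGrp t := by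
  intro x y
  rw [C4.unip_apply h2, C4.unip_apply h2]
  simp only [map_add, LinearMap.add_apply, hX x, LinearMap.neg_apply, map_neg, h2, map_zero]
  simp

lemma Big.inM {M : Subgroup (GL (J k t) F)} (h : G.Big M) {X : (J k t → F) →ₗ[F] (J k t → F)}
    (hX : G.Adj t X (-X)) (h2 : ∀ x, X (X x) = 0) : InM M X := by
  have h22 := G.two
  have hq : ∀ x, ((2 : F)⁻¹ • X) (((2 : F)⁻¹ • X) x) = 0 := fun x => by simp [h2]
  have hA : G.Adj t ((2 : F)⁻¹ • X) (-((2 : F)⁻¹ • X)) := fun u v => by
    simp [hX u v]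
  refine ⟨_, h _ (unip_iso hA hq), fun x => ?_⟩
  rw [map_mul, LinearEquiv.mul_apply, C4.unip_apply hq, C4.unip_apply hq]
  simp only [map_add, hq, LinearMap.smul_apply]
  simp only [map_smul, h2, smul_zero, add_zero]
  match_scalars <;> field_simp <;> ring

/-- `1 + P ⊗ nn a` is not in the wreath group, `P` square zero. -/
lemma not_mem_Wr [Fintype F] (hk : 2 ≤ k) {i : Fin (t + 1)} {P : (J k t → F) →ₗ[F] (J k t → F)}
    (hP : P ≠ 0) (hP2 : ∀ x, P (P x) = 0) {a : Fin k → F} (ha : a ≠ 0) {g : GL (J k (t + 1)) F}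
    (hg : ∀ x, app g x = x + op i P (G.nn a) x) : g ∉ Wr F k (t + 1) := fun h => by
  obtain ⟨l, X, B, e⟩ := exists_form h i
  obtain ⟨d, hd⟩ := G.exists_dual ha
  have e1 : ∀ z, T i z a = T l (app X z) (app B a) := fun z => by
    rw [← e, hg, op_T, nn_apply, G.alt, zero_smul, map_zero, add_zero]
  have hBa : app B a ≠ 0 := fun h0 => ha ((app B).map_eq_zero_iff.1 h0)
  obtain ⟨hil, hspan⟩ := of_Li_le hk ha hBa (show Li i a ≤ Li l (app B a) by
    rintro _ ⟨z, rfl⟩; exact ⟨app X z, (e1 z).symm⟩)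
  subst hil
  obtain ⟨β, hβ⟩ := Submodule.mem_span_singleton.1 hspan
  have hX : ∀ z, app X z = β • z := fun z => by
    have h1 := e1 z
    conv_lhs at h1 => rw [← hβ, map_smul, ← LinearMap.smul_apply, ← map_smul]
    exact (T_inj_left hBa h1).symm
  have hPs : ∀ z, P z = (G.f d (app B d) * β * -1) • z := fun z => by
    have h1 := congrArg (ct i (G.f d)) (e z d)
    rw [hg, op_T, map_add, nn_apply, ct_T, ct_T, ct_T, hX, G.alt, map_smul, hd,
      smul_eq_mul, one_mul, G.skew a d, hd] at h1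
    linear_combination (norm := module) -h1
  refine hP (LinearMap.ext fun z => ?_)
  have h2 := hP2 z
  rw [hPs, hPs, smul_smul, smul_eq_zero] at h2
  rw [hPs, LinearMap.zero_apply]
  rcases h2 with h2 | h2
  · rw [mul_self_eq_zero.1 h2, zero_smul]
  · rw [h2, smul_zero]

end Fm

end Cfsg.Agent.C7F
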